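import Cfsg.Agent.J3Type.Letters
import Cfsg.Agent.J3Type.Cert.VarCheck

/-!
The bad gluing makes all letters centralise the first involution of the complement, which is absurd.
-/

set_option autoImplicit false
set_option linter.unusedSectionVars false
set_option synthInstance.maxSize 1000

namespace Cfsg.Lib.J3Type

open Subgroup Equiv Cfsg.Lib.HallJankoType
open Cfsg.Lib.CosetCert (wval)

theorem var_rels : Var.rels.all (okRel badVar) = true := by decide +kernel

theorem var_subs : Var.cert.subs.all (fun l => [0, 3, 4, 7, 8, 9].contains l) = true := by decide +kernel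

theorem moved : nMat (s1Mat 4) ≠ s1Mat (nMat 4) := by decide +kernel

open Cfsg.Lib.CosetCert in
/-- A certificate with one coset puts every letter into the subgroup. -/
theorem cert_one {H : Type*} [Group H] {C : Cert} {R : List (List ℕ)} (hv : C.Valid R) (h1 : C.fin.length = 1)
    {im : ℕ → H} (hinv : ∀ l, im l * im l = 1) (hR : ∀ r ∈ R, wval im r = 1) {P : Subgroup H}
    (hsub : ∀ s ∈ C.subs, im s ∈ P) {l : ℕ} (hl : l < C.ng) : im l ∈ P := by
  obtain ⟨k, hk⟩ := List.length_eq_one_iff.1 h1
  set L := Subgroup.closure (im '' Set.Iio C.ng)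
  obtain ⟨i, hi, h⟩ := exists_coset C im (K := P) (L := L) hv (fun l _ => hinv l) hR (fun _ _ l _ => hinv l) hsub le_rfl
    (g := 1) (one_mem _)
  obtain ⟨j, hj, h'⟩ := exists_coset C im (K := P) (L := L) hv (fun l _ => hinv l) hR (fun _ _ l _ => hinv l) hsub le_rfl
    (subset_closure ⟨l, hl, rfl⟩)
  rw [hk, List.mem_singleton] at hi hj
  subst hi hj
  rw [one_mul, inv_mem_iff] at h
  simpa using P.mul_mem h' h

variable {G : Type*} [Group G] [Finite G] {z : G} {a : Fin 5 → G} {ρ : P5 → G} {K : Coord z a ρ}

/-- The bad gluing does not occur. -/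
theorem NX.bad_false {n x : G} (X : NX K n x 0) : False := by
  classical
  set S := K.ev s1C with hS
  have hs : S * S = 1 := by rw [hS, K.ev_mul (by decide +kernel) (by decide +kernel),
    show cmulC s1C s1C = coneC by decide +kernel, K.ev_one]
  set P := centralizer ({S} : Set G) with hP
  have hsub : ∀ l ∈ Var.cert.subs, K.letters n badVar l ∈ P := by
    intro l hl
    have hl' : l ∈ lettersG := by
      have h := List.all_eq_true.1 var_subs l hl
      simp only [List.contains_iff_mem, List.mem_cons, List.mem_nil_iff, or_false, lettersG] at h ⊢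
      tauto
    have h3 : (3 : ℕ) ∈ lettersG := by decide
    have e3 := X.conj_letter badVar h3
    have el := X.conj_letter badVar hl'
    have hz : Commute z (K.ev (codeG badVar l)) :=
      (mem_Cz.1 (K.ev_mem (NX.var_even (c := badVar) (e := 0) badVar_ok hl').1)).symm
    rw [show codeG badVar 3 = zC from rfl, K.ev_zC] at e3
    rw [hP, mem_centralizer_singleton_iff]
    have hz' : Commute (MulAut.conj (K.gEl n) (K.letters n badVar 3)) (MulAut.conj (K.gEl n) (K.letters n badVar l)) := by
      rw [MulAut.conj_apply, MulAut.conj_apply, e3, el]; exact hz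
    have h : Commute S (K.letters n badVar l) := by
      have := hz'.of_map (MulAut.conj (K.gEl n)).injective
      simpa [Coord.letters, codeC] using this
    exact h.symm.eq
  have hn : n ∈ P := by
    have h := cert_one Var.valid Var.fins_length (X.letters_sq badVar_ok)
      (fun r hr => X.okRel_sound badVar_ok (List.all_eq_true.1 var_rels r hr)) hsub (l := 6) (by decide +kernel)
    simpa [Coord.letters] using h
  rw [hP, mem_centralizer_singleton_iff] at hn
  have hS' : K.Acts S s1Mat := K.acts_code (by decide +kernel) (by decide +kernel)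
  exact moved (K.acts_unique (K.acts_mul X.actn hS') (hn ▸ K.acts_mul hS' X.actn) 4)

/-- The gluing is the good one. -/
theorem Coord.exists_good (K : Coord z a ρ) (hone : ∀ x y : G, orderOf x = 2 → orderOf y = 2 → IsConj x y) :
    ∃ n x, NX K n x 2 := by
  obtain ⟨n, x, e, he, X⟩ := K.exists_nx hone
  rcases he with rfl | rfl
  · exact ⟨n, x, X⟩
  · exact X.bad_false.elim

end Cfsg.Lib.J3Type
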