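import Cfsg.Agent.J3Type.Quot
import Cfsg.Agent.J3Type.Cert.Col001Check
import Cfsg.Agent.J3Type.Cert.Col010Check
import Cfsg.Agent.J3Type.Cert.Col011Check
import Cfsg.Agent.J3Type.Cert.Col020Check
import Cfsg.Agent.J3Type.Cert.Col021Check
import Cfsg.Agent.J3Type.Cert.Col100Check
import Cfsg.Agent.J3Type.Cert.Col101Check
import Cfsg.Agent.J3Type.Cert.Col110Check
import Cfsg.Agent.J3Type.Cert.Col111Check
import Cfsg.Agent.J3Type.Cert.Col120Check
import Cfsg.Agent.J3Type.Cert.Col121Check

/-!
Eleven of the twelve possible relations collapse the group.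
-/

set_option autoImplicit false
set_option linter.unusedSectionVars false
set_option synthInstance.maxSize 1000

namespace Cfsg.Lib.J3Type

open Subgroup Equiv Cfsg.Lib.HallJankoType
open Cfsg.Lib.CosetCert (wval Cert)

/-- every relation is recognised or one of the two extra ones -/
def relsOK (R : List (List ℕ)) (r₁ r₂ : List ℕ) : Bool :=
  R.all fun r => r == r₁ || r == r₂ || okRel goodVar r

theorem col001_ok : relsOK Col001.rels (selWord 0 0) (conjWord 0 1) = true := by decide +kernel

theorem col010_ok : relsOK Col010.rels (selWord 0 1) (conjWord 0 0) = true := by decide +kernel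

theorem col011_ok : relsOK Col011.rels (selWord 0 1) (conjWord 0 1) = true := by decide +kernel

theorem col020_ok : relsOK Col020.rels (selWord 0 2) (conjWord 0 0) = true := by decide +kernel

theorem col021_ok : relsOK Col021.rels (selWord 0 2) (conjWord 0 1) = true := by decide +kernel

theorem col100_ok : relsOK Col100.rels (selWord 1 0) (conjWord 1 0) = true := by decide +kernel

theorem col101_ok : relsOK Col101.rels (selWord 1 0) (conjWord 1 1) = true := by decide +kernel

theorem col110_ok : relsOK Col110.rels (selWord 1 1) (conjWord 1 0) = true := by decide +kernel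

theorem col111_ok : relsOK Col111.rels (selWord 1 1) (conjWord 1 1) = true := by decide +kernel

theorem col120_ok : relsOK Col120.rels (selWord 1 2) (conjWord 1 0) = true := by decide +kernel

theorem col121_ok : relsOK Col121.rels (selWord 1 2) (conjWord 1 1) = true := by decide +kernel

theorem v_moves : ([0, 13, 7, 10] : List (Fin 16)).all (fun m => decide (cconj goodVar.v (eOf 13) ≠ eOf m)) = true := by
  decide +kernel

theorem fixed_low : ∀ m : Fin 16, cmulC (eOf m) s1C = cmulC s1C (eOf m) → m = 0 ∨ m = 1 ∨ m = 2 ∨ m = 3 := by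
  decide +kernel

theorem low_images : sameNF [.n, .b, .n, .e 3, .n, .b, .n] [.e 7] = true ∧
    sameNF [.n, .b, .n, .e 2, .n, .b, .n] [.e 10] = true ∧ cconj wC (eOf 2) = eOf 3 ∧ cconj wC (eOf 3) = eOf 2 := by
  decide +kernel

variable {G : Type*} [Group G] [Finite G] {z : G} {a : Fin 5 → G} {ρ : P5 → G} {K : Coord z a ρ}

namespace NX

variable {n x : G} (X : NX K n x 2)
include X

theorem rels_hold {R : List (List ℕ)} {r₁ r₂ : List ℕ} (h : relsOK R r₁ r₂ = true)
    (h₁ : wval (K.letters n goodVar) r₁ = 1) (h₂ : wval (K.letters n goodVar) r₂ = 1) :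
    ∀ r ∈ R, wval (K.letters n goodVar) r = 1 := by
  intro r hr
  simp only [relsOK, List.all_eq_true, Bool.or_eq_true, beq_iff_eq] at h
  rcases h r hr with (rfl | rfl) | h'
  exacts [h₁, h₂, X.okRel_sound goodVar_ok h']

theorem collapseC {C : Cert} {R : List (List ℕ)} (hv : C.Valid R) (h1 : C.fin.length = 1) {r₁ r₂ : List ℕ}
    (h : relsOK R r₁ r₂ = true) (h₁ : wval (K.letters n goodVar) r₁ = 1) (h₂ : wval (K.letters n goodVar) r₂ = 1)
    (hs : (C.subs.all fun l => decide (l < 6)) && decide (6 < C.ng) = true) : False := by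
  simp only [Bool.and_eq_true, List.all_eq_true, decide_eq_true_eq] at hs
  have hsub : ∀ l ∈ C.subs, K.letters n goodVar l ∈ Cz z := fun l hl => by
    rw [Coord.letters, if_pos (hs.1 l hl)]
    exact K.ev_mem (codeC_ok l (hs.1 l hl)).1
  have h6 := cert_one hv h1 (X.letters_sq goodVar_ok) (X.rels_hold h h₁ h₂) hsub hs.2
  have hn : n ∈ Cz z := by simpa [Coord.letters] using h6
  have e : n * z * n⁻¹ = z := mul_inv_eq_iff_eq_mul.2 (mem_Cz.1 hn).eq
  rw [← K.el_one, X.actn 1] at e
  exact absurd (K.el_inj e) (by decide +kernel)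

theorem collapseN {C : Cert} {R : List (List ℕ)} (hv : C.Valid R) (h1 : C.fin.length = 1) {r₁ r₂ : List ℕ}
    (h : relsOK R r₁ r₂ = true) (h₁ : wval (K.letters n goodVar) r₁ = 1) (h₂ : wval (K.letters n goodVar) r₂ = 1)
    (hs : (C.subs.all fun l => [0, 1, 2, 3, 4, 6].contains l) && decide (7 < C.ng) = true) : False := by
  simp only [Bool.and_eq_true, List.all_eq_true, decide_eq_true_eq, List.contains_iff_mem] at hs
  let P : Subgroup G := {
    carrier := {h | (∃ f, K.Acts h f) ∧ ∃ f, K.Acts h⁻¹ f}
    one_mem' := ⟨⟨id, K.acts_one⟩, ⟨id, by rw [inv_one]; exact K.acts_one⟩⟩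
    mul_mem' := fun {g h} ⟨⟨f, hf⟩, f', hf'⟩ ⟨⟨k, hk⟩, k', hk'⟩ =>
      ⟨⟨_, K.acts_mul hf hk⟩, ⟨_, by rw [mul_inv_rev]; exact K.acts_mul hk' hf'⟩⟩
    inv_mem' := fun {g} ⟨h, h'⟩ => ⟨h', by rw [inv_inv]; exact h⟩ }
  have memP : ∀ {t : G}, t * t = 1 → (∃ f, K.Acts t f) → t ∈ P := fun {t} ht hf =>
    ⟨hf, by rw [inv_eq_of_mul_eq_one_right ht]; exact hf⟩
  have hsub : ∀ l ∈ C.subs, K.letters n goodVar l ∈ P := by
    intro l hl
    refine memP (X.letters_sq goodVar_ok l) ?_
    have := hs.1 l hl
    simp only [List.mem_cons, List.mem_nil_iff, or_false] at this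
    rcases this with rfl | rfl | rfl | rfl | rfl | rfl
    · exact ⟨id, K.acts_el 1⟩
    · exact ⟨id, K.acts_el 4⟩
    · exact ⟨id, K.acts_el 9⟩
    · exact ⟨s1Mat, K.acts_code (x := s1C) (by decide +kernel) (by decide +kernel)⟩
    · exact ⟨s2Mat, K.acts_code (x := s2C) (by decide +kernel) (by decide +kernel)⟩
    · exact ⟨nMat, X.actn⟩
  obtain ⟨⟨f, hf⟩, -⟩ := cert_one hv h1 (X.letters_sq goodVar_ok) (X.rels_hold h h₁ h₂) hsub hs.2
  set g := MulAut.conj (K.gEl n) with hg
  have e0 : g (K.el 1) = K.el 13 := X.conj_letter goodVar (l := 0) (by decide)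
  have e3 : g (K.ev s1C) = z := (X.conj_letter goodVar (l := 3) (by decide)).trans K.ev_zC
  have e7 : g (K.letters n goodVar 7) = K.ev goodVar.v := X.conj_letter goodVar (l := 7) (by decide)
  have key := congrArg g (hf 1)
  rw [map_mul, map_mul, map_inv, e0, e7, Coord.el, K.ev_conj (by decide +kernel) (eOf_even 13)] at key
  have hcom : Commute (K.el (f 1)) (K.ev s1C) := by
    refine Commute.of_map g.injective ?_
    rw [← key, e3]
    exact (mem_Cz.1 (K.ev_mem (by decide +kernel))).symm.symm
  have hm := fixed_low (f 1) ((K.ev_commute_iff (eOf_even _) (by decide +kernel)).1 hcom)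
  have himg : ∀ m' : Fin 16, m' ∈ ([0, 13, 7, 10] : List (Fin 16)) → g (K.el (f 1)) = K.el m' → False := by
    intro m' hm' e
    rw [e] at key
    have hne := List.all_eq_true.1 v_moves m' hm'
    simp only [decide_eq_true_eq] at hne
    exact hne (K.ev_inj (by decide +kernel) (eOf_even m') key)
  rcases hm with e | e | e | e <;> rw [e] at himg
  · exact himg 0 (by simp) (by rw [K.el_zero, map_one])
  · exact himg 13 (by simp) e0
  · exact himg 7 (by simp) (X.wa_conj (m := 3) (by
      rw [Coord.el, K.ev_conj (by decide +kernel) (eOf_even 2), low_images.2.2.1]; rfl) low_images.1)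
  · exact himg 10 (by simp) (X.wa_conj (m := 2) (by
      rw [Coord.el, K.ev_conj (by decide +kernel) (eOf_even 3), low_images.2.2.2]; rfl) low_images.2.1)

/-- The surviving relations. -/
theorem good_rels : wval (K.letters n goodVar) (selWord 0 0) = 1 ∧ wval (K.letters n goodVar) (conjWord 0 0) = 1 := by
  obtain ⟨sv, j, k, hsv, hj, hk', hs, hk⟩ := X.six_cases
  interval_cases sv <;> interval_cases j <;> interval_cases k
  · exact ⟨hs, hk⟩
  all_goals exfalso
  · exact X.collapseN Col001.valid Col001.fins_length col001_ok hs hk (by decide +kernel)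
  · exact X.collapseN Col010.valid Col010.fins_length col010_ok hs hk (by decide +kernel)
  · exact X.collapseN Col011.valid Col011.fins_length col011_ok hs hk (by decide +kernel)
  · exact X.collapseN Col020.valid Col020.fins_length col020_ok hs hk (by decide +kernel)
  · exact X.collapseN Col021.valid Col021.fins_length col021_ok hs hk (by decide +kernel)
  · exact X.collapseC Col100.valid Col100.fins_length col100_ok hs hk (by decide +kernel)
  · exact X.collapseN Col101.valid Col101.fins_length col101_ok hs hk (by decide +kernel)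
  · exact X.collapseN Col110.valid Col110.fins_length col110_ok hs hk (by decide +kernel)
  · exact X.collapseN Col111.valid Col111.fins_length col111_ok hs hk (by decide +kernel)
  · exact X.collapseN Col120.valid Col120.fins_length col120_ok hs hk (by decide +kernel)
  · exact X.collapseN Col121.valid Col121.fins_length col121_ok hs hk (by decide +kernel)

end NX

end Cfsg.Lib.J3Type
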