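import Cfsg.Agent.LocalThree.HallJankoType.Involutions
import Cfsg.Agent.InvolCalc.Classes

/-!
With one class of involutions the centralizer has an involution outside its extraspecial subgroup.
-/

set_option autoImplicit false
set_option linter.unusedSectionVars false

namespace Cfsg.Lib.J3Type

open Subgroup Equiv Cfsg.Lib.HallJankoType

set_option synthInstance.maxSize 2000 in
set_option synthInstance.maxHeartbeats 200000 in
theorem invol_fix_pair : ∀ π π' : Perm (Fin 5), π * π = 1 → π' * π' = 1 → π ≠ 1 → π' ≠ 1 →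
    Perm.sign π = 1 → Perm.sign π' = 1 → ∀ k l m : Fin 5, l ≠ m → k ≠ l → k ≠ m → π k = k → π' k = k →
    ((π l = l ∧ π m = m) ∨ (π l = m ∧ π m = l)) → ((π' l = l ∧ π' m = m) ∨ (π' l = m ∧ π' m = l)) → π = π' := by
  decide +kernel

theorem two_moved : ∀ π : Perm (Fin 5), π * π = 1 → π ≠ 1 → Perm.sign π = 1 → ∀ i : Fin 5, π i = i →
    ∃ j k k' : Fin 5, j ≠ k ∧ j ≠ k' ∧ k ≠ k' ∧ j ≠ i ∧ k ≠ i ∧ k' ≠ i ∧
      ¬ ((π j = j ∧ π k = k) ∨ (π j = k ∧ π k = j)) ∧ ¬ ((π j = j ∧ π k' = k') ∨ (π j = k' ∧ π k' = j)) := by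
  decide +kernel

variable {G : Type*} [Group G] [Finite G] {z : G} {Q : Subgroup G} {a : Fin 5 → G} {σ : Cz z →* Perm (Fin 5)}

variable (D : Data z Q a σ)
include D

/-- the product of two different points as an element of order four -/
theorem pair_sq {j k : Fin 5} (h : j ≠ k) : a j * a k * (a j * a k) = z := by
  have e := D.frame.anti j k h
  rw [mul_assoc, ← mul_assoc (a k), e, ← mul_assoc, ← mul_assoc, ← mul_assoc,
    show a j * z = z * a j from D.frame.z_ai j, mul_assoc (z * a j) (a j) (a k), ]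
  rw [← mul_assoc (z * a j) (a j) (a k), mul_assoc z (a j) (a j), D.frame.sq j, mul_one, mul_assoc, D.frame.sq k, mul_one]

theorem pair_commute {i j k : Fin 5} (hj : j ≠ i) (hk : k ≠ i) {w : G} (hw : Cls z w (a i)) :
    Commute (a j * a k) w := by
  have h1 : Commute (a j * a k) (a i) := by
    show a j * a k * a i = a i * (a j * a k)
    rw [mul_assoc, D.frame.anti i k hk.symm, ← mul_assoc, ← mul_assoc, show a j * z = z * a j from D.frame.z_ai j,
      mul_assoc z (a j) (a i), D.frame.anti i j hj.symm, ← mul_assoc z z, D.frame.x2.zz, one_mul, mul_assoc]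
  rcases hw with rfl | rfl
  · exact h1
  · exact (D.commQ (mul_mem (D.frame.mem j) (D.frame.mem k))).symm.mul_right h1

/-- a pair class is fixed only if the pair is -/
theorem pair_fixed {c : G} (hc : c ∈ Cz z) {j k : Fin 5} (hjk : j ≠ k)
    (h : Cls z (c * (a j * a k) * c⁻¹) (a j * a k)) :
    (σ ⟨c, hc⟩ j = j ∧ σ ⟨c, hc⟩ k = k) ∨ (σ ⟨c, hc⟩ j = k ∧ σ ⟨c, hc⟩ k = j) := by
  set π := σ ⟨c, hc⟩
  have hcz : Commute (a k) z := D.frame.z_ai k
  have h1 : Cls z (c * (a j * a k) * c⁻¹) (a (π j) * a (π k)) := by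
    rw [show c * (a j * a k) * c⁻¹ = c * a j * c⁻¹ * (c * a k * c⁻¹) by group]
    exact D.cls_mul (D.frame.z_ai _) (D.act ⟨c, hc⟩ j) (D.act ⟨c, hc⟩ k)
  have h2 := D.frame.cls_trans (D.frame.cls_symm h1) h
  have hne : π j ≠ π k := fun e => hjk (π.injective e)
  have srt : ∀ {p q : Fin 5}, p ≠ q → ∃ p' q', p' < q' ∧ ((p' = p ∧ q' = q) ∨ (p' = q ∧ q' = p)) ∧
      Cls z (a p * a q) (a p' * a q') := fun {p q} hpq => by
    rcases lt_or_gt_of_ne hpq with hl | hl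
    · exact ⟨p, q, hl, Or.inl ⟨rfl, rfl⟩, Or.inl rfl⟩
    · exact ⟨q, p, hl, Or.inr ⟨rfl, rfl⟩, D.cls_swap p q⟩
  obtain ⟨p, q, hpq, hpq', e1⟩ := srt hne
  obtain ⟨r, s, hrs, hrs', e2⟩ := srt hjk
  obtain ⟨rfl, rfl⟩ := D.frame.pair p q r s hpq hrs
    (D.frame.cls_trans (D.frame.cls_symm e1) (D.frame.cls_trans h2 e2))
  rcases hpq' with ⟨e3, e4⟩ | ⟨e3, e4⟩ <;> rcases hrs' with ⟨e5, e6⟩ | ⟨e5, e6⟩
  · exact Or.inl ⟨e3.symm.trans e5, e4.symm.trans e6⟩
  · exact Or.inr ⟨e3.symm.trans e5, e4.symm.trans e6⟩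
  · exact Or.inr ⟨e4.symm.trans e6, e3.symm.trans e5⟩
  · exact Or.inl ⟨e4.symm.trans e6, e3.symm.trans e5⟩

/-- An involution outside `Q` exists. -/
theorem exists_outer (hone : ∀ x y : G, orderOf x = 2 → orderOf y = 2 → IsConj x y) : ∃ y, Outer z Q y := by
  classical
  by_contra hno
  push Not at hno
  have hF := D.frame
  have oz : orderOf z = 2 := Cfsg.Lib.InvolCalc.order_two_of_mul_self hF.x2.zz hF.x2.ne
  obtain ⟨hwQ, hww, hw1, hwz⟩ := hF.pt_invol (q := a 0) (i := 0) (Or.inl rfl)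
  obtain ⟨g, hg⟩ := isConj_iff.1 (hone z (a 0) oz (Cfsg.Lib.InvolCalc.order_two_of_mul_self hww hw1))
  set w := a 0 with hw
  have hzw : Commute z w := D.commQ hwQ
  set v := g⁻¹ * z * g with hv
  have hvC : v ∈ Cz z := mem_Cz.2 (by
    have := ((Commute.conj_iff g⁻¹).2 hzw)
    rwa [← hg, inv_inv, ← hv, show g⁻¹ * (g * z * g⁻¹) * g = z by group] at this)
  have hvv : v * v = 1 := by
    rw [hv, show g⁻¹ * z * g * (g⁻¹ * z * g) = g⁻¹ * (z * z) * g by group, hF.x2.zz]; group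
  have hv1 : v ≠ 1 := fun e => hF.x2.ne (by
    rw [hv] at e
    calc z = g * (g⁻¹ * z * g) * g⁻¹ := by group
      _ = 1 := by rw [e]; group)
  have hvz : v ≠ z := fun e => hwz (by
    calc w = g * z * g⁻¹ := hg.symm
      _ = g * v * g⁻¹ := by rw [e]
      _ = z := by rw [hv]; group)
  have hvQ : v ∈ Q := by
    by_contra h
    exact hno v ⟨hvC, hvv, h⟩
  obtain ⟨k0, hk0⟩ := (hF.pts v hvQ hvv).resolve_left fun e => by
    rcases e with e | e
    · exact hv1 e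
    · exact hvz (by rw [e, mul_one])
  -- pairs of points
  obtain ⟨l, m, hlm, hl, hm⟩ : ∃ l m : Fin 5, l ≠ m ∧ l ≠ k0 ∧ m ≠ k0 :=
    (by decide +kernel : ∀ k : Fin 5, ∃ l m : Fin 5, l ≠ m ∧ l ≠ k ∧ m ≠ k) k0
  set u₀ := a l * a m with hu₀
  have hu₀Q : u₀ ∈ Q := mul_mem (hF.mem l) (hF.mem m)
  set u := g * u₀ * g⁻¹ with hu
  have huz : Commute u z := by
    have := (Commute.conj_iff g).2 (pair_commute D hl hm hk0)
    rwa [hv, show g * (g⁻¹ * z * g) * g⁻¹ = z by group] at this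
  have huu : u * u = w := by
    rw [hu, show g * u₀ * g⁻¹ * (g * u₀ * g⁻¹) = g * (u₀ * u₀) * g⁻¹ by group, pair_sq D hlm, hg]
  -- the intersection
  have hinter : ∀ x ∈ Q, g⁻¹ * x * g ∈ Q → Commute x w → x = 1 ∨ x = z ∨ x = w ∨ x = z * w := by
    intro x hx hx' hxw
    have hxx : x * x = 1 := by
      rcases hF.x2.sq x hx with e | e
      · exact e
      · exfalso
        rcases hF.x2.sq _ hx' with e' | e'
        · exact hF.x2.ne (by
            rw [show g⁻¹ * x * g * (g⁻¹ * x * g) = g⁻¹ * (x * x) * g by group, e] at e'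
            calc z = g * (g⁻¹ * z * g) * g⁻¹ := by group
              _ = 1 := by rw [e']; group)
        · rw [show g⁻¹ * x * g * (g⁻¹ * x * g) = g⁻¹ * (x * x) * g by group, e] at e'
          exact hvz e'
    rcases hF.pts x hx hxx with e | ⟨i, hi⟩
    · rcases e with e | e
      · exact Or.inl e
      · exact Or.inr (Or.inl (by rw [e, mul_one]))
    · by_cases h0 : i = 0
      · subst h0
        rcases hi with e | e
        · exact Or.inr (Or.inr (Or.inl e))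
        · exact Or.inr (Or.inr (Or.inr e))
      · exfalso
        refine hF.x2.ne ?_
        have h3 : Commute (a i) w := by
          rcases hi with rfl | rfl
          · exact hxw
          · have := (hzw).mul_left hxw
            rwa [← mul_assoc, hF.x2.zz, one_mul] at this
        have := hF.anti 0 i (Ne.symm h0)
        rw [h3.eq] at this
        exact mul_eq_right.1 this.symm
  have huC : u ∈ Cz z := mem_Cz.2 huz
  have huw : Commute u w := by rw [← huu]; exact (Commute.refl u).mul_right (Commute.refl u)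
  have huQ : u ∉ Q := fun h => by
    rcases hF.x2.sq u h with e | e
    · rw [huu] at e; exact hw1 e
    · rw [huu] at e; exact hwz e
  set π := σ ⟨u, huC⟩ with hπ
  have hπ2 : π * π = 1 := by
    rw [hπ, ← map_mul]; exact (D.ker _).2 (by show u * u ∈ Q; rw [huu]; exact hwQ)
  have hπ1 : π ≠ 1 := fun e => huQ ((D.ker _).1 e)
  have hπ0 : π 0 = 0 := by
    have h1 := D.act ⟨u, huC⟩ 0
    change Cls z (u * a 0 * u⁻¹) (a (π 0)) at h1
    rw [← hw, huw.eq, mul_inv_cancel_right] at h1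
    exact (hF.unique (Or.inl rfl) h1).symm
  obtain ⟨j, k, k', hjk, hjk', hkk', hj0, hk0', hk'0, hmv, hmv'⟩ := two_moved π hπ2 hπ1 (D.sign _) 0 hπ0
  -- an element of `Q` whose commutator with `u` is neither in `⟨z⟩` nor in `⟨w⟩`
  obtain ⟨j', k'', hne, hj', hk'', hmoved, hconj⟩ : ∃ p q : Fin 5, p ≠ q ∧ p ≠ 0 ∧ q ≠ 0 ∧
      ¬ ((π p = p ∧ π q = q) ∨ (π p = q ∧ π q = p)) ∧
      ¬ Cls z (g⁻¹ * (a p * a q) * g * u₀ * (g⁻¹ * (a p * a q) * g)⁻¹) u₀ := by
    by_contra hcon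
    have hall : ∀ p q : Fin 5, p ≠ q → p ≠ 0 → q ≠ 0 → ¬ ((π p = p ∧ π q = q) ∨ (π p = q ∧ π q = p)) →
        Cls z (g⁻¹ * (a p * a q) * g * u₀ * (g⁻¹ * (a p * a q) * g)⁻¹) u₀ := fun p q h0 h1 h2 h3 =>
      by_contra fun h4 => hcon ⟨p, q, h0, h1, h2, h3, h4⟩
    have h1 := hall j k hjk hj0 hk0' hmv
    have h2 := hall j k' hjk' hj0 hk'0 hmv'
    have hmemC : ∀ p q : Fin 5, p ≠ 0 → q ≠ 0 → g⁻¹ * (a p * a q) * g ∈ Cz z := fun p q hp hq => mem_Cz.2 (by
      have := (Commute.conj_iff g⁻¹).2 (pair_commute D hp hq (Or.inl rfl : Cls z w (a 0)))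
      rwa [inv_inv, ← hg, show g⁻¹ * (g * z * g⁻¹) * g = z by group] at this)
    set c₁ : Cz z := ⟨_, hmemC j k hj0 hk0'⟩ with hc₁
    set c₂ : Cz z := ⟨_, hmemC j k' hj0 hk'0⟩ with hc₂
    have hprop : ∀ p q : Fin 5, p ≠ q → ∀ hp : p ≠ 0, ∀ hq : q ≠ 0,
        σ ⟨_, hmemC p q hp hq⟩ * σ ⟨_, hmemC p q hp hq⟩ = 1 ∧ σ ⟨_, hmemC p q hp hq⟩ ≠ 1 ∧
          σ ⟨_, hmemC p q hp hq⟩ k0 = k0 := by
      intro p q hpq hp hq
      set x := g⁻¹ * (a p * a q) * g with hx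
      have hsq : x * x = v := by
        rw [hx, show g⁻¹ * (a p * a q) * g * (g⁻¹ * (a p * a q) * g) = g⁻¹ * (a p * a q * (a p * a q)) * g by group,
          pair_sq D hpq]
      refine ⟨?_, fun e => ?_, ?_⟩
      · rw [← map_mul]; exact (D.ker _).2 (by show x * x ∈ Q; rw [hsq]; exact hvQ)
      · rcases hF.x2.sq x ((D.ker _).1 e) with e' | e'
        · exact hv1 (hsq ▸ e')
        · exact hvz (hsq ▸ e')
      · have h3 := D.act ⟨x, hmemC p q hp hq⟩ k0
        have h4 : Cls z (x * v * x⁻¹) (x * a k0 * x⁻¹) := D.cls_conj (hmemC p q hp hq) hk0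
        rw [show x * v * x⁻¹ = v by rw [← hsq]; group] at h4
        exact (hF.unique hk0 (hF.cls_trans h4 h3)).symm
    obtain ⟨a1, a2, a3⟩ := hprop j k hjk hj0 hk0'
    obtain ⟨b1, b2, b3⟩ := hprop j k' hjk' hj0 hk'0
    have e := invol_fix_pair _ _ a1 b1 a2 b2 (D.sign _) (D.sign _) k0 l m hlm (Ne.symm hl) (Ne.symm hm) a3 b3
      (pair_fixed D c₁.2 hlm h1) (pair_fixed D c₂.2 hlm h2)
    have h5 : σ (c₁⁻¹ * c₂) = 1 := by
      rw [map_mul, map_inv, inv_mul_eq_one]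
      exact e
    have h6 : g⁻¹ * ((a j * a k)⁻¹ * (a j * a k')) * g ∈ Q := by
      have h7 : (g⁻¹ * (a j * a k) * g)⁻¹ * (g⁻¹ * (a j * a k') * g) ∈ Q := (D.ker _).1 h5
      rwa [show (g⁻¹ * (a j * a k) * g)⁻¹ * (g⁻¹ * (a j * a k') * g) =
        g⁻¹ * ((a j * a k)⁻¹ * (a j * a k')) * g by group] at h7
    have h8 : (a j * a k)⁻¹ * (a j * a k') = a k * a k' := by
      rw [mul_inv_rev, mul_assoc, inv_mul_cancel_left, inv_eq_of_mul_eq_one_right (hF.sq k)]
    rw [h8] at h6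
    have h9 := pair_sq D hkk'
    rcases hinter _ (mul_mem (hF.mem k) (hF.mem k')) h6 (pair_commute D hk0' hk'0 (Or.inl rfl)) with r | r | r | r <;>
      rw [r] at h9
    · exact hF.x2.ne (by rw [← h9, one_mul])
    · exact hF.x2.ne (h9 ▸ hF.x2.zz)
    · exact hF.x2.ne (h9 ▸ hww)
    · exact hF.x2.ne (h9 ▸ (by rw [hzw.symm.mul_mul_mul_comm, hF.x2.zz, hww, mul_one]))
  set q := a j' * a k'' with hq
  have hqQ : q ∈ Q := mul_mem (hF.mem _) (hF.mem _)
  have hqw : Commute q w := pair_commute D hj' hk'' (Or.inl rfl)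
  set c := u * q * u⁻¹ * q⁻¹ with hc
  have hcQ : c ∈ Q := mul_mem (D.norm u huC q hqQ) (inv_mem hqQ)
  have hc' : g⁻¹ * c * g ∈ Q := by
    have hqgC : g⁻¹ * q * g ∈ Cz z := mem_Cz.2 (by
      have := (Commute.conj_iff g⁻¹).2 hqw
      rwa [inv_inv, ← hg, show g⁻¹ * (g * z * g⁻¹) * g = z by group] at this)
    rw [hc, hu, show g⁻¹ * (g * u₀ * g⁻¹ * q * (g * u₀ * g⁻¹)⁻¹ * q⁻¹) * g =
      u₀ * ((g⁻¹ * q * g) * u₀⁻¹ * (g⁻¹ * q * g)⁻¹) by group]
    exact mul_mem hu₀Q (D.norm _ hqgC _ (inv_mem hu₀Q))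
  have hcw : Commute c w := ((huw.mul_left hqw).mul_left huw.inv_left).mul_left hqw.inv_left
  have hcz : c ≠ 1 ∧ c ≠ z := by
    refine ⟨fun e => hmoved (pair_fixed D huC hne (Or.inl ?_)), fun e => hmoved (pair_fixed D huC hne (Or.inr ?_))⟩
    · rw [hc, mul_inv_eq_one] at e
      exact e
    · rw [hc, mul_inv_eq_iff_eq_mul] at e
      exact e
  have hcw' : c ≠ w := by
    intro e
    refine hconj (Or.inr ?_)
    set x := g⁻¹ * q * g
    have h1 : u₀ * (x * u₀⁻¹ * x⁻¹) = z := by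
      calc u₀ * (x * u₀⁻¹ * x⁻¹) = g⁻¹ * c * g := by rw [hc, hu]; simp only [x]; group
        _ = z := by rw [e, ← hg]; group
    calc x * u₀ * x⁻¹ = (u₀ * (x * u₀⁻¹ * x⁻¹))⁻¹ * u₀ := by group
      _ = z * u₀ := by rw [h1, inv_eq_of_mul_eq_one_right hF.x2.zz]
  have hczw : c = z * w := by
    rcases hinter c hcQ hc' hcw with r | r | r | r
    exacts [absurd r hcz.1, absurd r hcz.2, absurd r hcw', r]
  refine hno (u * q) ⟨mul_mem huC (D.le hqQ), ?_, fun h => huQ ((Q.mul_mem_cancel_right hqQ).1 h)⟩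
  have huq : u * q = z * w * q * u := by
    have : u * q * u⁻¹ * q⁻¹ = z * w := hczw
    calc u * q = u * q * u⁻¹ * q⁻¹ * (q * u) := by group
      _ = _ := by rw [this]; group
  calc u * q * (u * q) = z * w * q * u * (u * q) := by rw [← huq]
    _ = z * w * q * (u * u) * q := by group
    _ = z * w * w * (q * q) := by rw [huu, mul_assoc (z * w) q w, hqw.eq]; group
    _ = 1 := by rw [mul_assoc z, hww, mul_one, pair_sq D hne, hF.x2.zz]

end Cfsg.Lib.J3Type
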