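import Cfsg.Agent.J3Type.Model
import Cfsg.Agent.J3Type.OuterInvol
import Cfsg.Agent.Presentations.BinaryIcosahedral

/-!
The centralizer is a semidirect product of its extraspecial subgroup and `A₅` permuting five points exactly.
-/

set_option autoImplicit false
set_option linter.unusedSectionVars false
set_option linter.style.haveILetI false

namespace Cfsg.Lib.J3Type

open Subgroup Equiv Cfsg.Lib.HallJankoType

/-- a three-cycle making a five-cycle with `tau1` -/
def p0 : P5 := swap 0 4 * swap 0 2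

/-- a three-cycle fixing the last point -/
def c012 : P5 := swap 0 1 * swap 1 2

/-- words in two generators, up to a length -/
def reach (s t : P5) : ℕ → List P5
  | 0 => [1]
  | n + 1 => let l := reach s t n; (l ++ l.map (· * s) ++ l.map (· * t)).dedup

theorem reach_all : ∀ π : P5, Perm.sign π = 1 → π ∈ reach tau1 p0 12 := by decide +kernel

theorem reach_four : ∀ π : P5, Perm.sign π = 1 → π 4 = 4 → π ∈ reach tau1 c012 6 := by decide +kernel

theorem reach_mem {M : Type*} [Group M] (f : P5 →* M) (P : Subgroup M) {s t : P5} (hs : f s ∈ P) (ht : f t ∈ P) :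
    ∀ n, ∀ π ∈ reach s t n, f π ∈ P
  | 0, π, h => by
    simp only [reach, List.mem_singleton] at h
    subst h
    rw [map_one]; exact one_mem _
  | n + 1, π, h => by
    simp only [reach, List.mem_dedup, List.mem_append, List.mem_map] at h
    rcases h with (h | ⟨x, hx, rfl⟩) | ⟨x, hx, rfl⟩
    · exact reach_mem f P hs ht n π h
    · rw [map_mul]; exact mul_mem (reach_mem f P hs ht n x hx) hs
    · rw [map_mul]; exact mul_mem (reach_mem f P hs ht n x hx) ht

theorem reach_closure {s t π : P5} {n : ℕ} (h : π ∈ reach s t n) : π ∈ Subgroup.closure {s, t} :=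
  reach_mem (MonoidHom.id P5) (Subgroup.closure {s, t}) (Subgroup.subset_closure (by simp))
    (Subgroup.subset_closure (by simp)) n π h

theorem five_move : ∀ π : P5, π = tau1 * p0 → π ^ 5 = 1 ∧
    (∀ i : Fin 5, π i ≠ i) ∧ ∀ i j : Fin 5, i < j → ¬ ((π i = i ∧ π j = j) ∨ (π i = j ∧ π j = i)) := by
  decide +kernel

theorem pick_map : ∀ i : Fin 5, ∃ π : P5, Perm.sign π = 1 ∧ π 4 = i := by decide +kernel

variable {G : Type*} [Group G] [Finite G] {z : G} {Q : Subgroup G} {a : Fin 5 → G} {σ : Cz z →* Perm (Fin 5)}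

variable (D : Data z Q a σ)
include D

/-- A complement to `Q`. -/
theorem exists_complement (hone : ∀ x y : G, orderOf x = 2 → orderOf y = 2 → IsConj x y) :
    ∃ (ψ : alternatingGroup (Fin 5) →* G) (hψ : ∀ π, ψ π ∈ Cz z), ∀ π, σ ⟨ψ π, hψ π⟩ = (π : P5) := by
  classical
  have hF := D.frame
  obtain ⟨y₀, hy₀⟩ := exists_outer D hone
  obtain ⟨c₀, hc₀, hstd⟩ := D.to_std hy₀.1 (by rw [hy₀.2.1]; exact one_mem _) hy₀.2.2
  obtain ⟨huC, huu, huQ⟩ := D.outer_conj' hy₀ hc₀
  set u := c₀ * y₀ * c₀⁻¹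
  -- a lift of order three
  obtain ⟨p', hp'⟩ := D.surj p0 (by decide +kernel)
  have h32 : ∀ q ∈ Q, q ^ 32 = 1 := fun q hq => by
    have := congrArg Subtype.val (pow_card_eq_one' (x := (⟨q, hq⟩ : Q)))
    simpa [hF.card] using this
  set p : Cz z := p' ^ 64 with hp
  have hσp : σ p = p0 := by rw [hp, map_pow, hp']; decide +kernel
  have hp3 : (p : G) ^ 3 = 1 := by
    rw [hp, SubgroupClass.coe_pow, ← pow_mul, show 64 * 3 = 3 * 32 * 2 from rfl, pow_mul, pow_mul,
      h32 _ (by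
        have : σ (p' ^ 3) = 1 := by rw [map_pow, hp']; decide +kernel
        simpa using (D.ker _).1 this), one_pow]
  -- the fifth power is central
  set r : Cz z := ⟨u, huC⟩ * p with hr
  have hσr : σ r = tau1 * p0 := by rw [hr, map_mul, hσp, hstd]
  obtain ⟨hr5, hnofix, hnopair⟩ := five_move _ hσr
  have hq5 : ((r : G)) ^ 5 ∈ Q := by
    rw [← SubgroupClass.coe_pow]; exact (D.ker _).1 (by rw [map_pow, hr5])
  have hcases : (r : G) ^ 5 = 1 ∨ (r : G) ^ 5 = z := by
    set q := (r : G) ^ 5 with hq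
    have hcomm : (r : G) * q * (r : G)⁻¹ = q := by rw [hq]; group
    rcases hF.cls q hq5 with e | ⟨i, hi⟩ | ⟨i, j, hij, hc⟩
    · rcases e with e | e
      · exact Or.inl e
      · exact Or.inr (by rw [e, mul_one])
    · exfalso
      have h1 := D.cls_conj r.2 hi
      rw [hcomm] at h1
      exact hnofix i (hF.unique (hF.cls_trans h1 (D.act r i)) hi)
    · exfalso
      have h1 := D.cls_conj r.2 hc
      rw [hcomm] at h1
      exact hnopair i j hij (pair_fixed D r.2 hij.ne (hF.cls_trans (hF.cls_symm h1) hc))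
  obtain ⟨s, hsC, hss, hσs, hs5⟩ : ∃ s, ∃ hs : s ∈ Cz z, s * s = 1 ∧ σ ⟨s, hs⟩ = tau1 ∧ (s * (p : G)) ^ 5 = 1 := by
    rcases hcases with e | e
    · exact ⟨u, huC, huu, hstd, by simpa [hr] using e⟩
    · have hzu : Commute z u := (mem_Cz.1 huC).symm
      refine ⟨z * u, mul_mem (mem_Cz.2 (Commute.refl z)) huC, ?_, ?_, ?_⟩
      · rw [hzu.symm.mul_mul_mul_comm, hF.x2.zz, huu, one_mul]
      · rw [show (⟨z * u, _⟩ : Cz z) = ⟨z, mem_Cz.2 (Commute.refl z)⟩ * ⟨u, huC⟩ from rfl, map_mul, hstd,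
          (D.ker ⟨z, _⟩).2 hF.x2.mem, one_mul]
      · have e' : (u * (p : G)) ^ 5 = z := by simpa [hr] using e
        rw [mul_assoc, (hzu.mul_right (mem_Cz.1 p.2).symm).mul_pow, e',
          show (5 : ℕ) = 2 * 2 + 1 from rfl, pow_succ, pow_mul, pow_two z, hF.x2.zz, one_pow, one_mul, hF.x2.zz]
  -- the hom from the presented icosahedral group
  let gens : Fin 2 → G := ![(p : G), (p : G)⁻¹ * s]
  have hb5 : ((p : G)⁻¹ * s) ^ 5 = 1 := by
    rw [show (p : G)⁻¹ * s = (s * (p : G))⁻¹ by rw [mul_inv_rev, inv_eq_of_mul_eq_one_right hss],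
      inv_pow, hs5, inv_one]
  have hrels : ∀ x ∈ Cfsg.Lib.Presentations.icosaRels, FreeGroup.lift gens x = 1 := by
    intro x hx
    simp only [Cfsg.Lib.Presentations.icosaRels, Set.mem_insert_iff, Set.mem_singleton_iff] at hx
    rcases hx with rfl | rfl | rfl
    · simpa [gens] using hp3
    · simpa [gens] using hb5
    · simp [gens, pow_two, hss]
  let Φ : PresentedGroup Cfsg.Lib.Presentations.icosaRels →* G := PresentedGroup.toGroup hrels
  have hΦC : ∀ x, Φ x ∈ Cz z := by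
    intro x
    have hle : Φ.range ≤ Cz z := by
      rw [MonoidHom.range_eq_map, ← PresentedGroup.closure_range_of, MonoidHom.map_closure, closure_le]
      rintro _ ⟨_, ⟨i, rfl⟩, rfl⟩
      show Φ (PresentedGroup.of i) ∈ Cz z
      rw [show Φ (PresentedGroup.of i) = gens i from PresentedGroup.toGroup.of hrels]
      fin_cases i
      · exact p.2
      · exact mul_mem (inv_mem p.2) hsC
    exact hle ⟨x, rfl⟩
  let Ψ : PresentedGroup Cfsg.Lib.Presentations.icosaRels →* alternatingGroup (Fin 5) :=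
    (σ.comp (Φ.codRestrict (Cz z) hΦC)).codRestrict _ fun x => Perm.mem_alternatingGroup.2 (D.sign _)
  have hsurj : Function.Surjective Ψ := by
    have hmem : ∀ π ∈ Subgroup.closure {tau1, p0}, ∃ x, (Ψ x : P5) = π := by
      intro π hπ
      have hle : Subgroup.closure {tau1, p0} ≤ ((alternatingGroup (Fin 5)).subtype.comp Ψ).range := by
        rw [closure_le]
        rintro _ (rfl | rfl)
        · refine ⟨PresentedGroup.of 0 * PresentedGroup.of 1, ?_⟩
          show σ ⟨Φ (PresentedGroup.of 0 * PresentedGroup.of 1), _⟩ = tau1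
          rw [← hσs]
          congr 1
          refine Subtype.ext ?_
          show Φ (PresentedGroup.of 0 * PresentedGroup.of 1) = s
          rw [map_mul, show Φ (PresentedGroup.of 0) = gens 0 from PresentedGroup.toGroup.of hrels,
            show Φ (PresentedGroup.of 1) = gens 1 from PresentedGroup.toGroup.of hrels]
          simp [gens]
        · refine ⟨PresentedGroup.of 0, ?_⟩
          show σ ⟨Φ (PresentedGroup.of 0), _⟩ = p0
          rw [← hσp]
          congr 1
          refine Subtype.ext ?_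
          show Φ (PresentedGroup.of 0) = (p : G)
          rw [show Φ (PresentedGroup.of 0) = gens 0 from PresentedGroup.toGroup.of hrels]
          rfl
      exact hle hπ
    rintro ⟨π, hπ⟩
    obtain ⟨x, hx⟩ := hmem π (reach_closure (reach_all π (Perm.mem_alternatingGroup.1 hπ)))
    exact ⟨x, Subtype.ext hx⟩
  obtain ⟨hfin, hle⟩ := Cfsg.Lib.Presentations.icosa_card
  have hcA : Nat.card (alternatingGroup (Fin 5)) = 60 := by
    rw [Nat.card_eq_fintype_card]; decide +kernel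
  have hbij : Function.Bijective Ψ := (Nat.bijective_iff_surjective_and_card Ψ).2
    ⟨hsurj, le_antisymm (hle.trans_eq hcA.symm) (Nat.card_le_card_of_surjective Ψ hsurj)⟩
  let e := MulEquiv.ofBijective Ψ hbij
  refine ⟨Φ.comp e.symm.toMonoidHom, fun π => hΦC _, fun π => ?_⟩
  show (Ψ (e.symm π) : P5) = π
  rw [show Ψ (e.symm π) = π from e.apply_symm_apply π]

/-- Exact coordinates. -/
theorem exists_coord (hone : ∀ x y : G, orderOf x = 2 → orderOf y = 2 → IsConj x y) :
    ∃ (a' : Fin 5 → G) (ρ : P5 → G), Coord z a' ρ := by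
  classical
  have hF := D.frame
  obtain ⟨ψ, hψC, hψσ⟩ := exists_complement D hone
  let ρ : P5 → G := fun π => if h : Perm.sign π = 1 then ψ ⟨π, Perm.mem_alternatingGroup.2 h⟩ else 1
  have hρ : ∀ π (h : Perm.sign π = 1), ρ π = ψ ⟨π, Perm.mem_alternatingGroup.2 h⟩ := fun π h => dif_pos h
  have hρmul : ∀ π π' : P5, Perm.sign π = 1 → Perm.sign π' = 1 → ρ (π * π') = ρ π * ρ π' := fun π π' h h' => by
    have hh : Perm.sign (π * π') = 1 := by rw [map_mul, h, h', one_mul]
    rw [hρ _ hh, hρ _ h, hρ _ h']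
    exact map_mul ψ ⟨π, Perm.mem_alternatingGroup.2 h⟩ ⟨π', Perm.mem_alternatingGroup.2 h'⟩
  have hρC : ∀ π, Perm.sign π = 1 → ρ π ∈ Cz z := fun π h => hρ π h ▸ hψC _
  have hρσ : ∀ π (h : Perm.sign π = 1), σ ⟨ρ π, hρC π h⟩ = π := fun π h => by
    have := hψσ ⟨π, Perm.mem_alternatingGroup.2 h⟩
    rw [show (⟨ρ π, hρC π h⟩ : Cz z) = ⟨ψ ⟨π, Perm.mem_alternatingGroup.2 h⟩, hψC _⟩ from Subtype.ext (hρ π h)]
    exact this
  have hρ1 : ρ 1 = 1 := by
    have := hρmul 1 1 (map_one _) (map_one _)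
    rw [one_mul] at this
    exact mul_eq_left.1 this.symm
  have hρpow : ∀ π : P5, Perm.sign π = 1 → ∀ n, ρ π ^ n = ρ (π ^ n) := fun π h n => by
    induction n with
    | zero => rw [pow_zero, pow_zero, hρ1]
    | succ n ih => rw [pow_succ, pow_succ, ih, hρmul _ _ (by rw [map_pow, h, one_pow]) h]
  -- the stabiliser of the last point centralises its involution
  have hu : Commute (ρ tau1) (a 4) := by
    have h : Perm.sign tau1 = 1 := by decide +kernel
    refine D.fixed_commute (hρC _ h) ?_ ?_ ?_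
    · rw [← hρmul _ _ h h, show tau1 * tau1 = 1 by decide +kernel, hρ1]
    · intro hq
      have := (D.ker ⟨_, hρC _ h⟩).2 hq
      rw [hρσ _ h] at this
      exact absurd this (by decide +kernel)
    · rw [hρσ _ h]; decide +kernel
  have hc : Commute (ρ c012) (a 4) := by
    have h : Perm.sign c012 = 1 := by decide +kernel
    have h3 : ρ c012 ^ 3 = 1 := by rw [hρpow _ h, show c012 ^ 3 = 1 by decide +kernel, hρ1]
    have h1 := D.act ⟨_, hρC _ h⟩ 4
    rw [hρσ _ h, show c012 4 = 4 by decide +kernel] at h1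
    change Cls z (ρ c012 * a 4 * (ρ c012)⁻¹) (a 4) at h1
    have hz := mem_Cz.1 (hρC _ h)
    rcases h1 with e | e
    · exact mul_inv_eq_iff_eq_mul.1 e
    · exfalso
      have e2 : ρ c012 ^ 3 * a 4 * (ρ c012 ^ 3)⁻¹ = z * a 4 := by
        set x := ρ c012
        set φ := MulAut.conj x with hφ
        have hzx : φ z = z := by rw [hφ, MulAut.conj_apply, hz.eq, mul_inv_cancel_right]
        have he : φ (a 4) = z * a 4 := e
        rw [show x ^ 3 * a 4 * (x ^ 3)⁻¹ = φ (φ (φ (a 4))) by simp [hφ, pow_succ, mul_assoc], he, map_mul, map_mul,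
          hzx, he, map_mul, hzx, he, ← mul_assoc z z, hF.x2.zz, one_mul]
      rw [h3] at e2
      exact hF.x2.ne (by simpa using e2.symm)
  have hstab : ∀ π, Perm.sign π = 1 → π 4 = 4 → Commute (ρ π) (a 4) := by
    intro π h h4
    let X : Subgroup (alternatingGroup (Fin 5)) := (centralizer ({a 4} : Set G)).comap ψ
    have hgen : ∀ π ∈ Subgroup.closure ({tau1, c012} : Set P5), ∃ h : Perm.sign π = 1, Commute (ρ π) (a 4) := by
      intro π hπ
      induction hπ using Subgroup.closure_induction with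
      | mem x hx =>
        rcases hx with rfl | rfl
        exacts [⟨by decide +kernel, hu⟩, ⟨by decide +kernel, hc⟩]
      | one => exact ⟨map_one _, by rw [hρ1]; exact Commute.one_left _⟩
      | mul x y _ _ hx hy =>
        obtain ⟨h1, h2⟩ := hx
        obtain ⟨h3, h4⟩ := hy
        exact ⟨by rw [map_mul, h1, h3, one_mul], by rw [hρmul _ _ h1 h3]; exact h2.mul_left h4⟩
      | inv x _ hx =>
        obtain ⟨h1, h2⟩ := hx
        have h3 : Perm.sign x⁻¹ = 1 := by rw [map_inv, h1, inv_one]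
        refine ⟨h3, ?_⟩
        rw [show ρ x⁻¹ = (ρ x)⁻¹ from eq_inv_of_mul_eq_one_left (by rw [← hρmul _ _ h3 h1, inv_mul_cancel, hρ1])]
        exact h2.inv_left
    exact (hgen π (reach_closure (reach_four π h h4))).2
  choose t ht ht4 using pick_map
  let b : Fin 5 → G := fun i => ρ (t i) * a 4 * (ρ (t i))⁻¹
  have hconj : ∀ π, Perm.sign π = 1 → ∀ i, ρ π * b i * (ρ π)⁻¹ = b (π i) := by
    intro π h i
    have hs : Perm.sign ((t (π i))⁻¹ * (π * t i)) = 1 := by rw [map_mul, map_inv, map_mul, h, ht, ht]; rfl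
    have h4 : ((t (π i))⁻¹ * (π * t i)) 4 = 4 := by
      rw [Perm.mul_apply, Perm.mul_apply, ht4, Perm.inv_eq_iff_eq, ht4]
    have hc4 := hstab _ hs h4
    have he : ρ π * ρ (t i) = ρ (t (π i)) * ρ ((t (π i))⁻¹ * (π * t i)) := by
      rw [← hρmul _ _ (ht _) hs, mul_inv_cancel_left, hρmul _ _ h (ht _)]
    show ρ π * (ρ (t i) * a 4 * (ρ (t i))⁻¹) * (ρ π)⁻¹ = ρ (t (π i)) * a 4 * (ρ (t (π i)))⁻¹
    calc ρ π * (ρ (t i) * a 4 * (ρ (t i))⁻¹) * (ρ π)⁻¹ = (ρ π * ρ (t i)) * a 4 * (ρ π * ρ (t i))⁻¹ := by group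
      _ = ρ (t (π i)) * (ρ ((t (π i))⁻¹ * (π * t i)) * a 4 * (ρ ((t (π i))⁻¹ * (π * t i)))⁻¹) * (ρ (t (π i)))⁻¹ := by
        rw [he]; group
      _ = _ := by rw [hc4.eq, mul_inv_cancel_right]
  have hcls : ∀ i, Cls z (b i) (a i) := fun i => by
    have h1 := D.act ⟨_, hρC _ (ht i)⟩ 4
    rw [hρσ _ (ht i), ht4] at h1
    exact h1
  have hbQ : ∀ i, b i ∈ Q ∧ b i * b i = 1 := fun i =>
    ⟨(hF.pt_invol (hcls i)).1, (hF.pt_invol (hcls i)).2.1⟩
  have hanti : ∀ i j, i ≠ j → b j * b i = z * (b i * b j) := by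
    intro i j hij
    have e := hF.anti i j hij
    have hzi : a i * z = z * a i := hF.z_ai i
    have hzj : a j * z = z * a j := hF.z_ai j
    rcases hcls i with r1 | r1 <;> rcases hcls j with r2 | r2 <;> rw [r1, r2]
    · exact e
    · rw [mul_assoc, e, ← mul_assoc (a i), hzi, mul_assoc]
    · rw [← mul_assoc (a j), hzj, mul_assoc z (a j), e, mul_assoc z (a i)]
    · calc z * a j * (z * a i) = z * (a j * z) * a i := by group
        _ = z * (z * (a j * a i)) := by rw [hzj]; group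
        _ = z * (z * (z * (a i * a j))) := by rw [e]
        _ = z * (z * (a i * z) * a j) := by rw [hzi]; group
        _ = z * (z * a i * (z * a j)) := by group
  set P := b 0 * b 1 * b 2 * b 3 with hP
  have hprod : b 4 = P ∨ b 4 = z * P := by
    have h1 := hF.sum 4 0 1 2 3 (by decide)
    have h2 : Cls z (b 4) (a 0 * a 1 * (a 2 * a 3)) := hF.cls_trans (hcls 4) h1
    have h3 : Cls z (b 0 * b 1 * (b 2 * b 3)) (a 0 * a 1 * (a 2 * a 3)) :=
      D.cls_mul ((D.commQ (mul_mem (hF.mem 0) (hF.mem 1))).symm)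
        (D.cls_mul (hF.z_ai 0) (hcls 0) (hcls 1)) (D.cls_mul (hF.z_ai 2) (hcls 2) (hcls 3))
    have h4 := hF.cls_trans h2 (hF.cls_symm h3)
    rw [show b 0 * b 1 * (b 2 * b 3) = P by rw [hP]; group] at h4
    exact h4
  -- adjust the signs
  obtain ⟨a', hmem, hsq', hanti', hconj', hprod'⟩ : ∃ a' : Fin 5 → G, (∀ i, a' i ∈ Q) ∧ (∀ i, a' i * a' i = 1) ∧
      (∀ i j, i ≠ j → a' j * a' i = z * (a' i * a' j)) ∧
      (∀ π, Perm.sign π = 1 → ∀ i, ρ π * a' i * (ρ π)⁻¹ = a' (π i)) ∧ a' 4 = a' 0 * a' 1 * a' 2 * a' 3 := by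
    rcases hprod with e | e
    · exact ⟨b, fun i => (hbQ i).1, fun i => (hbQ i).2, hanti, hconj, e⟩
    · have hzb : ∀ i, Commute z (b i) := fun i => D.commQ (hbQ i).1
      have hmm : ∀ i j, z * b i * (z * b j) = b i * b j := fun i j => by
        rw [(hzb i).symm.mul_mul_mul_comm, hF.x2.zz, one_mul]
      refine ⟨fun i => z * b i, fun i => mul_mem hF.x2.mem (hbQ i).1, fun i => by rw [hmm]; exact (hbQ i).2,
        fun i j h => by show z * b j * (z * b i) = z * (z * b i * (z * b j)); rw [hmm, hmm]; exact hanti i j h,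
        fun π h i => ?_, ?_⟩
      · show ρ π * (z * b i) * (ρ π)⁻¹ = z * b (π i)
        rw [← hconj π h i, ← mul_assoc, (mem_Cz.1 (hρC π h)).eq]; group
      · show z * b 4 = z * b 0 * (z * b 1) * (z * b 2) * (z * b 3)
        rw [mul_assoc (z * b 0 * (z * b 1)), hmm, hmm, e, ← mul_assoc, hF.x2.zz, one_mul, hP, mul_assoc]
  have K' : ∀ q : QC, qev z a' q ∈ Q := by
    have hb : ∀ (x : G) (c : Bool), x ∈ Q → bp x c ∈ Q := fun x c hx => bp_mem hx c
    exact fun q => mul_mem (mul_mem (mul_mem (mul_mem (hb _ _ hF.x2.mem) (hb _ _ (hmem 0))) (hb _ _ (hmem 1)))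
      (hb _ _ (hmem 2))) (hb _ _ (hmem 3))
  have hperm : ∀ π : P5, Perm.sign π = 1 → ∀ q : QC, ρ π = qev z a' q → π = 1 := fun π h q e => by
    have := (D.ker ⟨_, hρC π h⟩).2 (show ρ π ∈ Q by rw [e]; exact K' q)
    rwa [hρσ π h] at this
  have P0 : Pts z a' := ⟨hF.x2.zz, hF.x2.ne, hsq', fun i => D.commQ (hmem i), hanti', hprod'⟩
  refine ⟨a', ρ, ⟨P0, hρmul, hconj', fun π h => mem_Cz.1 (hρC π h), ?_, hperm⟩⟩
  intro c hc
  set π := σ ⟨c, hc⟩ with hπ
  have hs : Perm.sign π = 1 := D.sign _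
  have hq : c * (ρ π)⁻¹ ∈ Q := by
    refine (D.ker ⟨c * (ρ π)⁻¹, mul_mem hc (inv_mem (hρC π hs))⟩).1 ?_
    rw [show (⟨c * (ρ π)⁻¹, _⟩ : Cz z) = ⟨c, hc⟩ * ⟨ρ π, hρC π hs⟩⁻¹ from rfl, map_mul, map_inv, hρσ π hs,
      ← hπ, mul_inv_cancel]
  let f : QC → Q := fun q => ⟨qev z a' q, K' q⟩
  have hf : Function.Bijective f := (Nat.bijective_iff_injective_and_card f).2 ⟨fun q q' e => by
    have h1 : qev z a' q = qev z a' q' := congrArg Subtype.val e
    have h2 : qev z a' (qmul q (qinv q')) = 1 := by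
      rw [← P0.qev_mul, h1, P0.qev_mul, (qmul_qinv _).1, Pts.qev_one]
    exact (by decide +kernel : ∀ p r : QC, qmul p (qinv r) = qone → p = r) q q' (P0.qev_inj h2),
    by rw [hF.card, Nat.card_eq_fintype_card]; rfl⟩
  obtain ⟨q, hq'⟩ := hf.2 ⟨_, hq⟩
  refine ⟨q, π, hs, ?_⟩
  rw [show qev z a' q = c * (ρ π)⁻¹ from congrArg Subtype.val hq', inv_mul_cancel_right]

end Cfsg.Lib.J3Type
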