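import Cfsg.Agent.LargeExtra.Basic
import Cfsg.Agent.S0215
import Cfsg.Prelude.Def_SporadicB

/-!
An extraspecial normal subgroup of order 32 with icosahedral quotient in the centralizer of a central involution of
a simple group contains its centralizer.
-/

set_option autoImplicit false
set_option linter.unusedSectionVars false
set_option linter.style.haveILetI false

namespace Cfsg.Lib.J3Type

open Subgroup Equiv
open scoped commutatorElement

universe u

theorem alt_five_two : ∀ x : alternatingGroup (Fin 5), x ^ 4 = 1 → x * x = 1 := by decide +kernel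

theorem alt_five_abelian {a b : alternatingGroup (Fin 5)} (ha : a ^ 4 = 1) (hb : b ^ 4 = 1) (hab : (a * b) ^ 4 = 1) :
    Commute a b := by
  have h1 := alt_five_two a ha
  have h2 := alt_five_two b hb
  have h3 := alt_five_two _ hab
  show a * b = b * a
  rw [← inv_eq_of_mul_eq_one_right h3, mul_inv_rev, inv_eq_of_mul_eq_one_right h1, inv_eq_of_mul_eq_one_right h2]

theorem alt_five_simple_card : Nat.card (alternatingGroup (Fin 5)) = 60 := by
  rw [Nat.card_eq_fintype_card]; decide +kernel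

theorem pow_four_of_two_power {x : alternatingGroup (Fin 5)} {k : ℕ} (h : x ^ (2 ^ k) = 1) : x ^ 4 = 1 := by
  obtain ⟨j, -, hj⟩ := (Nat.dvd_prime_pow Nat.prime_two).1 (orderOf_dvd_of_pow_eq_one h)
  refine orderOf_dvd_iff_pow_eq_one.1 ?_
  rw [hj]
  have h60 : 2 ^ j ∣ 60 := hj ▸ alt_five_simple_card ▸ _root_.orderOf_dvd_natCard x
  have hj2 : j ≤ 2 := by
    by_contra hc
    exact absurd ((pow_dvd_pow 2 (show 3 ≤ j by omega)).trans h60) (by norm_num)
  exact (pow_dvd_pow 2 hj2).trans (by norm_num)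

section

variable {G : Type u} [Group G] [Finite G] [IsSimpleGroup G] {t : G}

set_option quotPrecheck false in
local notation "C" => centralizer ({t} : Set G)

/-- `Q` contains its centralizer. -/
theorem centralizer_le
    (ht : Cfsg.IsTwoCentralInvolution t) (Q : Subgroup (centralizer ({t} : Set G))) [hQn : Q.Normal]
    (hQ : Cfsg.IsExtraspecial 2 Q) (hcard : Nat.card Q = 32)
    (e : (centralizer ({t} : Set G)) ⧸ Q ≃* alternatingGroup (Fin 5)) :
    centralizer (Q : Set (centralizer ({t} : Set G))) ≤ Q := by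
  classical
  obtain ⟨hto, S, htS, hS⟩ := ht
  let φ : C →* alternatingGroup (Fin 5) := e.toMonoidHom.comp (QuotientGroup.mk' Q)
  have hφ : ∀ c, φ c = 1 ↔ c ∈ Q := fun c => by
    show e (c : C ⧸ Q) = 1 ↔ _
    rw [MulEquiv.map_eq_one_iff, QuotientGroup.eq_one_iff]
  have hφs : Function.Surjective φ := e.surjective.comp (QuotientGroup.mk'_surjective Q)
  haveI hsimple : IsSimpleGroup (alternatingGroup (Fin 5)) := alternatingGroup.isSimpleGroup_five
  obtain ⟨z, hx, -⟩ := Cfsg.Lib.LargeExtra.exists_x2 hQ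
  set R := centralizer (Q : Set C) with hR
  haveI : R.Normal := by rw [hR]; infer_instance
  by_contra hle
  have hRC : ∀ c : C, ∃ q ∈ Q, ∃ r ∈ R, c = q * r := by
    intro c
    have hmap : R.map φ = ⊤ := by
      haveI := (inferInstance : R.Normal).map φ hφs
      refine (IsSimpleGroup.eq_bot_or_eq_top_of_normal (R.map φ) inferInstance).resolve_left fun h => hle fun r hr => ?_
      exact (hφ r).1 (mem_bot.1 (h ▸ mem_map_of_mem φ hr))
    obtain ⟨r, hr, hrc⟩ := mem_map.1 (hmap ▸ mem_top (φ c) : φ c ∈ R.map φ)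
    exact ⟨c * r⁻¹, (hφ _).1 (by rw [map_mul, map_inv, hrc, mul_inv_cancel]), r, hr, by group⟩
  have hRQ : ∀ {q r : C}, q ∈ Q → r ∈ R → Commute q r := fun {q r} hq hr => (mem_centralizer_iff.1 hr q hq)
  -- `t` is the central involution of `Q`
  set tc : C := ⟨t, mem_centralizer_singleton_iff.2 rfl⟩ with htc
  have htcc : ∀ c : C, Commute c tc := fun c => Subtype.ext (mem_centralizer_singleton_iff.1 c.2)
  have htQ : tc ∈ Q := by
    refine (hφ tc).1 ?_
    have hcen : φ tc ∈ center (alternatingGroup (Fin 5)) := mem_center_iff.2 fun a => by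
      obtain ⟨c, rfl⟩ := hφs a
      rw [← map_mul, ← map_mul, (htcc c).eq]
    have hbot : center (alternatingGroup (Fin 5)) = ⊥ :=
      (IsSimpleGroup.eq_bot_or_eq_top_of_normal _ inferInstance).resolve_right fun h => by
        have hnc : ∃ a b : alternatingGroup (Fin 5), a * b ≠ b * a := by decide +kernel
        obtain ⟨a, b, hab⟩ := hnc
        exact hab (mem_center_iff.1 (h ▸ mem_top b) a)
    exact mem_bot.1 (hbot ▸ hcen)
  have hzt : z = tc := ((hx.cen tc htQ fun a _ => htcc a).resolve_left fun h => by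
    have : t = 1 := congrArg Subtype.val h
    rw [this, orderOf_one] at hto
    omega).symm
  subst hzt
  have hRZ : ∀ {q : C}, q ∈ Q → q ∈ R → q = 1 ∨ q = tc := fun {q} hq hr =>
    hx.cen q hq fun a ha => hRQ ha hr
  -- commutators in 2-subgroups
  have star : ∀ p p' : C, (∃ k, p ^ (2 ^ k) = 1) → (∃ k, p' ^ (2 ^ k) = 1) → (∃ k, (p * p') ^ (2 ^ k) = 1) →
      ⁅p, p'⁆ = 1 ∨ ⁅p, p'⁆ = tc := by
    intro p p' ⟨k, hk⟩ ⟨k', hk'⟩ ⟨l, hl⟩
    have four : ∀ {y : C} {k : ℕ}, y ^ (2 ^ k) = 1 → φ y ^ 4 = 1 := fun {y k} h =>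
      pow_four_of_two_power (k := k) (by rw [← map_pow, h, map_one])
    have hcom : φ ⁅p, p'⁆ = 1 := by
      rw [map_commutatorElement, commutatorElement_eq_one_iff_commute]
      exact alt_five_abelian (four hk) (four hk') (by rw [← map_mul]; exact four hl)
    have hmemQ := (hφ _).1 hcom
    obtain ⟨q, hq, r, hr, rfl⟩ := hRC p
    obtain ⟨q', hq', r', hr', rfl⟩ := hRC p'
    have c1 := (hRQ hq hr').eq
    have c2 := (hRQ hq' hr).eq
    have hsplit : ⁅q * r, q' * r'⁆ = ⁅q, q'⁆ * ⁅r, r'⁆ := by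
      have a1 : Commute r q' := (hRQ hq' hr).symm
      have a2 : Commute r q'⁻¹ := a1.inv_right
      have a3 : Commute r' q⁻¹ := (hRQ hq hr').symm.inv_right
      have a4 : Commute r' q' := (hRQ hq' hr').symm
      have a5 : Commute r q⁻¹ := (hRQ hq hr).symm.inv_right
      have key : Commute (⁅r, r'⁆) (q⁻¹) :=
        (hRQ (inv_mem hq) (mul_mem (mul_mem (mul_mem hr hr') (inv_mem hr)) (inv_mem hr'))).symm
      have key' : Commute (⁅r, r'⁆) (q'⁻¹) :=
        (hRQ (inv_mem hq') (mul_mem (mul_mem (mul_mem hr hr') (inv_mem hr)) (inv_mem hr'))).symm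
      rw [commutatorElement_def, commutatorElement_def] at *
      calc q * r * (q' * r') * (q * r)⁻¹ * (q' * r')⁻¹
          = q * (r * q') * r' * r⁻¹ * (q⁻¹ * r'⁻¹) * q'⁻¹ := by group
        _ = q * (q' * r) * r' * r⁻¹ * (r'⁻¹ * q⁻¹) * q'⁻¹ := by rw [a1.eq, a3.inv_left.eq]
        _ = q * q' * ((r * r' * r⁻¹ * r'⁻¹) * q⁻¹) * q'⁻¹ := by group
        _ = q * q' * q⁻¹ * ((r * r' * r⁻¹ * r'⁻¹) * q'⁻¹) := by rw [key.eq]; group
        _ = q * q' * q⁻¹ * q'⁻¹ * (r * r' * r⁻¹ * r'⁻¹) := by rw [key'.eq]; group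
    rw [hsplit] at hmemQ ⊢
    have hq1 : ⁅q, q'⁆ ∈ Q := mul_mem (mul_mem (mul_mem hq hq') (inv_mem hq)) (inv_mem hq')
    have hr1 : ⁅r, r'⁆ ∈ R := mul_mem (mul_mem (mul_mem hr hr') (inv_mem hr)) (inv_mem hr')
    have hrQ : ⁅r, r'⁆ ∈ Q := by
      have := mul_mem (inv_mem hq1) hmemQ
      rwa [inv_mul_cancel_left] at this
    have htt : tc * tc = 1 := hx.zz
    rcases hx.comm q hq q' hq' with h | h <;> rcases hRZ hrQ hr1 with h' | h' <;> rw [h, h']
    · left; exact one_mul 1
    · right; exact one_mul tc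
    · right; exact mul_one tc
    · left; exact htt
  -- a conjugate in `S`
  obtain ⟨g, hgS, hgne⟩ : ∃ g : G, g * t * g⁻¹ ∈ S ∧ g * t * g⁻¹ ≠ t := by
    by_contra hno
    push Not at hno
    obtain ⟨N, hN, hodd, hcm⟩ := Cfsg.Agent.S0215.result S t hto htS hno
    rcases hN.eq_bot_or_eq_top with rfl | rfl
    · have hall : ∀ v : G, v ∈ C := fun v => by
        refine mem_centralizer_singleton_iff.2 ?_
        have h1 := mem_bot.1 (hcm v)
        rw [mul_inv_eq_one, mul_inv_eq_iff_eq_mul] at h1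
        exact h1.symm
      have hcen : t ∈ center G := mem_center_iff.2 fun v => mem_centralizer_singleton_iff.1 (hall v)
      have htop : center G = ⊤ := (IsSimpleGroup.eq_bot_or_eq_top_of_normal _ inferInstance).resolve_left fun h => by
        have h1 : t ∈ (⊥ : Subgroup G) := by rw [← h]; exact hcen
        rw [mem_bot.1 h1, orderOf_one] at hto
        omega
      obtain ⟨a, b, hab⟩ := (by decide +kernel : ∃ a b : alternatingGroup (Fin 5), a * b ≠ b * a)
      obtain ⟨c, rfl⟩ := hφs a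
      obtain ⟨d, rfl⟩ := hφs b
      refine hab ?_
      rw [← map_mul, ← map_mul]
      exact congrArg φ (Subtype.ext (mem_center_iff.1 (htop ▸ mem_top (d : G)) (c : G)))
    · rw [card_top] at hodd
      exact Nat.not_even_iff_odd.2 hodd (even_iff_two_dvd.2 (hto ▸ _root_.orderOf_dvd_natCard t))
  set u : C := ⟨g * t * g⁻¹, mem_centralizer_singleton_iff.2 (hS _ hgS)⟩ with hu
  obtain ⟨q, hq, r, hr, hqr⟩ := hRC u
  -- two elements of `Q` commuting with `u` and not with each other
  obtain ⟨p, hp, p', hp', hpq, hp'q, hne⟩ : ∃ p ∈ Q, ∃ p' ∈ Q, Commute p q ∧ Commute p' q ∧ ⁅p, p'⁆ ≠ 1 := by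
    by_contra hno
    push Not at hno
    set A := Q ⊓ centralizer ({q} : Set C) with hA
    have hAab : ∀ a ∈ A, ∀ b ∈ A, Commute a b := fun a ha b hb => commutatorElement_eq_one_iff_commute.1
      (hno a (mem_inf.1 ha).1 b (mem_inf.1 hb).1 (mem_centralizer_singleton_iff.1 (mem_inf.1 ha).2)
        (mem_centralizer_singleton_iff.1 (mem_inf.1 hb).2))
    have two : ∀ {x a b : C}, x ∈ Q → a ∈ Q → b ∈ Q → ⁅a, x⁆ ≠ 1 → ⁅b, x⁆ ≠ 1 → Commute (a⁻¹ * b) x := by
      intro x a b hxQ ha hb h1 h2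
      have e1 := (hx.comm a ha x hxQ).resolve_left h1
      have e2 := (hx.comm b hb x hxQ).resolve_left h2
      rw [commutatorElement_def, mul_inv_eq_iff_eq_mul] at e1 e2
      show a⁻¹ * b * x = x * (a⁻¹ * b)
      calc a⁻¹ * b * x = a⁻¹ * (b * x * b⁻¹) * b := by group
        _ = a⁻¹ * (a * x * a⁻¹) * b := by rw [e2, e1]
        _ = x * (a⁻¹ * b) := by group
    have half : ∀ {x : C}, x ∈ Q → ∀ B : Subgroup C, B ≤ Q →
        Nat.card B ≤ 2 * Nat.card (B ⊓ centralizer ({x} : Set C) : Subgroup C) := by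
      intro x hxQ B hB
      have h : ((B ⊓ centralizer ({x} : Set C) : Subgroup C).subgroupOf B).index ≤ 2 := by
        set H := (B ⊓ centralizer ({x} : Set C) : Subgroup C).subgroupOf B
        rw [Subgroup.index]
        by_cases hc : ∀ b : B, b ∈ H
        · rw [show H = ⊤ from (Subgroup.eq_top_iff' H).2 hc]
          simp
        push Not at hc
        obtain ⟨b₀, hb₀⟩ := hc
        rw [← Nat.card_fin 2]
        refine Nat.card_le_card_of_surjective (fun i : Fin 2 => (QuotientGroup.mk (if i = 0 then 1 else b₀) : B ⧸ H)) ?_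
        intro c
        induction c using QuotientGroup.induction_on with
        | H b =>
          by_cases hb : b ∈ H
          · exact ⟨0, QuotientGroup.eq.2 (by simpa using hb)⟩
          · refine ⟨1, QuotientGroup.eq.2 ?_⟩
            have hn : ∀ {y : B}, y ∉ H → ⁅(y : C), x⁆ ≠ 1 := fun {y} hy h => hy (mem_subgroupOf.2 (mem_inf.2
              ⟨y.2, mem_centralizer_singleton_iff.2 (commutatorElement_eq_one_iff_commute.1 h).eq⟩))
            have := two hxQ (hB b₀.2) (hB b.2) (hn hb₀) (hn hb)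
            simp only [show (1 : Fin 2) ≠ 0 by decide, if_false]
            exact mem_subgroupOf.2 (mem_inf.2 ⟨(b₀⁻¹ * b).2, mem_centralizer_singleton_iff.2 this.eq⟩)
      have h' := Subgroup.card_mul_index ((B ⊓ centralizer ({x} : Set C) : Subgroup C).subgroupOf B)
      rw [Nat.card_congr (Subgroup.subgroupOfEquivOfLe inf_le_left).toEquiv] at h'
      rw [← h', mul_comm]
      exact Nat.mul_le_mul_right _ h
    have hA16 : 16 ≤ Nat.card A := by
      have := half hq Q le_rfl
      rw [hcard] at this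
      rw [hA]; omega
    by_cases hAQ : A = Q
    · obtain ⟨a, ha, b, hb, hab⟩ : ∃ a ∈ Q, ∃ b ∈ Q, ¬ Commute a b := by
        by_contra hh
        push Not at hh
        have hsub : (Q : Set C) ⊆ {1, tc} := fun a ha => hx.cen a ha fun b hb => hh b hb a ha
        have h2 := (Set.ncard_le_ncard hsub).trans (Set.ncard_insert_le _ _)
        rw [Set.ncard_singleton, ← Nat.card_coe_set_eq] at h2
        change Nat.card Q ≤ 2 at h2
        omega
      exact hab (hAab a (hAQ ▸ ha) b (hAQ ▸ hb))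
    · obtain ⟨x, hxQ, hxA⟩ : ∃ x ∈ Q, x ∉ A := by
        by_contra hh
        push Not at hh
        exact hAQ (le_antisymm inf_le_left hh)
      set H := A ⊔ zpowers x with hH
      have hHQ : H ≤ Q := sup_le inf_le_left (zpowers_le.2 hxQ)
      have hHeq : H = Q := by
        have hdvd : Nat.card A ∣ Nat.card H := card_dvd_of_le le_sup_left
        have hdvd2 : Nat.card H ∣ 32 := hcard ▸ card_dvd_of_le hHQ
        have hne : Nat.card A ≠ Nat.card H := fun hh => hxA
          ((Subgroup.eq_of_le_of_card_ge (le_sup_left : A ≤ H) hh.ge).symm ▸ (le_sup_right : zpowers x ≤ H) (mem_zpowers x))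
        refine Subgroup.eq_of_le_of_card_ge hHQ ?_
        rw [hcard]
        obtain ⟨k, hk⟩ := hdvd
        have : 2 ≤ k := by
          rcases k with _ | _ | k
          · rw [mul_zero] at hk; exact absurd hk Nat.card_pos.ne'
          · exact absurd (by simpa using hk.symm) hne
          · omega
        nlinarith [Nat.le_of_dvd (by norm_num) hdvd2]
      have hker : ∀ a ∈ A ⊓ centralizer ({x} : Set C), a = 1 ∨ a = tc := by
        intro a ha
        obtain ⟨haA, hax⟩ := mem_inf.1 ha
        refine hx.cen a (mem_inf.1 haA).1 fun b hb => ?_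
        have hle : Q ≤ centralizer ({a} : Set C) := hHeq ▸ sup_le
          (fun y hy => mem_centralizer_singleton_iff.2 (hAab y hy a haA).eq)
          (zpowers_le.2 (mem_centralizer_singleton_iff.2 (mem_centralizer_singleton_iff.1 hax).symm))
        exact mem_centralizer_singleton_iff.1 (hle hb)
      have h2 : Nat.card (A ⊓ centralizer ({x} : Set C) : Subgroup C) ≤ 2 := by
        have hsub : ((A ⊓ centralizer ({x} : Set C) : Subgroup C) : Set C) ⊆ ({1, tc} : Set C) := fun a ha => hker a ha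
        have h2 := (Set.ncard_le_ncard hsub).trans (Set.ncard_insert_le _ _)
        rw [Set.ncard_singleton, ← Nat.card_coe_set_eq] at h2
        exact h2
      have := half hxQ A inf_le_left
      omega
  -- transport to the centralizer of `t`
  have hcomm : ∀ {y : C}, y ∈ Q → Commute y q → Commute (y : G) (g * t * g⁻¹) := fun {y} hy hyq => by
    have h : Commute y u := by rw [hqr]; exact hyq.mul_right (hRQ hy hr)
    exact congrArg Subtype.val h.eq
  have back : ∀ {y : C}, y ∈ Q → Commute y q → g⁻¹ * (y : G) * g ∈ C := fun {y} hy hyq => by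
    refine mem_centralizer_singleton_iff.2 ?_
    calc g⁻¹ * (y : G) * g * t = g⁻¹ * ((y : G) * (g * t * g⁻¹)) * g := by group
      _ = g⁻¹ * ((g * t * g⁻¹) * (y : G)) * g := by rw [(hcomm hy hyq).eq]
      _ = t * (g⁻¹ * (y : G) * g) := by group
  have two_pow : ∀ {y : C}, y ∈ Q → ∃ k, (g⁻¹ * (y : G) * g) ^ (2 ^ k) = 1 := fun {y} hy => by
    obtain ⟨k, hk⟩ := hx.isP ⟨y, hy⟩
    refine ⟨k, ?_⟩
    have h : ((y : C) : G) ^ 2 ^ k = 1 := by
      have := congrArg (fun w : Q => ((w : C) : G)) hk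
      simpa using this
    rw [show g⁻¹ * (y : G) * g = MulAut.conj g⁻¹ (y : G) by simp, ← map_pow, h, map_one]
  set P : C := ⟨_, back hp hpq⟩
  set P' : C := ⟨_, back hp' hp'q⟩
  obtain ⟨k, hk⟩ := two_pow hp
  obtain ⟨k', hk'⟩ := two_pow hp'
  obtain ⟨l, hl⟩ := two_pow (mul_mem hp hp')
  have hPP := star P P' ⟨k, Subtype.ext hk⟩ ⟨k', Subtype.ext hk'⟩ ⟨l, Subtype.ext (by
    show (g⁻¹ * (p : G) * g * (g⁻¹ * (p' : G) * g)) ^ 2 ^ l = 1
    rw [← hl]
    congr 1
    simp [mul_assoc])⟩
  have hpp : ⁅p, p'⁆ = tc := (hx.comm p hp p' hp').resolve_left hne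
  have hval : ((⁅P, P'⁆ : C) : G) = g⁻¹ * t * g := by
    have e : ((⁅p, p'⁆ : C) : G) = t := congrArg Subtype.val hpp
    refine Eq.trans ?_ (congrArg (fun w => g⁻¹ * w * g) e)
    simp only [commutatorElement_def, Subgroup.coe_mul, InvMemClass.coe_inv, P, P']
    group
  rcases hPP with h | h <;> rw [h] at hval
  · have : t = 1 := by
      calc t = g * (g⁻¹ * t * g) * g⁻¹ := by group
        _ = 1 := by rw [← hval]; simp
    rw [this, orderOf_one] at hto
    omega
  · refine hgne ?_
    calc g * t * g⁻¹ = g * (g⁻¹ * t * g) * g⁻¹ := by rw [← hval]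
      _ = t := by group

end

end Cfsg.Lib.J3Type
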