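import Cfsg.Agent.J3Type.Model

/-!
The elementary abelian group of order sixteen and linear maps of it, with words excluding the wrong fusion.
-/

set_option autoImplicit false

namespace Cfsg.Lib.J3Type

open Equiv Cfsg.Lib.HallJankoType

/-- the second pairing -/
def tau12 : P5 := tau1 * tau2

/-- the coordinates of `z` -/
def zC : MC := ((true, false, false, false, false), 1)

/-- the coordinates of an involution outside `Q` -/
def tC : MC := (qone, tau1)

/-- the coordinates of the first involution of the complement -/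
def s1C : MC := ((true, true, false, false, true), tau12)

/-- the coordinates of the second involution of the complement -/
def s2C : MC := ((true, false, true, false, true), tau2)

/-- the coordinates of an element of order three of the complement -/
def rC : MC := (qone, (swap 0 1 * swap 0 2 : P5))

/-- the four generators of `E` and their sums -/
def eOf (m : Fin 16) : MC :=
  ((m.val.testBit 0, m.val.testBit 1, m.val.testBit 1, m.val.testBit 1, m.val.testBit 1),
    (if m.val.testBit 2 then tau1 else 1) * (if m.val.testBit 3 then tau2 else 1))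

/-- addition -/
def xadd (m k : Fin 16) : Fin 16 := Fin.ofNat 16 (m.val ^^^ k.val)

/-- the linear map with the given images of the basis -/
def lin (a b c d : Fin 16) (m : Fin 16) : Fin 16 :=
  xadd (xadd (if m.val.testBit 0 then a else 0) (if m.val.testBit 1 then b else 0))
    (xadd (if m.val.testBit 2 then c else 0) (if m.val.testBit 3 then d else 0))

/-- the action of the element exchanging `z` and the outer involution -/
def nMat : Fin 16 → Fin 16 := lin 4 12 1 3

/-- the action of the first involution of the complement -/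
def s1Mat : Fin 16 → Fin 16 := lin 1 2 7 10

/-- the action of the second involution of the complement -/
def s2Mat : Fin 16 → Fin 16 := lin 1 2 6 9

/-- the action of the element of order three of the complement -/
def rMat : Fin 16 → Fin 16 := lin 1 2 8 12

/-- the fixed point free element of order three -/
def xMat : Fin 16 → Fin 16 := lin 2 3 12 4

/-- the action of the conjugate of `x` -/
def pMat : Fin 16 → Fin 16 := lin 3 1 5 11

/-- the twelve maps induced by the centralizer of `z` -/
def fourMats : List (List (Fin 16)) :=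
  [[1, 2, 4, 8], [1, 2, 5, 11], [1, 2, 6, 9], [1, 2, 7, 10], [1, 2, 8, 12], [1, 2, 9, 15], [1, 2, 10, 13],
   [1, 2, 11, 14], [1, 2, 12, 4], [1, 2, 13, 7], [1, 2, 14, 5], [1, 2, 15, 6]]

/-- the images of the basis -/
def baseIm (f : Fin 16 → Fin 16) : List (Fin 16) := [f 1, f 2, f 4, f 8]

/-- the action of a word in three maps -/
def actW (f₀ f₁ f₂ : Fin 16 → Fin 16) : List ℕ → Fin 16 → Fin 16
  | [], m => m
  | i :: w, m => (if i = 0 then f₀ else if i = 1 then f₁ else f₂) (actW f₀ f₁ f₂ w m)

/-- iteration -/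
def iter (f : Fin 16 → Fin 16) : ℕ → Fin 16 → Fin 16
  | 0, m => m
  | n + 1, m => f (iter f n m)

/-- the excluding words -/
def badWords : List (List ℕ) :=
  [[],[],[],[],[],[],[],[],[],[],[],[],
   [],[],[],[],[],[],[],[],[],[],[],[],
   [],[],[],[],[],[],[],[],[],[],[],[],
   [],[],[],[],[0,2],[0,0],[0,2],[0,0],[0,0],[0,2],[0,0],[0,2],
   [],[],[],[],[],[],[],[],[0,0],[0,0],[0,0],[0,0],
   [0,0],[0,0],[0,0],[0,0],[],[],[],[],[],[],[],[],
   [],[],[],[],[],[],[],[],[],[],[],[],
   [],[],[],[],[],[],[],[],[],[],[],[],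
   [],[],[],[],[],[],[],[],[0,0],[0,0],[0,0],[0,0],
   [0,0],[0,0],[0,0],[0,0],[],[],[],[],[],[],[],[],
   [0,2],[0,0],[0,0],[0,2],[0,0],[0,2],[0,2],[0,0],[],[],[0,2,1,0,1,0],[0,0],
   [],[],[0,0],[0,0],[],[],[0,0],[0,0],[],[],[0,0],[0,0],
   [],[],[0,0],[0,0],[],[],[0,1,0,2],[0,0],[],[],[0,0],[0,0],
   [],[],[0,0],[0,0],[],[],[0,0],[0,0],[],[],[0,0],[0,0],
   [0,2],[0,0],[],[],[0,0],[0,0],[],[],[],[],[0,0],[0,0],
   [],[],[0,0],[0,0],[0,0],[0,0],[],[],[0,0],[0,2],[],[],
   [],[],[0,0],[],[],[],[0,0],[0,0],[],[],[0,0],[0,0],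
   [],[],[0,0],[0,0],[],[],[0,0],[0,0],[],[],[0,0],[0,2,1],
   [],[],[0,0],[0,0],[],[],[0,0],[0,0],[],[],[0,0],[0,0],
   [],[],[0,0],[0,0],[0,0],[0,0],[],[],[0,0],[0,2],[],[],
   [],[],[0,0],[0,0],[],[],[0,0],[0,0],[0,2],[0,0],[],[],
   [0,0],[0,0],[],[]]

/-- the word excludes the candidate -/
def badOK (k : ℕ) : Bool :=
  let μ := lin 4 (Fin.ofNat 16 (k / 16)) 1 (Fin.ofNat 16 k)
  let W := actW μ s1Mat rMat (badWords.getD k [])
  (List.finRange 16).any (fun m => decide (m ≠ 0) && decide (μ m = 0)) ||
    (decide (W 1 = 1) && !fourMats.contains (baseIm W)) ||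
    ((List.finRange 16).any (fun m => decide (m ≠ 0) && decide (W m = m)) &&
      [7, 7].all (fun n => (baseIm (iter W n) == baseIm id)) && !(baseIm W == baseIm id))

theorem bad_ok : ∀ k : Fin 256, k.val = 12 * 16 + 3 ∨ badOK k.val = true := by decide +kernel

end Cfsg.Lib.J3Type
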