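import Cfsg.Agent.Spor.J3.Simple
import Mathlib.Data.Matrix.Basic

/-!
The third Janko group has no element of order 323: a matrix commuting with the element of order nineteen is a
polynomial in it, hence fixed by the ninth power of the fourth-power map.
-/

set_option autoImplicit false
set_option linter.unusedSectionVars false

namespace Cfsg.Lib.J3Type

open Matrix Cfsg.Spor Cfsg.Lib.Spor.J3

/-- the coordinate vectors from the orbit of the first under the element of order nineteen and the scalars -/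
def spanData : List (List (ℕ × Bool)) :=
  [[(0,false)],
   [(0,false),(0,true),(2,false),(3,false),(3,true),(6,false),(7,false)],
   [(0,false),(0,true),(2,false),(2,true),(3,false),(3,true),(4,false),(4,true),(5,false),(6,false),(7,false)],
   [(0,false),(1,false),(1,true),(3,true),(4,false),(4,true),(5,false),(6,true),(7,false),(8,false)],
   [(0,false),(4,false),(4,true),(5,false),(6,false),(8,false)],
   [(0,true),(1,false),(2,false),(2,true),(3,true),(4,true),(6,false),(6,true),(7,false),(7,true),(8,true)],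
   [(1,true),(2,false),(2,true),(3,true),(4,false),(5,true),(6,false),(7,false),(7,true),(8,true)],
   [(0,false),(1,false),(1,true),(2,false),(2,true),(3,true),(6,true),(7,true),(8,true)],
   [(0,true),(1,false),(1,true),(3,false),(4,true),(5,false),(7,false),(7,true),(8,false),(8,true)]]

/-- the word of a summand -/
def summand (p : ℕ × Bool) : List ℕ := (if p.2 then [21] else []) ++ (List.replicate p.1 xWord).flatten

/-- the sum of summands -/
def sumVec : List (ℕ × Bool) → ℕ
  | [] => 0
  | p :: l => wvec (summand p) 1 ^^^ sumVec l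

theorem span_ok : ((List.range 9).all fun k => sumVec (spanData.getD k []) == 2 ^ k &&
    (spanData.getD k []).all fun p => lettersOK (summand p)) = true := by decide +kernel

theorem idx_bits : ∀ z w : F9, (2 ^ idx z).testBit (idx w) = decide (w = z) ∧
    (2 ^ idx z).testBit (9 + idx w) = false := by decide +kernel

theorem idx_lt : ∀ z : F9, idx z < 9 := by decide +kernel

variable {F : Type*} [Field F] [Fintype F] [CharP F 2] {ω : F} (hω : ω ^ 2 + ω + 1 = 0)

/-- the matrix of the element of order nineteen -/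
def xM : Matrix F9 F9 F := (wd hω xWord : Matrix F9 F9 F)

/-- the first coordinate vector -/
def e1 (ω : F) : F9 → F := vec ω 1

include hω

theorem xM_pow (i : ℕ) : ((wd hω (List.replicate i xWord).flatten : GL F9 F) : Matrix F9 F9 F) = xM hω ^ i := by
  rw [wd_flatten_replicate, Units.val_pow_eq_pow_val]; rfl

/-- polynomials in the matrix -/
def polyX : Submodule F (Matrix F9 F9 F) := Submodule.span F (Set.range fun i : ℕ => xM hω ^ i)

theorem exists_sum : ∀ l : List (ℕ × Bool), (∀ p ∈ l, lettersOK (summand p) = true) →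
    ∃ M ∈ polyX hω, M *ᵥ e1 ω = vec ω (sumVec l)
  | [], _ => ⟨0, zero_mem _, by rw [zero_mulVec]; exact (vec_zero ω).symm⟩
  | p :: l, h => by
    obtain ⟨M, hM, hMe⟩ := exists_sum l fun q hq => h q (List.mem_cons_of_mem _ hq)
    refine ⟨(wd hω (summand p) : Matrix F9 F9 F) + M, add_mem ?_ hM, ?_⟩
    · rw [summand, wd_append, Units.val_mul, xM_pow]
      have hx : xM hω ^ p.1 ∈ polyX hω := Submodule.subset_span ⟨p.1, rfl⟩
      cases p.2
      · simpa using hx
      · simpa [wd, (coe_scalar hω).1] using (polyX hω).smul_mem ω hx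
    · rw [add_mulVec, hMe, sumVec, vec_xor, vec_wvec hω (h p List.mem_cons_self)]
      rfl

theorem exists_poly (v : F9 → F) : ∃ M ∈ polyX hω, M *ᵥ e1 ω = v := by
  classical
  have hbasis : ∀ z, ∃ M ∈ polyX hω, M *ᵥ e1 ω = Pi.single z (1 : F) := fun z => by
    have h := List.all_eq_true.1 span_ok (idx z) (List.mem_range.2 (idx_lt z))
    simp only [Bool.and_eq_true, beq_iff_eq, List.all_eq_true] at h
    obtain ⟨M, hM, hMe⟩ := exists_sum hω _ h.2
    refine ⟨M, hM, hMe.trans ?_⟩
    rw [h.1]
    funext w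
    obtain ⟨h1, h2⟩ := idx_bits z w
    simp only [Cfsg.Lib.Spor.J3.vec, phi, h1, h2, Pi.single_apply]
    by_cases hw : w = z <;> simp [hw]
  choose M hM hMe using hbasis
  refine ⟨∑ z, v z • M z, sum_mem fun z _ => (polyX hω).smul_mem _ (hM z), ?_⟩
  rw [Matrix.sum_mulVec]
  simp only [smul_mulVec, hMe]
  funext w
  simp [Pi.single_apply]

theorem poly_commute {M : Matrix F9 F9 F} (hM : M ∈ polyX hω) : Commute M (xM hω) := by
  induction hM using Submodule.span_induction with
  | mem x hx => obtain ⟨i, rfl⟩ := hx; exact Commute.pow_self _ i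
  | zero => exact Commute.zero_left _
  | add x y _ _ hx hy => exact hx.add_left hy
  | smul c x _ hx => exact hx.smul_left c

theorem poly_commute₂ {M M' : Matrix F9 F9 F} (hM : M ∈ polyX hω) (hM' : M' ∈ polyX hω) : Commute M M' := by
  induction hM using Submodule.span_induction with
  | mem x hx => obtain ⟨i, rfl⟩ := hx; exact ((poly_commute hω hM').pow_right i).symm
  | zero => exact Commute.zero_left _
  | add x y _ _ hx hy => exact hx.add_left hy
  | smul c x _ hx => exact hx.smul_left c

theorem mem_poly {T : Matrix F9 F9 F} (hT : Commute T (xM hω)) : T ∈ polyX hω := by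
  classical
  obtain ⟨M, hM, hMe⟩ := exists_poly hω (T *ᵥ e1 ω)
  suffices h : T = M from h ▸ hM
  have key : ∀ N ∈ polyX hω, (T - M) *ᵥ (N *ᵥ e1 ω) = 0 := by
    intro N hN
    induction hN using Submodule.span_induction with
    | mem x hx =>
      obtain ⟨i, rfl⟩ := hx
      rw [mulVec_mulVec, ((hT.sub_left (poly_commute hω hM)).pow_right i).eq, ← mulVec_mulVec, sub_mulVec, hMe,
        sub_self, mulVec_zero]
    | zero => rw [zero_mulVec, mulVec_zero]
    | add x y _ _ hx hy => rw [add_mulVec, mulVec_add, hx, hy, add_zero]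
    | smul c x _ hx => rw [smul_mulVec, mulVec_smul, hx, smul_zero]
  refine sub_eq_zero.1 (Matrix.ext_of_mulVec_single fun z => ?_)
  obtain ⟨N, hN, hNe⟩ := exists_poly hω (Pi.single z 1)
  rw [← hNe, key N hN, zero_mulVec]

theorem four_add (hF : Fintype.card F = 4) {M M' : Matrix F9 F9 F} (h : Commute M M') :
    (M + M') ^ (4 ^ 9) = M ^ (4 ^ 9) + M' ^ (4 ^ 9) := by
  rw [show (4 : ℕ) ^ 9 = 2 ^ 18 by norm_num]
  exact add_pow_char_pow_of_commute (p := 2) (x := M) (y := M') 18 h

theorem frob_fixed (hF : Fintype.card F = 4) {M : Matrix F9 F9 F} (hM : M ∈ polyX hω) : M ^ (4 ^ 9) = M := by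
  induction hM using Submodule.span_induction with
  | mem x hx =>
    obtain ⟨i, rfl⟩ := hx
    have h19 : xM hω ^ 19 = 1 := by
      have h := congrArg (fun g : threeJ3 F ω => ((g : GL F9 F) : Matrix F9 F9 F)) (pow_orderOf_eq_one (xElt hω))
      rw [orderOf_xElt] at h
      simpa [xM, xElt] using h
    show (xM hω ^ i) ^ (4 ^ 9) = xM hω ^ i
    rw [← pow_mul]
    conv_lhs => rw [pow_eq_pow_mod _ h19, Nat.mul_mod, show 4 ^ 9 % 19 = 1 by norm_num, mul_one, Nat.mod_mod]
    exact (pow_eq_pow_mod i h19).symm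
  | zero => exact zero_pow (by norm_num)
  | add x y hx hy ihx ihy => rw [four_add hω hF (poly_commute₂ hω hx hy), ihx, ihy]
  | smul c x _ hx =>
    rw [smul_pow, hx]
    congr 1
    have := FiniteField.pow_card_pow 9 c
    rwa [hF] at this

/-- No element of order 323. -/
theorem orderOf_ne_323 (hF : Fintype.card F = 4) (u : J3 F ω) : orderOf u ≠ 323 := by
  classical
  intro hu
  haveI : Fact (Nat.Prime 19) := ⟨by norm_num⟩
  haveI hs := isSimpleGroup_J3 hω hF
  haveI : Finite (J3 F ω) := Nat.finite_of_card_ne_zero (by rw [card_J3 hω hF]; norm_num)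
  haveI : Finite (threeJ3 F ω) := Nat.finite_of_card_ne_zero (by rw [(first_orbit_and_order hω hF).1]; norm_num)
  set π := QuotientGroup.mk' (Subgroup.center (threeJ3 F ω))
  set q := u ^ 17 with hq
  set y := u ^ 19 with hy
  have hq19 : orderOf q = 19 := by rw [hq, orderOf_pow, hu]; norm_num
  have hy17 : orderOf y = 17 := by rw [hy, orderOf_pow, hu]; norm_num
  have c3 : ∀ {c : threeJ3 F ω}, c ∈ Subgroup.center (threeJ3 F ω) → c ^ 3 = 1 := fun {c} hc => by
    have h := congrArg Subtype.val (pow_card_eq_one' (x := (⟨c, hc⟩ : Subgroup.center _)))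
    rwa [SubgroupClass.coe_pow, card_center hω hF] at h
  set X := π (xElt hω) with hX
  have hX19 : orderOf X = 19 := by
    refine orderOf_eq_prime (by rw [hX, ← map_pow, ← orderOf_xElt hω, pow_orderOf_eq_one, map_one]) fun h => ?_
    have h1 := c3 ((QuotientGroup.eq_one_iff _).1 h)
    have h2 := orderOf_dvd_of_pow_eq_one h1
    rw [orderOf_xElt hω] at h2
    norm_num at h2
  have syl : ∀ t : J3 F ω, orderOf t = 19 → ∃ S : Sylow 19 (J3 F ω), (S : Subgroup (J3 F ω)) = Subgroup.zpowers t := by
    intro t ht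
    have h2 : IsPGroup 19 (Subgroup.zpowers t) := IsPGroup.of_card (n := 1) (by rw [Nat.card_zpowers, ht, pow_one])
    obtain ⟨S, hS⟩ := h2.exists_le_sylow
    refine ⟨S, (Subgroup.eq_of_le_of_card_ge hS ?_).symm⟩
    rw [Nat.card_zpowers, ht, S.card_eq_multiplicity, card_J3 hω hF,
      show (50232960 : ℕ).factorization 19 = 1 from ?_]
    · norm_num
    rw [show (50232960 : ℕ) = 19 * 2643840 from rfl, Nat.factorization_mul (by norm_num) (by norm_num),
      Finsupp.add_apply, Nat.Prime.factorization_self (by norm_num), Nat.factorization_eq_zero_of_not_dvd (by norm_num)]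
  obtain ⟨S, hS⟩ := syl q hq19
  obtain ⟨T, hT⟩ := syl X hX19
  obtain ⟨g, hg⟩ := MulAction.exists_smul_eq (J3 F ω) S T
  have hX' : X ∈ Subgroup.zpowers (MulAut.conj g q) := by
    have h : X ∈ ((g • S : Sylow 19 (J3 F ω)) : Subgroup (J3 F ω)) := by
      rw [hg, hT]; exact Subgroup.mem_zpowers X
    rw [Sylow.coe_subgroup_smul, hS] at h
    obtain ⟨b, hb, hbx⟩ := Subgroup.mem_map.1 h
    obtain ⟨k, rfl⟩ := Subgroup.mem_zpowers_iff.1 hb
    rw [← hbx]
    exact ⟨k, by simp [MulAut.smul_def]⟩
  obtain ⟨k, hk⟩ := Subgroup.mem_zpowers_iff.1 hX'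
  set y' := MulAut.conj g y with hy'
  have hyX : Commute y' X := by
    rw [← hk]
    exact (((Commute.refl u).pow_pow 19 17).map (MulAut.conj g)).zpow_right k
  have hy'17 : orderOf y' = 17 := by rw [hy', MulEquiv.orderOf_eq, hy17]
  obtain ⟨Y, hY⟩ := QuotientGroup.mk'_surjective _ y'
  set c := (xElt hω)⁻¹ * (Y * xElt hω * Y⁻¹) with hc
  have hcc : c ∈ Subgroup.center (threeJ3 F ω) := by
    refine (QuotientGroup.eq_one_iff c).1 ?_
    show π c = 1
    rw [hc, map_mul, map_mul, map_mul, map_inv, map_inv, hY, ← hX, hyX.eq]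
    group
  have hc1 : c = 1 := by
    have h3 := c3 hcc
    have hcom : Commute (xElt hω) c := (Subgroup.mem_center_iff.1 hcc (xElt hω))
    have hx19 : xElt hω ^ 19 = 1 := by rw [← orderOf_xElt hω]; exact pow_orderOf_eq_one _
    have e : xElt hω * c = Y * xElt hω * Y⁻¹ := by rw [hc, mul_inv_cancel_left]
    have h19 := congrArg (· ^ 19) e
    simp only [hcom.mul_pow, conj_pow, hx19, one_mul, mul_one, mul_inv_cancel] at h19
    calc c = c ^ 19 * ((c ^ 3) ^ 6)⁻¹ := by group
      _ = 1 := by rw [h19, h3, one_pow, inv_one, mul_one]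
  have hYX : Commute (((Y : GL F9 F)) : Matrix F9 F9 F) (xM hω) := by
    rw [hc, inv_mul_eq_one] at hc1
    have h := congrArg (fun t : threeJ3 F ω => ((t : GL F9 F) : Matrix F9 F9 F)) (eq_mul_inv_iff_mul_eq.1 hc1)
    simp only [Subgroup.coe_mul, Units.val_mul] at h
    exact h.symm
  have hfix := frob_fixed hω hF (mem_poly hω hYX)
  have hY1 : Y ^ (4 ^ 9 - 1) = 1 := by
    refine Subtype.ext (Units.ext ?_)
    rw [SubgroupClass.coe_pow, Units.val_pow_eq_pow_val, OneMemClass.coe_one, Units.val_one]
    have hu' : IsUnit (((Y : GL F9 F)) : Matrix F9 F9 F) := Units.isUnit _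
    refine hu'.mul_left_cancel ?_
    rw [mul_one, ← pow_succ', show 4 ^ 9 - 1 + 1 = 4 ^ 9 by norm_num]
    exact hfix
  have hd : orderOf y' ∣ 4 ^ 9 - 1 := orderOf_dvd_of_pow_eq_one (by rw [← hY, ← map_pow, hY1, map_one])
  rw [hy'17] at hd
  norm_num at hd

end Cfsg.Lib.J3Type
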