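import Cfsg.Agent.J3Type.Iso
import Cfsg.Agent.J3Type.Rigid
import Cfsg.Agent.Spor.J3.CentFinal
import Cfsg.Agent.InvolCalc.StronglyEmbedded
import Mathlib.GroupTheory.Transfer

/-!
The copy of the third Janko group is everything: otherwise it would be strongly embedded, with a two point
stabilizer of odd order containing an element of order 323.
-/

set_option autoImplicit false
set_option linter.unusedSectionVars false
set_option linter.style.haveILetI false
set_option synthInstance.maxSize 1000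

namespace Cfsg.Lib.J3Type

open Subgroup Cfsg.Lib.HallJankoType

universe u

theorem divisor_case {d : ℕ} (hd : d ∣ 50232960) (hodd : Odd d) (hge : 26163 ≤ d) :
    17 ∣ d ∧ 19 ∣ d ∧ ¬ 17 ^ 2 ∣ d ∧ ¬ 19 ^ 2 ∣ d := by
  have hc : Nat.Coprime d (2 ^ 7) := (Nat.coprime_two_right.2 hodd).pow_right 7
  have h1 : d ∣ 392445 := hc.dvd_of_dvd_mul_left (by rwa [show 2 ^ 7 * 392445 = 50232960 by norm_num])
  obtain ⟨k, hk⟩ := h1
  have hk15 : k ≤ 15 := by nlinarith
  interval_cases k <;> (try omega) <;>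
    (obtain rfl : d = 392445 / _ := (Nat.div_eq_of_eq_mul_left (by norm_num) hk).symm) <;> norm_num

/-- A group of odd order divisible just once by 17 and 19 has an element of order 323. -/
theorem exists_order_323 {D : Type*} [Group D] [Finite D] (hodd : Odd (Nat.card D)) (h17 : 17 ∣ Nat.card D)
    (h19 : 19 ∣ Nat.card D) (n17 : ¬ 17 ^ 2 ∣ Nat.card D) (n19 : ¬ 19 ^ 2 ∣ Nat.card D) :
    ∃ w : D, orderOf w = 323 := by
  classical
  haveI : Fact (Nat.Prime 17) := ⟨by norm_num⟩
  haveI : Fact (Nat.Prime 19) := ⟨by norm_num⟩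
  have cardS : ∀ {p : ℕ} [Fact p.Prime] {K : Type _} [Group K] [Finite K], p ∣ Nat.card K → ¬ p ^ 2 ∣ Nat.card K →
      ∀ S : Sylow p K, Nat.card (S : Subgroup K) = p := by
    intro p hp K _ _ h1 h2 S
    obtain ⟨m, hm⟩ := IsPGroup.iff_card.1 S.2
    have h := S.card_eq_multiplicity
    have hdvd : p ^ m ∣ Nat.card K := hm ▸ Subgroup.card_subgroup_dvd_card _
    rcases m with _ | _ | m
    · rw [hm, pow_zero] at h
      have hpos := (Nat.Prime.factorization_pos_of_dvd hp.out Nat.card_pos.ne' h1)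
      exact absurd h.symm (Nat.one_lt_pow hpos.ne' hp.out.one_lt).ne'
    · rw [hm, pow_one]
    · exact absurd ((pow_dvd_pow p (by omega)).trans hdvd) h2
  let P : Sylow 17 D := default
  have hPc : Nat.card (P : Subgroup D) = 17 := cardS h17 n17 P
  have hNC : Subgroup.normalizer ((P : Subgroup D) : Set D) ≤ Subgroup.centralizer ((P : Subgroup D) : Set D) := by
    intro g hg
    haveI : IsCyclic (P : Subgroup D) := isCyclic_of_prime_card hPc
    set f := Subgroup.normalizerMonoidHom (P : Subgroup D) with hf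
    have h1 : orderOf (f ⟨g, hg⟩) ∣ 16 := by
      refine (_root_.orderOf_dvd_natCard _).trans ?_
      rw [IsCyclic.card_mulAut, hPc, Nat.totient_prime (by norm_num)]
    have h2 : orderOf (f ⟨g, hg⟩) ∣ Nat.card D :=
      (orderOf_map_dvd f _).trans (by rw [← Subgroup.orderOf_coe]; exact _root_.orderOf_dvd_natCard g)
    have h3 : orderOf (f ⟨g, hg⟩) = 1 := Nat.eq_one_of_dvd_coprimes
      (show Nat.Coprime 16 (Nat.card D) from (Nat.coprime_two_left.2 hodd).pow_left 4) h1 h2
    rw [orderOf_eq_one_iff] at h3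
    have h4 : (⟨g, hg⟩ : Subgroup.normalizer ((P : Subgroup D) : Set D)) ∈ f.ker := h3
    rw [hf, Subgroup.normalizerMonoidHom_ker] at h4
    exact h4
  set K := (MonoidHom.transferSylow P hNC).ker with hK
  have hcomp := MonoidHom.ker_transferSylow_isComplement' P hNC
  have hKc : Nat.card K * 17 = Nat.card D := hPc ▸ hcomp.card_mul
  have h19K : 19 ∣ Nat.card K := (Nat.Coprime.dvd_of_dvd_mul_right (by norm_num : Nat.Coprime 19 17) (hKc ▸ h19))
  have n19K : ¬ 19 ^ 2 ∣ Nat.card K := fun h => n19 (hKc ▸ dvd_mul_of_dvd_left h 17)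
  let Q : Sylow 19 K := default
  set Q' : Subgroup D := (Q : Subgroup K).map K.subtype with hQ'
  have hQc : Nat.card Q' = 19 := by
    rw [hQ', Subgroup.card_map_of_injective K.subtype_injective, cardS h19K n19K Q]
  have hfr := Sylow.normalizer_sup_eq_top Q
  set N := Subgroup.normalizer (Q' : Set D) with hN
  have h17N : 17 ∣ Nat.card N := by
    have hsurj : Function.Surjective ((QuotientGroup.mk' K).comp N.subtype) := by
      intro q
      obtain ⟨g, rfl⟩ := QuotientGroup.mk'_surjective K q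
      have hg : g ∈ N ⊔ K := hfr ▸ Subgroup.mem_top g
      obtain ⟨n, hn, k, hk, rfl⟩ := Subgroup.mem_sup_of_normal_right.1 hg
      exact ⟨⟨n, hn⟩, by simp [hk]⟩
    refine dvd_trans ?_ (Subgroup.card_dvd_of_surjective _ hsurj)
    have h := Subgroup.card_eq_card_quotient_mul_card_subgroup K
    rw [← hKc, mul_comm (Nat.card K)] at h
    exact (Nat.eq_of_mul_eq_mul_right Nat.card_pos h).dvd
  obtain ⟨y, hy⟩ := exists_prime_orderOf_dvd_card' (G := N) 17 h17N
  obtain ⟨q, hq⟩ := exists_prime_orderOf_dvd_card' (G := Q') 19 hQc.symm.dvd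
  haveI : IsCyclic Q' := isCyclic_of_prime_card hQc
  set f := Subgroup.normalizerMonoidHom Q' with hf
  have h3 : orderOf (f y) = 1 := Nat.eq_one_of_dvd_coprimes (show Nat.Coprime 18 17 by norm_num) (by
      refine (_root_.orderOf_dvd_natCard _).trans ?_
      rw [IsCyclic.card_mulAut, hQc, Nat.totient_prime (by norm_num)]) (hy ▸ orderOf_map_dvd f y)
  rw [orderOf_eq_one_iff] at h3
  have h4 : y ∈ f.ker := h3
  rw [hf, Subgroup.normalizerMonoidHom_ker] at h4
  have hc : Commute (y : D) (q : D) := (Subgroup.mem_centralizer_iff.1 h4 (q : D) q.2).symm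
  refine ⟨(y : D) * q, ?_⟩
  rw [hc.orderOf_mul_eq_mul_orderOf_of_coprime (by rw [Subgroup.orderOf_coe, Subgroup.orderOf_coe, hy, hq]; norm_num),
    Subgroup.orderOf_coe, Subgroup.orderOf_coe, hy, hq]

variable {G : Type u} [Group G] [Finite G] {z : G} {a : Fin 5 → G} {ρ : P5 → G} {K : Coord z a ρ} {n x : G}

/-- The group is the third Janko group. -/
theorem NX.iso_j3 (X : NX K n x 2) (hone : ∀ s t : G, orderOf s = 2 → orderOf t = 2 → IsConj s t) :
    Cfsg.Spor.IsoJ3 G := by
  classical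
  obtain ⟨M, hiso, hcM, hlet⟩ := X.exists_subgroup
  obtain ⟨F, hFF, hFi, ω, hF, hω, ⟨em⟩⟩ := hiso
  by_cases htop : M = ⊤
  · exact ⟨F, hFF, hFi, ω, hF, hω, ⟨(Subgroup.topEquiv.symm.trans (MulEquiv.subgroupCongr htop.symm)).trans em⟩⟩
  exfalso
  haveI : CharP F 2 := Cfsg.Lib.Spor.J3.charP_two_of_card_four hF
  have hzo : orderOf z = 2 := orderOf_eq_prime (by rw [pow_two]; exact K.zz) K.ne
  have hCz : Cz z ≤ M := by
    intro c hc
    obtain ⟨y, hy, rfl⟩ := K.exists_ev hc
    refine (closure_le M).2 ?_ (K.ev_gen hy)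
    rintro _ ⟨l, hl, rfl⟩
    have h := hlet l
    rwa [Coord.letters, if_pos (Set.mem_Iio.1 hl)] at h
  have hzM : z ∈ M := hCz (mem_Cz.2 (Commute.refl z))
  have hconjM : ∀ s ∈ M, ∀ t ∈ M, orderOf s = 2 → orderOf t = 2 → ∃ h ∈ M, h * s * h⁻¹ = t := by
    intro s hs t ht os ot
    obtain ⟨c, hc⟩ := isConj_iff.1 (Cfsg.Lib.Spor.J3.all_invols_conj hω hF (em ⟨s, hs⟩) (em ⟨t, ht⟩)
      (by rw [MulEquiv.orderOf_eq, Subgroup.orderOf_mk, os]) (by rw [MulEquiv.orderOf_eq, Subgroup.orderOf_mk, ot]))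
    obtain ⟨d, rfl⟩ := em.surjective c
    rw [← map_inv, ← map_mul, ← map_mul, em.injective.eq_iff] at hc
    exact ⟨d, d.2, congrArg Subtype.val hc⟩
  have hCt : ∀ t ∈ M, orderOf t = 2 → centralizer ({t} : Set G) ≤ M := by
    intro t ht ot c hc
    obtain ⟨h, hh, e⟩ := hconjM t ht z hzM ot hzo
    have hc' : h * c * h⁻¹ ∈ Cz z := by
      refine mem_Cz.2 ?_
      rw [← e]
      exact ((show Commute c t from mem_centralizer_singleton_iff.1 hc).map (MulAut.conj h)).symm.symm
    have := mul_mem (mul_mem (inv_mem hh) (hCz hc')) hh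
    rwa [show h⁻¹ * (h * c * h⁻¹) * h = c by group] at this
  have hse : Cfsg.IsStronglyEmbedded M := Cfsg.Lib.StrongEmb.of_conditions htop (by rw [hcM]; decide) hCt
    fun t ht s hs ot os _ => hconjM t ht s hs ot os
  -- the involutions of the subgroup
  set m := Nat.card {t : G // orderOf t = 2 ∧ t ∈ M} with hm
  have hmval : m = 26163 := by
    set zM : M := ⟨z, hzM⟩
    set C := centralizer ({zM} : Set M) with hC
    have hcard : Nat.card C = 1920 := by
      rw [← K.card_Cz]
      exact Nat.card_congr {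
        toFun := fun c => ⟨c.1.1, mem_Cz.2 (congrArg Subtype.val (mem_centralizer_singleton_iff.1 c.2))⟩
        invFun := fun c => ⟨⟨c.1, hCz c.2⟩, mem_centralizer_singleton_iff.2 (Subtype.ext (mem_Cz.1 c.2).eq)⟩
        left_inv := fun _ => rfl
        right_inv := fun _ => rfl }
    have hconjord : ∀ c : M, orderOf ((c : G) * z * (c : G)⁻¹) = 2 := fun c => by
      rw [show (c : G) * z * (c : G)⁻¹ = MulAut.conj (c : G) z from rfl, MulEquiv.orderOf_eq, hzo]
    let f : M ⧸ C → {t : G // orderOf t = 2 ∧ t ∈ M} := Quotient.lift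
      (fun c : M => (⟨(c : G) * z * (c : G)⁻¹, hconjord c, mul_mem (mul_mem c.2 hzM) (inv_mem c.2)⟩ :
        {t : G // orderOf t = 2 ∧ t ∈ M})) (fun c d h => by
        have h' : c⁻¹ * d ∈ C := QuotientGroup.leftRel_apply.1 h
        have e : ((c : G)⁻¹ * d) * z = z * ((c : G)⁻¹ * d) := congrArg Subtype.val (mem_centralizer_singleton_iff.1 h')
        refine Subtype.ext ?_
        show (c : G) * z * (c : G)⁻¹ = (d : G) * z * (d : G)⁻¹
        calc (c : G) * z * (c : G)⁻¹ = (c : G) * (z * ((c : G)⁻¹ * d)) * (d : G)⁻¹ := by group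
          _ = _ := by rw [← e]; group)
    have hf : Function.Bijective f := by
      refine ⟨fun c d h => ?_, fun t => ?_⟩
      · induction c using QuotientGroup.induction_on with
        | H c =>
        induction d using QuotientGroup.induction_on with
        | H d =>
        have e : (c : G) * z * (c : G)⁻¹ = (d : G) * z * (d : G)⁻¹ := congrArg Subtype.val h
        rw [QuotientGroup.eq, mem_centralizer_singleton_iff]
        refine Subtype.ext ?_
        show (c : G)⁻¹ * d * z = z * ((c : G)⁻¹ * d)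
        calc (c : G)⁻¹ * d * z = (c : G)⁻¹ * ((d : G) * z * (d : G)⁻¹) * d := by group
          _ = _ := by rw [← e]; group
      · obtain ⟨h, hh, e⟩ := hconjM z hzM t.1 t.2.2 hzo t.2.1
        exact ⟨QuotientGroup.mk ⟨h, hh⟩, Subtype.ext e⟩
    have h := Subgroup.card_eq_card_quotient_mul_card_subgroup C
    rw [hcM, hcard, Nat.card_eq_of_bijective f hf, ← hm] at h
    omega
  obtain ⟨g, hg⟩ : ∃ g : G, g ∉ M := by
    by_contra h
    push Not at h
    exact htop ((Subgroup.eq_top_iff' M).2 h)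
  have hxy : (QuotientGroup.mk 1 : G ⧸ M) ≠ QuotientGroup.mk g := fun e => hg (by
    simpa using QuotientGroup.eq.1 e)
  have hswap := Cfsg.Lib.StrongEmb.card_swap hse _ _ hxy
  rw [← hm, hmval] at hswap
  set D := M ⊓ M.map (MulAut.conj g).toMonoidHom with hD
  have hDodd : Odd (Nat.card D) := hse.2.2 g hg
  have hdvd : Nat.card D ∣ 50232960 := hcM ▸ Subgroup.card_dvd_of_le inf_le_left
  have hge : 26163 ≤ Nat.card D := by
    set S := {i : G // orderOf i = 2 ∧ i • (QuotientGroup.mk 1 : G ⧸ M) = QuotientGroup.mk g} with hS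
    haveI : Nonempty S := (Nat.card_pos_iff.1 (by rw [hS, hswap]; norm_num)).1
    obtain ⟨i₀⟩ := ‹Nonempty S›
    have back : ∀ i : S, (i : G) • (QuotientGroup.mk g : G ⧸ M) = QuotientGroup.mk 1 := fun i => by
      have hii : (i : G) * i = 1 := by rw [← pow_two]; exact orderOf_dvd_iff_pow_eq_one.1 i.2.1.dvd
      exact (congrArg (fun c => (i : G) • c) i.2.2.symm).trans (by rw [smul_smul, hii, one_smul])
    have hmemD : ∀ i : S, (i₀ : G) * i ∈ D := fun i => by
      have f1 : ((i₀ : G) * i) • (QuotientGroup.mk 1 : G ⧸ M) = QuotientGroup.mk 1 := by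
        rw [← smul_smul, i.2.2, back]
      have f2 : ((i₀ : G) * i) • (QuotientGroup.mk g : G ⧸ M) = QuotientGroup.mk g := by
        rw [← smul_smul, back, i₀.2.2]
      rw [MulAction.Quotient.smul_mk, smul_eq_mul, QuotientGroup.eq] at f1 f2
      refine mem_inf.2 ⟨?_, Cfsg.Lib.StrongEmb.mem_conj_iff.2 ?_⟩
      · have := inv_mem f1
        simpa [mul_assoc] using this
      · have := inv_mem f2
        simpa [mul_assoc] using this
    rw [← hswap]
    exact Nat.card_le_card_of_injective (fun i : S => (⟨(i₀ : G) * i, hmemD i⟩ : D)) fun i j h =>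
      Subtype.ext (mul_left_cancel (congrArg Subtype.val h))
  obtain ⟨h17, h19, n17, n19⟩ := divisor_case hdvd hDodd hge
  obtain ⟨w, hw⟩ := exists_order_323 hDodd h17 h19 n17 n19
  exact orderOf_ne_323 hω hF (em ⟨(w : G), (mem_inf.1 w.2).1⟩)
    (by rw [MulEquiv.orderOf_eq, Subgroup.orderOf_mk, Subgroup.orderOf_coe, hw])

end Cfsg.Lib.J3Type
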