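import Cfsg.Agent.J3Type.Model
import Cfsg.Agent.J3Type.EData
import Cfsg.Agent.InvolCalc.Classes

/-!
The normalizer of the elementary abelian group of order sixteen induces a group of order 180 on it.
-/

set_option autoImplicit false
set_option linter.unusedSectionVars false
set_option synthInstance.maxSize 1000

namespace Cfsg.Lib.J3Type

open Subgroup Equiv Cfsg.Lib.HallJankoType

/-- coordinates with an even permutation -/
abbrev EvenC (x : MC) : Prop := Perm.sign x.2 = 1

theorem eOf_even : ∀ m, EvenC (eOf m) := by decide +kernel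

theorem eOf_add : ∀ m k, cmulC (eOf m) (eOf k) = eOf (xadd m k) := by decide +kernel

theorem eOf_inj : ∀ m k, eOf m = eOf k → m = k := by decide +kernel

theorem eOf_inv : ∀ m, cinvC (eOf m) = eOf m := by decide +kernel

theorem eOf_cent : ∀ x : MC, EvenC x → cmulC x tC = cmulC tC x → ∃ m, eOf m = x := by decide +kernel

theorem eOf_special : eOf 0 = coneC ∧ eOf 1 = zC ∧ eOf 4 = tC := by decide +kernel

theorem eOf_comm : ∀ m, cmulC (eOf m) tC = cmulC tC (eOf m) := by decide +kernel

theorem decompose : ∀ m : Fin 16, m = xadd (xadd (if m.val.testBit 0 then 1 else 0) (if m.val.testBit 1 then 2 else 0))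
    (xadd (if m.val.testBit 2 then 4 else 0) (if m.val.testBit 3 then 8 else 0)) := by decide +kernel

/-- the index of an element of `E` -/
def eIdx (y : MC) : Option (Fin 16) := (List.finRange 16).find? fun m => decide (eOf m = y)

theorem eIdx_eOf : ∀ m, eIdx (eOf m) = some m := by decide +kernel

/-- the images of three generators of `E` give one of the twelve maps -/
def stabOK (x : MC) : Bool :=
  match eIdx (cconj x (eOf 2)), eIdx (cconj x (eOf 4)), eIdx (cconj x (eOf 8)) with
  | some b, some c, some d => fourMats.contains [1, b, c, d]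
  | _, _, _ => true

theorem stab_ok : ∀ x : MC, EvenC x → stabOK x = true := by decide +kernel

theorem invol_outer : ∀ π : P5, Perm.sign π = 1 → π * π = 1 → π ≠ 1 → ∀ q : QC, cmulC (q, π) (q, π) = coneC →
    ∃ π' : P5, Perm.sign π' = 1 ∧ π' * π * π'⁻¹ = tau1 ∧ ∃ q', cconj (q', π') (q, π) = tC := by
  decide +kernel

theorem invol_inner : ∀ q : QC, cmulC (q, 1) (q, 1) = coneC →
    ∃ π : P5, Perm.sign π = 1 ∧ π * π ≠ 1 ∧ cmulC (qone, π) (q, 1) = cmulC (q, 1) (qone, π) := by
  decide +kernel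

theorem invol_cases (x : MC) (hx : EvenC x) (hxx : cmulC x x = coneC) :
    (∃ c : MC, EvenC c ∧ cconj c x = tC) ∨ ∃ r : MC, EvenC r ∧ cmulC r r ≠ coneC ∧ cmulC r x = cmulC x r := by
  obtain ⟨q, π⟩ := x
  by_cases h : π = 1
  · subst h
    obtain ⟨π', h1, h2, h3⟩ := invol_inner q hxx
    exact Or.inr ⟨(qone, π'), h1, fun e => h2 (congrArg Prod.snd e), h3⟩
  · obtain ⟨π', h1, -, q', h2⟩ := invol_outer π hx (congrArg Prod.snd hxx) h q hxx
    exact Or.inl ⟨(q', π'), h1, h2⟩

theorem card_even : Fintype.card {x : MC // EvenC x} = 1920 := by decide +kernel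

variable {G : Type*} [Group G] {z : G} {a : Fin 5 → G} {ρ : P5 → G}

namespace Coord

variable (K : Coord z a ρ)
include K

theorem ev_zC : K.ev zC = z := by
  rw [ev_eq, show zC.2 = 1 from rfl, K.one, mul_one]
  simp [qev, zC, bp]

/-- the element of `E` with the given index -/
def el (m : Fin 16) : G := K.ev (eOf m)

theorem el_mul (m k : Fin 16) : K.el m * K.el k = K.el (xadd m k) := by
  rw [el, el, K.ev_mul (eOf_even m) (eOf_even k), eOf_add]; rfl

theorem el_zero : K.el 0 = 1 := by rw [el, eOf_special.1, K.ev_one]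

theorem el_one : K.el 1 = z := by rw [el, eOf_special.2.1, K.ev_zC]

theorem el_inj {m k : Fin 16} (h : K.el m = K.el k) : m = k :=
  eOf_inj m k (K.ev_inj (eOf_even m) (eOf_even k) h)

theorem el_inv (m : Fin 16) : (K.el m)⁻¹ = K.el m := by rw [el, K.ev_inv (eOf_even m), eOf_inv]

theorem el_sq (m : Fin 16) : K.el m * K.el m = 1 := by
  conv_lhs => arg 1; rw [← K.el_inv]
  exact inv_mul_cancel _

theorem el_C (m : Fin 16) : K.el m ∈ Cz z := K.ev_mem (eOf_even m)

/-- `h` induces `f` on `E` -/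
def Acts (h : G) (f : Fin 16 → Fin 16) : Prop := ∀ m, h * K.el m * h⁻¹ = K.el (f m)

theorem acts_one : K.Acts 1 id := fun m => by simp

theorem acts_mul {g h : G} {f f' : Fin 16 → Fin 16} (hg : K.Acts g f) (hh : K.Acts h f') :
    K.Acts (g * h) (fun m => f (f' m)) := fun m => by
  rw [show g * h * K.el m * (g * h)⁻¹ = g * (h * K.el m * h⁻¹) * g⁻¹ by group, hh m, hg (f' m)]

theorem acts_unique {h : G} {f f' : Fin 16 → Fin 16} (hf : K.Acts h f) (hf' : K.Acts h f') (m : Fin 16) :
    f m = f' m := K.el_inj ((hf m).symm.trans (hf' m))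

theorem acts_el (k : Fin 16) : K.Acts (K.el k) id := fun m => by
  rw [el_inv, K.el_mul, K.el_mul]
  congr 1
  revert m k
  decide +kernel

theorem acts_trivial {h : G} (hf : K.Acts h id) : ∃ m, h = K.el m := by
  have hc : ∀ m, Commute h (K.el m) := fun m => mul_inv_eq_iff_eq_mul.1 (hf m)
  obtain ⟨x, hx, rfl⟩ := K.exists_ev (mem_Cz.2 (K.el_one ▸ hc 1))
  obtain ⟨m, rfl⟩ := eOf_cent x hx ((K.ev_commute_iff hx (eOf_special.2.2 ▸ eOf_even 4)).1
    (eOf_special.2.2 ▸ hc 4))
  exact ⟨m, rfl⟩

/-- coordinates that permute the codes of `E` act so -/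
theorem acts_code {x : MC} (hx : EvenC x) {f : Fin 16 → Fin 16} (h : ∀ m, cconj x (eOf m) = eOf (f m)) :
    K.Acts (K.ev x) f := fun m => by
  rw [el, K.ev_conj hx (eOf_even m), h]; rfl

/-- a map induced on `E` is linear -/
theorem acts_lin {h : G} {f : Fin 16 → Fin 16} (hf : K.Acts h f) (m : Fin 16) :
    f m = lin (f 1) (f 2) (f 4) (f 8) m := by
  have hadd : ∀ p q, f (xadd p q) = xadd (f p) (f q) := fun p q => K.el_inj (by
    rw [← hf, ← K.el_mul, ← K.el_mul, ← hf, ← hf]; group)
  have h0 : f 0 = 0 := K.el_inj (by rw [← hf, K.el_zero]; group)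
  conv_lhs => rw [decompose m]
  simp only [hadd, lin, apply_ite f, h0]

theorem acts_four {h : G} {f : Fin 16 → Fin 16} (hf : K.Acts h f) (h1 : f 1 = 1) :
    fourMats.contains (baseIm f) = true := by
  have hz : Commute h z := mul_inv_eq_iff_eq_mul.1 (by
    have := hf 1
    rwa [h1, K.el_one] at this)
  obtain ⟨x, hx, rfl⟩ := K.exists_ev (mem_Cz.2 hz)
  have hc : ∀ m, cconj x (eOf m) = eOf (f m) := fun m => K.ev_inj
    (show Perm.sign (x.2 * (eOf m).2 * (x.2)⁻¹) = 1 by rw [map_mul, map_mul, map_inv, hx, eOf_even m]; rfl)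
    (eOf_even _) (by rw [← K.ev_conj hx (eOf_even m)]; exact hf m)
  have := stab_ok x hx
  rw [stabOK, hc 2, hc 4, hc 8, eIdx_eOf, eIdx_eOf, eIdx_eOf] at this
  rw [baseIm, h1]
  exact this

theorem card_Cz : Nat.card (Cz z) = 1920 := by
  rw [← card_even, ← Nat.card_eq_fintype_card]
  refine (Nat.card_eq_of_bijective (fun x : {x : MC // EvenC x} => (⟨K.ev x.1, K.ev_mem x.2⟩ : Cz z)) ⟨?_, ?_⟩).symm
  · exact fun x y e => Subtype.ext (K.ev_inj x.2 y.2 (congrArg Subtype.val e))
  · rintro ⟨c, hc⟩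
    obtain ⟨x, hx, rfl⟩ := K.exists_ev hc
    exact ⟨⟨x, hx⟩, rfl⟩

theorem el_ne_one {m : Fin 16} (h : m ≠ 0) : K.el m ≠ 1 := fun e => h (K.el_inj (e.trans K.el_zero.symm))

variable [Finite G] (hone : ∀ x y : G, orderOf x = 2 → orderOf y = 2 → IsConj x y)
include hone

/-- An element exchanging `z` and the outer involution and acting in a known way. -/
theorem exists_swap_elt : ∃ g : G, K.Acts g nMat := by
  classical
  have oz : orderOf z = 2 := Cfsg.Lib.InvolCalc.order_two_of_mul_self K.zz K.ne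
  have hel : ∀ m, m ≠ 0 → orderOf (K.el m) = 2 := fun m hm =>
    Cfsg.Lib.InvolCalc.order_two_of_mul_self (K.el_sq m) (K.el_ne_one hm)
  set y := K.el 4 with hy
  have hyt : K.ev tC = y := by rw [hy, el, eOf_special.2.2]
  obtain ⟨g₀, hg₀⟩ := isConj_iff.1 (hone z y oz (hel 4 (by decide)))
  set u := g₀⁻¹ * z * g₀ with hu
  have hyz : Commute y z := mem_Cz.1 (K.el_C 4)
  have huC : u ∈ Cz z := mem_Cz.2 (by
    have := ((Commute.conj_iff g₀⁻¹).2 hyz.symm)
    rwa [← hg₀, inv_inv, ← hu, show g₀⁻¹ * (g₀ * z * g₀⁻¹) * g₀ = z by group] at this)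
  have huu : u * u = 1 := by
    rw [hu, show g₀⁻¹ * z * g₀ * (g₀⁻¹ * z * g₀) = g₀⁻¹ * (z * z) * g₀ by group, K.zz]; group
  obtain ⟨x, hx, hxu⟩ := K.exists_ev huC
  have hxx : cmulC x x = coneC := K.ev_inj (show Perm.sign (x.2 * x.2) = 1 by rw [map_mul, hx]; rfl)
    (map_one _) (by rw [← K.ev_mul hx hx, ← hxu, huu, K.ev_one])
  have hx1 : x ≠ coneC := fun e => K.ne (by
    rw [e, K.ev_one] at hxu
    calc z = g₀ * u * g₀⁻¹ := by rw [hu]; group
      _ = 1 := by rw [hxu]; group)
  have hxz : x ≠ zC := fun e => by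
    rw [e, K.ev_zC] at hxu
    have : y = z := by
      rw [← hg₀]
      conv_lhs => rw [← hxu]
      rw [hu]; group
    exact absurd (K.el_inj (this.trans K.el_one.symm)) (by decide)
  -- elements of `C(z) ∩ C(y)` are in `E`
  have hE : ∀ h, Commute h z → Commute h y → ∃ m, h = K.el m := by
    intro h h1 h2
    obtain ⟨e, he, rfl⟩ := K.exists_ev (mem_Cz.2 h1)
    obtain ⟨m, rfl⟩ := eOf_cent e he ((K.ev_commute_iff he (by decide +kernel)).1 (hyt ▸ h2))
    exact ⟨m, rfl⟩
  obtain ⟨c, hc, hct⟩ : ∃ c, EvenC c ∧ cconj c x = tC := by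
    refine (invol_cases x hx hxx).resolve_right ?_
    rintro ⟨r, hr, hr2, hrx⟩
    refine hr2 ?_
    have hru : Commute (K.ev r) u := hxu ▸ (K.ev_commute_iff hr hx).2 hrx
    have h1 : Commute (g₀ * K.ev r * g₀⁻¹) z := by
      have := (Commute.conj_iff g₀).2 hru
      rwa [hu, show g₀ * (g₀⁻¹ * z * g₀) * g₀⁻¹ = z by group] at this
    have h2 : Commute (g₀ * K.ev r * g₀⁻¹) y := hg₀ ▸ (Commute.conj_iff g₀).2 (mem_Cz.1 (K.ev_mem hr))
    obtain ⟨m, hm⟩ := hE _ h1 h2
    refine K.ev_inj (show Perm.sign (r.2 * r.2) = 1 by rw [map_mul, hr]; rfl) (map_one _) ?_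
    rw [← K.ev_mul hr hr, K.ev_one]
    have := K.el_sq m
    rw [← hm, show g₀ * K.ev r * g₀⁻¹ * (g₀ * K.ev r * g₀⁻¹) = g₀ * (K.ev r * K.ev r) * g₀⁻¹ by group] at this
    exact conj_eq_one_iff.1 this
  set g := g₀ * (K.ev c)⁻¹ with hg
  have hcz : K.ev c * z * (K.ev c)⁻¹ = z := by rw [(mem_Cz.1 (K.ev_mem hc)).eq, mul_inv_cancel_right]
  have hcu : K.ev c * u * (K.ev c)⁻¹ = y := by rw [hxu, K.ev_conj hc hx, hct, hyt]
  have hgz : g * z * g⁻¹ = y := by
    calc g * z * g⁻¹ = g * (K.ev c * z * (K.ev c)⁻¹) * g⁻¹ := by rw [hcz]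
      _ = g₀ * z * g₀⁻¹ := by rw [hg]; group
      _ = y := hg₀
  have hgy : g * y * g⁻¹ = z := by rw [hg, ← hcu, hu]; group
  -- `g` normalises `E`
  have hnorm : ∀ m, ∃ m', g * K.el m * g⁻¹ = K.el m' := by
    intro m
    refine hE _ ?_ ?_
    · have h : Commute (g * K.el m * g⁻¹) (g * y * g⁻¹) :=
        (Commute.conj_iff g).2 ((K.ev_commute_iff (eOf_even m) (eOf_even 4)).2 (eOf_special.2.2 ▸ eOf_comm m))
      rwa [hgy] at h
    · have h : Commute (g * K.el m * g⁻¹) (g * z * g⁻¹) := (Commute.conj_iff g).2 (mem_Cz.1 (K.el_C m))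
      rwa [hgz] at h
  choose μ hμ using hnorm
  have hμ1 : μ 1 = 4 := K.el_inj (by rw [← hμ, K.el_one, hgz])
  have hμ4 : μ 4 = 1 := K.el_inj (by rw [← hμ, K.el_one]; exact hgy)
  have hlin := K.acts_lin hμ
  rcases bad_ok (Fin.ofNat 256 ((μ 2).val * 16 + (μ 8).val)) with h | h
  · have e2 : μ 2 = 12 ∧ μ 8 = 3 := by
      revert h
      generalize μ 2 = p
      generalize μ 8 = q
      revert p q
      decide +kernel
    refine ⟨g, fun m => ?_⟩
    rw [hμ m, hlin m, hμ1, hμ4, e2.1, e2.2]
    rfl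
  · exfalso
    set k := (Fin.ofNat 256 ((μ 2).val * 16 + (μ 8).val)).val with hk
    have hkμ : lin 4 (Fin.ofNat 16 (k / 16)) 1 (Fin.ofNat 16 k) = μ := by
      funext m
      rw [hlin m, hμ1, hμ4, hk]
      congr 1 <;> (generalize μ 2 = p; generalize μ 8 = q; revert p q; decide +kernel)
      done
    simp only [badOK, hkμ] at h
    -- the word
    let f : ℕ → G := fun i => if i = 0 then g else if i = 1 then K.ev s1C else K.ev rC
    set w := badWords.getD k []
    have hs1 : K.Acts (K.ev s1C) s1Mat := K.acts_code (by decide +kernel) (by decide +kernel)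
    have hr : K.Acts (K.ev rC) rMat := K.acts_code (by decide +kernel) (by decide +kernel)
    have hgμ : K.Acts g μ := hμ
    have hW : ∀ w : List ℕ, K.Acts (Cfsg.Lib.CosetCert.wval f w) (actW μ s1Mat rMat w) := by
      intro w
      induction w with
      | nil => exact K.acts_one
      | cons i w ih =>
        rw [show Cfsg.Lib.CosetCert.wval f (i :: w) = f i * Cfsg.Lib.CosetCert.wval f w by
          simp [Cfsg.Lib.CosetCert.wval]]
        show K.Acts _ fun m => (if i = 0 then μ else if i = 1 then s1Mat else rMat) (actW μ s1Mat rMat w m)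
        refine K.acts_mul ?_ ih
        by_cases h0 : i = 0
        · simpa [f, h0] using hgμ
        · by_cases h1 : i = 1
          · simpa [f, h0, h1] using hs1
          · simpa [f, h0, h1] using hr
    set W := Cfsg.Lib.CosetCert.wval f w
    have hWW := hW w
    simp only [Bool.or_eq_true, Bool.and_eq_true, decide_eq_true_eq, List.any_eq_true, Bool.not_eq_true'] at h
    rcases h with (⟨m, -, hm, hm0⟩ | ⟨h1, h2⟩) | ⟨⟨⟨m, -, hm, hmfix⟩, h7⟩, hne⟩
    · refine K.el_ne_one hm ?_
      have := hμ m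
      rw [hm0, K.el_zero] at this
      exact conj_eq_one_iff.1 this
    · rw [K.acts_four hWW h1] at h2
      exact Bool.false_ne_true h2.symm
    · simp only [List.all_cons, List.all_nil, Bool.and_true, Bool.and_self, beq_iff_eq] at h7
      rw [beq_eq_false_iff_ne] at hne
      obtain ⟨d, hd⟩ := isConj_iff.1 (hone (K.el m) z (hel m hm) oz)
      have hWm : Commute W (K.el m) := mul_inv_eq_iff_eq_mul.1 (by rw [hWW m, hmfix])
      have hWC : d * W * d⁻¹ ∈ Cz z := mem_Cz.2 (hd ▸ (Commute.conj_iff d).2 hWm)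
      have hord : orderOf W ∣ 1920 := by
        rw [← K.card_Cz, show orderOf W = orderOf (⟨_, hWC⟩ : Cz z) by
          rw [Subgroup.orderOf_mk, show d * W * d⁻¹ = MulAut.conj d W from rfl, MulEquiv.orderOf_eq]]
        exact orderOf_dvd_natCard _
      -- the action has order seven
      set F := actW μ s1Mat rMat w with hF
      have hiter : ∀ n, K.Acts (W ^ n) (iter F n) := by
        intro n
        induction n with
        | zero => rw [pow_zero]; exact K.acts_one
        | succ n ih =>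
          rw [pow_succ']
          show K.Acts _ fun m => F (iter F n m)
          exact K.acts_mul hWW ih
      have hlin7 : ∀ m, iter F 7 m = m := fun m => by
        rw [K.acts_lin (hiter 7) m]
        have e : baseIm (iter F 7) = [1, 2, 4, 8] := h7
        simp only [baseIm, List.cons.injEq, and_true] at e
        obtain ⟨e1, e2, e3, e4⟩ := e
        rw [e1, e2, e3, e4]
        revert m
        decide +kernel
      -- so it is trivial
      have h1 : W ^ 1920 = 1 := orderOf_dvd_iff_pow_eq_one.1 hord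
      refine hne ?_
      have h7' : ∀ j m, iter F (7 * j + 2) m = iter F 2 m := by
        intro j m
        induction j with
        | zero => rfl
        | succ j ih =>
          have hadd : ∀ p q m, iter F (p + q) m = iter F p (iter F q m) := by
            intro p q m
            induction p with
            | zero => simp [iter]
            | succ p ihp => rw [Nat.succ_add]; simp only [iter]; rw [ihp]
          rw [show 7 * (j + 1) + 2 = 7 + (7 * j + 2) by ring, hadd, hlin7, ih]
      have h2 : ∀ m, iter F 2 m = m := fun m => by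
        rw [← h7' 274, show 7 * 274 + 2 = 1920 from rfl]
        exact K.acts_unique (hiter 1920) (h1 ▸ K.acts_one) m
      have hF1 : ∀ m, F m = m := fun m => by
        have e := hlin7 m
        simp only [iter] at e h2
        rw [h2, h2, h2] at e
        exact e
      simp [baseIm, hF1]

end Coord

end Cfsg.Lib.J3Type
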