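import Cfsg.Agent.J3Type.Gluing

/-!
Twelve letters in a group of third Janko type and a recogniser of relations between them.
-/

set_option autoImplicit false
set_option linter.unusedSectionVars false
set_option synthInstance.maxSize 1000

namespace Cfsg.Lib.J3Type

open Subgroup Equiv Cfsg.Lib.HallJankoType
open Cfsg.Lib.CosetCert (wval wval_reverse)

/-- the coordinates of an element of order three without fixed points among the five points -/
def cC : MC := ((false, false, false, true, false), swap 0 3 * swap 1 4)

/-- coordinates for three further letters, read after conjugation -/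
structure Var where
  /-- the letter `v` -/
  v : MC
  /-- the first factor of `x` -/
  j : MC
  /-- the second factor of `x` -/
  k : MC

/-- the three letters of the good gluing -/
def goodVar : Var :=
  ⟨((false, false, true, false, false), 1), ((false, true, false, true, true), swap 0 3 * swap 1 4),
    ((true, true, false, false, false), swap 1 4 * swap 2 3)⟩

/-- the three letters of the bad gluing -/
def badVar : Var :=
  ⟨((false, true, false, false, false), 1), ((true, false, true, true, true), swap 0 4 * swap 1 2),
    ((true, false, true, false, false), swap 0 4 * swap 2 3)⟩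

/-- the coordinates of the letters in the centraliser of `z` -/
def codeC : ℕ → MC
  | 0 => eOf 1
  | 1 => eOf 4
  | 2 => eOf 9
  | 3 => s1C
  | 4 => s2C
  | _ => cC

/-- the coordinates of the conjugates of the letters centralising the first involution of the complement -/
def codeG (c : Var) : ℕ → MC
  | 0 => eOf 13
  | 3 => zC
  | 4 => eOf 2
  | 7 => c.v
  | 8 => c.j
  | 9 => c.k
  | 10 => cmulC c.j (cmulC c.v (eOf 2))
  | 11 => cmulC (cmulC c.j (cmulC c.v (eOf 2))) (cmulC c.j c.k)
  | _ => coneC

/-- the letters read after conjugation -/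
def lettersG : List ℕ := [0, 3, 4, 7, 8, 9, 10, 11]

/-- the word of the conjugating element -/
def gWord : List ℕ := [6, 4, 6, 5, 2, 4, 5]

/-- remove adjacent equal letters -/
def cancel : List ℕ → List ℕ
  | [] => []
  | l :: w => match cancel w with
    | [] => [l]
    | m :: w' => if l = m then w' else l :: m :: w'

/-- letters of the normalizer of `E` -/
inductive Tok
  | e (m : Fin 16)
  | n
  | a
  | b
  | r
  | x

/-- translation into letters of the normalizer of `E` -/
def toks : List ℕ → Option (List Tok)
  | [] => some []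
  | 8 :: 9 :: w => (toks w).map fun t => .x :: t
  | 9 :: 8 :: w => (toks w).map fun t => .x :: .x :: t
  | 10 :: 11 :: w => (toks w).map fun t => .x :: t
  | 11 :: 10 :: w => (toks w).map fun t => .x :: .x :: t
  | 5 :: 4 :: 5 :: 1 :: 5 :: w => (toks w).map fun t => .e 4 :: .a :: .r :: .r :: t
  | 5 :: 1 :: 5 :: 4 :: 5 :: w => (toks w).map fun t => .e 11 :: .r :: .a :: t
  | 0 :: w => (toks w).map fun t => .e 1 :: t
  | 1 :: w => (toks w).map fun t => .e 4 :: t
  | 2 :: w => (toks w).map fun t => .e 9 :: t
  | 3 :: w => (toks w).map fun t => .a :: t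
  | 4 :: w => (toks w).map fun t => .b :: t
  | 6 :: w => (toks w).map fun t => .n :: t
  | _ => none

/-- the map induced by a letter -/
def tokMat : Tok → Fin 16 → Fin 16
  | .e _ => id
  | .n => nMat
  | .a => s1Mat
  | .b => s2Mat
  | .r => rMat
  | .x => xMat

/-- the translation part of a letter -/
def tokEl : Tok → Fin 16
  | .e m => m
  | _ => 0

/-- the normal form of a word -/
def nf : List Tok → Fin 16 × (Fin 16 → Fin 16)
  | [] => (0, id)
  | t :: T => (xadd (tokEl t) (tokMat t (nf T).1), fun m => tokMat t ((nf T).2 m))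

/-- two words with the same normal form -/
def sameNF (T T' : List Tok) : Bool :=
  decide ((nf T).1 = (nf T').1) && (List.finRange 16).all fun m => decide ((nf T).2 m = (nf T').2 m)

/-- relations in the normalizer of `E` -/
def okN (r : List ℕ) : Bool := match toks r with
  | none => false
  | some T => sameNF T []

/-- relations defining the letters -/
def okDef (c : Var) (r : List ℕ) : Bool := match cancel r with
  | [] => false
  | l :: w => lettersG.contains l && (w.take 7 == gWord.reverse) && (w.drop (w.length - 7) == gWord) &&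
      decide (14 ≤ w.length) && ((w.drop 7).take (w.length - 14)).all (fun i => decide (i < 6)) &&
      decide (cmulC (codeG c l) (cprod (((w.drop 7).take (w.length - 14)).map codeC)) = coneC)

/-- the relation fixing the conjugate of `x` -/
def okGlue (c : Var) (r : List ℕ) : Bool :=
  (r.take 16 == gWord ++ [8, 9] ++ gWord.reverse) && (r.drop 16).all (fun i => decide (i < 6)) &&
    decide (cmulC (cmulC c.j c.k) (cprod ((r.drop 16).map codeC)) = coneC)

/-- recognised relations -/
def okRel (c : Var) (r : List ℕ) : Bool :=
  (r.all (fun i => decide (i < 6)) && decide (cprod (r.map codeC) = coneC)) ||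
    (r.all (fun i => lettersG.contains i) && decide (cprod (r.map (codeG c)) = coneC)) ||
    okN r || okDef c r || okGlue c r

/-- conditions on the three letters -/
def varOK (c : Var) (e : Fin 16) : Bool :=
  lettersG.all (fun l => decide (EvenC (codeG c l)) && decide (cmulC (codeG c l) (codeG c l) = coneC)) &&
    (List.finRange 16).any fun m => decide (cmulC c.j c.k = cmulC (eOf m) (cmulC s2C rC)) &&
      sameNF [.n, .b, .n, .a, .n, .r, .n, .a, .e e, .n, .b, .n] [.e m, .b, .r]

theorem codeC_ok : ∀ l, l < 6 → EvenC (codeC l) ∧ cmulC (codeC l) (codeC l) = coneC := by decide +kernel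

theorem W_code : cprod ([5, 2, 4, 5].map codeC) = wC := by decide +kernel

theorem c_dec : cprod ([5, 4, 5, 1, 5].map codeC) = cmulC (eOf 4) (cmulC s1C (cmulC rC rC)) ∧
    cprod ([5, 1, 5, 4, 5].map codeC) = cmulC (eOf 11) (cmulC rC s1C) := by decide +kernel

theorem w_conj : cconj wC zC = eOf 1 ∧ cconj wC s1C = eOf 13 ∧ cconj wC s2C = eOf 10 ∧
    sameNF [.n, .b, .n, .e 1, .n, .b, .n] [.e 13] = true ∧ sameNF [.n, .b, .n, .e 13, .n, .b, .n] [.e 1] = true ∧
    sameNF [.n, .b, .n, .e 10, .n, .b, .n] [.e 2] = true := by decide +kernel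

variable {G : Type*} [Group G] {z : G} {a : Fin 5 → G} {ρ : P5 → G}

namespace Coord

variable (K : Coord z a ρ)

/-- the conjugating element -/
def gEl (n : G) : G := n * K.ev s2C * n * K.ev wC

/-- the twelve letters -/
def letters (n : G) (c : Var) : ℕ → G := fun l =>
  if l < 6 then K.ev (codeC l) else if l = 6 then n else
    if l ∈ lettersG then (K.gEl n)⁻¹ * K.ev (codeG c l) * K.gEl n else 1

end Coord

namespace NX

variable {K : Coord z a ρ} {n x : G} {e : Fin 16} (X : NX K n x e)
include X

/-- the value of a letter -/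
def tok : Tok → G
  | .e m => let _ := X; K.el m
  | .n => n
  | .a => K.ev s1C
  | .b => K.ev s2C
  | .r => K.ev rC
  | .x => x

/-- the value of a word -/
def tval : List Tok → G
  | [] => 1
  | t :: T => X.tok t * tval T

theorem tok_split (t : Tok) : ∃ h, Commute x h ∧ K.Acts h (tokMat t) ∧ X.tok t = K.el (tokEl t) * h := by
  cases t
  · exact ⟨1, Commute.one_right _, K.acts_one, (mul_one _).symm⟩
  all_goals refine ⟨_, ?_, ?_, (show _ = K.el 0 * _ by rw [K.el_zero, one_mul])⟩
  all_goals first
    | exact X.xn | exact X.xs1 | exact X.xs2 | exact X.xr | exact Commute.refl x | exact X.actn | exact X.actx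
    | exact K.acts_code (by decide +kernel) (by decide +kernel)

theorem tval_split : ∀ T, ∃ h, Commute x h ∧ K.Acts h (nf T).2 ∧ X.tval T = K.el (nf T).1 * h
  | [] => ⟨1, Commute.one_right _, K.acts_one, by rw [tval, nf, K.el_zero, one_mul]⟩
  | t :: T => by
    obtain ⟨h', hc', ha', hv'⟩ := tval_split T
    obtain ⟨h, hc, ha, hv⟩ := X.tok_split t
    refine ⟨h * h', hc.mul_right hc', K.acts_congr (K.acts_mul ha ha') fun _ => rfl, ?_⟩
    rw [tval, hv, hv', nf, show K.el (tokEl t) * h * (K.el (nf T).1 * h') = K.el (tokEl t) * (h * K.el (nf T).1) * h' by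
      group, K.move ha, ← mul_assoc (K.el (tokEl t)), K.el_mul, mul_assoc]

theorem tval_eq {T T' : List Tok} (h : sameNF T T' = true) : X.tval T = X.tval T' := by
  simp only [sameNF, Bool.and_eq_true, decide_eq_true_eq, List.all_eq_true] at h
  obtain ⟨p, hc, hp, hv⟩ := X.tval_split T
  obtain ⟨q, hc', hq, hv'⟩ := X.tval_split T'
  rw [hv, hv', h.1, K.uniq X.actx hc hc' hp (K.acts_congr hq fun m => (h.2 m (List.mem_finRange m)).symm)]

theorem tval_append : ∀ T T', X.tval (T ++ T') = X.tval T * X.tval T'
  | [], T' => (one_mul _).symm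
  | t :: T, T' => by rw [List.cons_append, tval, tval, tval_append T T', mul_assoc]

theorem bb : K.ev s2C * K.ev s2C = 1 := by
  let _ := X
  rw [K.ev_mul (by decide +kernel) (by decide +kernel), show cmulC s2C s2C = coneC by decide +kernel, K.ev_one]

theorem wa_conj {t : G} {m m' : Fin 16} (h : K.ev wC * t * (K.ev wC)⁻¹ = K.el m)
    (h' : sameNF [.n, .b, .n, .e m, .n, .b, .n] [.e m'] = true) : K.gEl n * t * (K.gEl n)⁻¹ = K.el m' := by
  have h1 := X.tval_eq h'
  simp only [tval, tok, mul_one] at h1
  rw [← h1, ← h, Coord.gEl, mul_inv_rev, mul_inv_rev, mul_inv_rev, inv_eq_of_mul_eq_one_right X.nn,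
    inv_eq_of_mul_eq_one_right X.bb]
  group

/-- a letter read after conjugation -/
theorem conj_letter (c : Var) {l : ℕ} (hl : l ∈ lettersG) :
    K.gEl n * K.letters n c l * (K.gEl n)⁻¹ = K.ev (codeG c l) := by
  have w := w_conj
  by_cases h6 : l < 6
  · rw [Coord.letters, if_pos h6]
    have hcases : l = 0 ∨ l = 3 ∨ l = 4 := by
      simp only [lettersG, List.mem_cons, List.mem_nil_iff, or_false] at hl
      omega
    rcases hcases with rfl | rfl | rfl
    · exact X.wa_conj (m := 1) (by
        rw [show codeC 0 = eOf 1 from rfl, K.ev_conj (by decide +kernel) (eOf_even 1),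
          show cconj wC (eOf 1) = eOf 1 by decide +kernel]; rfl) w.2.2.2.1
    · exact (X.wa_conj (m := 13) (by
        rw [show codeC 3 = s1C from rfl, K.ev_conj (by decide +kernel) (by decide +kernel), w.2.1]; rfl) w.2.2.2.2.1).trans
        (K.el_one.trans K.ev_zC.symm)
    · exact X.wa_conj (m := 10) (by
        rw [show codeC 4 = s2C from rfl, K.ev_conj (by decide +kernel) (by decide +kernel), w.2.2.1]; rfl) w.2.2.2.2.2
  · rw [Coord.letters, if_neg h6, if_neg (by rintro rfl; exact absurd hl (by decide)), if_pos hl]
    group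

variable {c : Var} (hc : varOK c e = true)
include hc

omit X in
theorem var_even {l : ℕ} (hl : l ∈ lettersG) : EvenC (codeG c l) ∧ cmulC (codeG c l) (codeG c l) = coneC := by
  simp only [varOK, Bool.and_eq_true, List.all_eq_true, decide_eq_true_eq] at hc
  exact hc.1 l hl

theorem jk_x : K.letters n c 8 * K.letters n c 9 = x := by
  have hc' := hc
  simp only [varOK, Bool.and_eq_true, List.any_eq_true, decide_eq_true_eq] at hc'
  obtain ⟨m, -, hm, hnf⟩ := hc'.2
  have h8 := var_even (c := c) (e := e) hc (l := 8) (by decide)
  have h9 := var_even (c := c) (e := e) hc (l := 9) (by decide)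
  have e8 := X.conj_letter c (l := 8) (by decide)
  have e9 := X.conj_letter c (l := 9) (by decide)
  have hx : K.gEl n * x * (K.gEl n)⁻¹ = K.el m * (K.ev s2C * K.ev rC) := by
    have h1 := X.tval_eq hnf
    simp only [tval, tok, mul_one, K.el_zero] at h1
    rw [← h1, Coord.gEl, mul_inv_rev, mul_inv_rev, mul_inv_rev, inv_eq_of_mul_eq_one_right X.nn,
      inv_eq_of_mul_eq_one_right X.bb]
    have hg := X.glue
    simp only [pWord, wval, three, List.map_cons, List.map_nil, List.prod_cons, List.prod_nil] at hg
    calc n * K.ev s2C * n * K.ev wC * x * ((K.ev wC)⁻¹ * (n * (K.ev s2C * n))) =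
          n * K.ev s2C * n * (K.ev wC * x * (K.ev wC)⁻¹) * (n * (K.ev s2C * n)) := by group
      _ = _ := by rw [hg]; simp [mul_assoc]
  have hx' : K.gEl n * (K.letters n c 8 * K.letters n c 9) * (K.gEl n)⁻¹ = K.gEl n * x * (K.gEl n)⁻¹ := by
    rw [hx, show K.gEl n * (K.letters n c 8 * K.letters n c 9) * (K.gEl n)⁻¹ =
      (K.gEl n * K.letters n c 8 * (K.gEl n)⁻¹) * (K.gEl n * K.letters n c 9 * (K.gEl n)⁻¹) by group, e8, e9,
      K.ev_mul h8.1 h9.1, show cmulC (codeG c 8) (codeG c 9) = cmulC c.j c.k from rfl, hm,
      ← K.ev_mul (eOf_even m) (by decide +kernel), ← K.ev_mul (by decide +kernel) (by decide +kernel)]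
    rfl
  exact mul_left_cancel (mul_right_cancel hx')

theorem letters_sq (l : ℕ) : K.letters n c l * K.letters n c l = 1 := by
  unfold Coord.letters
  split_ifs with h1 h2 h3
  · obtain ⟨p, q⟩ := codeC_ok l h1
    rw [K.ev_mul p p, q, K.ev_one]
  · exact X.nn
  · obtain ⟨p, q⟩ := var_even (c := c) (e := e) hc h3
    rw [show ∀ g t : G, g⁻¹ * t * g * (g⁻¹ * t * g) = g⁻¹ * (t * t) * g from fun g t => by group,
      K.ev_mul p p, q, K.ev_one]
    group
  · exact one_mul 1

theorem wval_C {w : List ℕ} (hw : ∀ i ∈ w, i < 6) :
    EvenC (cprod (w.map codeC)) ∧ wval (K.letters n c) w = K.ev (cprod (w.map codeC)) := by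
  refine K.wval_ev (S := List.range 6) (fun l hl => ⟨(codeC_ok l (List.mem_range.1 hl)).1, ?_⟩) w
    fun l hl => List.mem_range.2 (hw l hl)
  rw [Coord.letters, if_pos (List.mem_range.1 hl)]

theorem gWord_val : wval (K.letters n c) gWord = K.gEl n ∧ wval (K.letters n c) gWord.reverse = (K.gEl n)⁻¹ := by
  have h1 : wval (K.letters n c) gWord = K.gEl n := by
    have hW := (X.wval_C hc (w := [5, 2, 4, 5]) (by decide)).2
    rw [W_code] at hW
    rw [show gWord = [6, 4, 6] ++ [5, 2, 4, 5] from rfl, wval, List.map_append, List.prod_append,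
      show (([5, 2, 4, 5] : List ℕ).map (K.letters n c)).prod = wval (K.letters n c) [5, 2, 4, 5] from rfl, hW]
    simp [Coord.letters, Coord.gEl, codeC, mul_assoc]
  exact ⟨h1, (wval_reverse (K.letters n c) fun l _ => X.letters_sq hc l).trans (by rw [h1])⟩

theorem cancel_val : ∀ w, wval (K.letters n c) (cancel w) = wval (K.letters n c) w
  | [] => rfl
  | l :: w => by
    have ih := cancel_val w
    rw [cancel]
    simp only [wval, List.map_cons, List.prod_cons] at ih ⊢
    rw [← ih]
    rcases cancel w with _ | ⟨m, w'⟩
    · simp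
    · dsimp only
      split_ifs with h
      · subst h
        rw [List.map_cons, List.prod_cons, ← mul_assoc, X.letters_sq hc, one_mul]
      · simp

theorem toks_val : ∀ {w : List ℕ} {T : List Tok}, toks w = some T → wval (K.letters n c) w = X.tval T := by
  have hx : K.letters n c 8 * K.letters n c 9 = x := X.jk_x hc
  have hxx : K.letters n c 9 * K.letters n c 8 = x * x := by
    refine (mul_right_inj x).1 ?_
    rw [show x * (x * x) = x * x * x by group, X.x3]
    conv_lhs => arg 1; rw [← hx]
    rw [mul_assoc, ← mul_assoc (K.letters n c 9), X.letters_sq hc, one_mul, X.letters_sq hc]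
  have hd := c_dec
  have ht : K.letters n c 10 * K.letters n c 11 = x := by
    obtain ⟨p, q⟩ := var_even (c := c) (e := e) hc (l := 10) (by decide)
    obtain ⟨p', -⟩ := var_even (c := c) (e := e) hc (l := 11) (by decide)
    have h8 := var_even (c := c) (e := e) hc (l := 8) (by decide)
    have h9 := var_even (c := c) (e := e) hc (l := 9) (by decide)
    rw [← hx]
    have e1 : K.letters n c 11 = K.letters n c 10 * (K.letters n c 8 * K.letters n c 9) := by
      refine (MulAut.conj (K.gEl n)).injective ?_
      rw [map_mul, map_mul]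
      simp only [MulAut.conj_apply]
      rw [X.conj_letter c (by decide), X.conj_letter c (by decide), X.conj_letter c (by decide),
        X.conj_letter c (by decide), K.ev_mul h8.1 h9.1,
        K.ev_mul p (show Perm.sign ((codeG c 8).2 * (codeG c 9).2) = 1 by rw [map_mul, h8.1, h9.1, one_mul])]
      rfl
    rw [e1, ← mul_assoc, X.letters_sq hc, one_mul]
  have htt : K.letters n c 11 * K.letters n c 10 = x * x := by
    refine (mul_right_inj x).1 ?_
    rw [show x * (x * x) = x * x * x by group, X.x3]
    conv_lhs => arg 1; rw [← ht]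
    rw [mul_assoc, ← mul_assoc (K.letters n c 11), X.letters_sq hc, one_mul, X.letters_sq hc]
  intro w
  induction w using toks.induct <;> intro T hT <;>
    simp only [toks, Option.map_eq_some_iff, Option.some.injEq, reduceCtorEq] at hT
  case case1 => subst hT; rfl
  all_goals obtain ⟨T, hT', rfl⟩ := hT
  all_goals
    rename_i w ih
    have e := ih hT'
    simp only [wval] at e
    simp only [wval, List.map_cons, List.prod_cons, tval, tok, e]
  · rw [← mul_assoc, hx]
  · rw [← mul_assoc, hxx, mul_assoc]
  · rw [← mul_assoc, ht]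
  · rw [← mul_assoc, htt, mul_assoc]
  · have h := (X.wval_C hc (w := [5, 4, 5, 1, 5]) (by decide)).2
    rw [hd.1, ← K.ev_mul (eOf_even 4) (by decide +kernel), ← K.ev_mul (by decide +kernel) (by decide +kernel),
      ← K.ev_mul (by decide +kernel) (by decide +kernel)] at h
    simp only [wval, List.map_cons, List.map_nil, List.prod_cons, List.prod_nil, mul_one] at h
    simp only [← mul_assoc] at h ⊢
    rw [h]; rfl
  · have h := (X.wval_C hc (w := [5, 1, 5, 4, 5]) (by decide)).2
    rw [hd.2, ← K.ev_mul (eOf_even 11) (by decide +kernel), ← K.ev_mul (by decide +kernel) (by decide +kernel)] at h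
    simp only [wval, List.map_cons, List.map_nil, List.prod_cons, List.prod_nil, mul_one] at h
    simp only [← mul_assoc] at h ⊢
    rw [h]; rfl
  all_goals rfl

theorem wval_G {w : List ℕ} (hw : ∀ i ∈ w, i ∈ lettersG) :
    K.gEl n * wval (K.letters n c) w * (K.gEl n)⁻¹ = K.ev (cprod (w.map (codeG c))) := by
  have h := (K.wval_ev (f := fun l => MulAut.conj (K.gEl n) (K.letters n c l)) (cv := codeG c) (S := lettersG)
    (fun l hl => ⟨(var_even (c := c) (e := e) hc hl).1, X.conj_letter c hl⟩) w hw).2
  rw [← h]
  show MulAut.conj (K.gEl n) (wval (K.letters n c) w) = _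
  rw [wval, map_list_prod, List.map_map]
  rfl

/-- recognised relations hold -/
theorem okRel_sound {r : List ℕ} (hr : okRel c r = true) : wval (K.letters n c) r = 1 := by
  simp only [okRel, Bool.or_eq_true] at hr
  rcases hr with (((h | h) | h) | h) | h
  · simp only [Bool.and_eq_true, List.all_eq_true, decide_eq_true_eq] at h
    rw [(X.wval_C hc h.1).2, h.2, K.ev_one]
  · simp only [Bool.and_eq_true, List.all_eq_true, decide_eq_true_eq, List.contains_iff_mem] at h
    have e1 := X.wval_G hc h.1
    rwa [h.2, K.ev_one, mul_inv_eq_one, mul_eq_left] at e1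
  · unfold okN at h
    split at h
    · simp at h
    · rename_i T hT
      rw [X.toks_val hc hT, X.tval_eq h]
      rfl
  · rw [← X.cancel_val hc]
    unfold okDef at h
    split at h
    · simp at h
    · rename_i l w hw
      simp only [Bool.and_eq_true, List.contains_iff_mem, beq_iff_eq, decide_eq_true_eq, List.all_eq_true] at h
      obtain ⟨⟨⟨⟨⟨hl, h7⟩, hlast⟩, hlen⟩, hmid⟩, hcode⟩ := h
      have hw' : w = gWord.reverse ++ (w.drop 7).take (w.length - 14) ++ gWord := by
        conv_lhs => rw [← List.take_append_drop 7 w, ← List.take_append_drop (w.length - 14) (w.drop 7), List.drop_drop,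
          show 7 + (w.length - 14) = w.length - 7 by omega, h7, hlast, ← List.append_assoc]
      obtain ⟨hev, hmval⟩ := X.wval_C hc hmid
      rw [hw] at *
      show wval (K.letters n c) (l :: w) = 1
      rw [hw', wval, List.map_cons, List.prod_cons, List.map_append, List.map_append, List.prod_append,
        List.prod_append]
      show K.letters n c l * (wval (K.letters n c) gWord.reverse * wval (K.letters n c) _ *
        wval (K.letters n c) gWord) = 1
      rw [(X.gWord_val hc).1, (X.gWord_val hc).2, hmval, show ∀ t g u : G, t * (g⁻¹ * u * g) = g⁻¹ * (g * t * g⁻¹ * u) * g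
        from fun t g u => by group, X.conj_letter c hl, K.ev_mul (var_even (c := c) (e := e) hc hl).1 hev, hcode, K.ev_one]
      group
  · simp only [okGlue, Bool.and_eq_true, beq_iff_eq, List.all_eq_true, decide_eq_true_eq] at h
    obtain ⟨⟨hhead, htail⟩, hcode⟩ := h
    obtain ⟨hev, htval⟩ := X.wval_C hc htail
    rw [← List.take_append_drop 16 r, hhead, wval, List.map_append, List.map_append, List.map_append, List.prod_append,
      List.prod_append, List.prod_append]
    show wval (K.letters n c) gWord * wval (K.letters n c) [8, 9] * wval (K.letters n c) gWord.reverse *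
      wval (K.letters n c) _ = 1
    rw [(X.gWord_val hc).1, (X.gWord_val hc).2, htval,
      show wval (K.letters n c) [8, 9] = K.letters n c 8 * K.letters n c 9 by simp [wval],
      show ∀ g t u : G, g * (t * u) * g⁻¹ = (g * t * g⁻¹) * (g * u * g⁻¹) from fun g t u => by group,
      X.conj_letter c (by decide), X.conj_letter c (by decide),
      K.ev_mul (var_even (c := c) (e := e) hc (l := 8) (by decide)).1 (var_even (c := c) (e := e) hc (l := 9) (by decide)).1]
    have hjk : EvenC (cmulC (codeG c 8) (codeG c 9)) := by
      show Perm.sign ((codeG c 8).2 * (codeG c 9).2) = 1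
      rw [map_mul, (var_even (c := c) (e := e) hc (l := 8) (by decide)).1,
        (var_even (c := c) (e := e) hc (l := 9) (by decide)).1, one_mul]
    rw [K.ev_mul hjk hev]
    exact (congrArg K.ev hcode).trans K.ev_one

end NX

theorem goodVar_ok : varOK goodVar 2 = true := by decide +kernel

theorem badVar_ok : varOK badVar 0 = true := by decide +kernel

end Cfsg.Lib.J3Type
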