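import Cfsg.Agent.J3Type.Coords
import Cfsg.Agent.J3Type.Letters

/-!
Six letters generate the centralizer of `z`.
-/

set_option autoImplicit false
set_option linter.unusedSectionVars false
set_option synthInstance.maxSize 1000

namespace Cfsg.Lib.J3Type

open Subgroup Equiv Cfsg.Lib.HallJankoType
open Cfsg.Lib.CosetCert (wval)

/-- the words of the five points -/
def ptWords : List (List ℕ) :=
  [[2, 5, 2, 4, 5, 4], [5, 1, 3, 1, 3, 5], [2, 4, 5, 4, 2, 5], [1, 3, 2, 5, 4, 2, 5], [1, 4, 1, 4]]

theorem ptWords_ok : ∀ j : Fin 5, (∀ l ∈ ptWords.getD j.val [], l < 6) ∧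
    cprod ((ptWords.getD j.val []).map codeC) = (qpt qone j, 1) := by decide +kernel

theorem perm_words : cprod ([1].map codeC) = (qone, tau1) ∧ cprod ([4, 1, 5, 1, 5, 1].map codeC) = (qone, p0) ∧
    cprod ([0].map codeC) = zC := by decide +kernel

theorem one_mul_code : ∀ π : P5, qmul qone (qact π qone) = qone := by decide +kernel

theorem sign_gens : Perm.sign tau1 = 1 ∧ Perm.sign p0 = 1 := by decide +kernel

theorem reach_even : ∀ n, ∀ π ∈ reach tau1 p0 n, Perm.sign π = 1
  | 0, π, h => by
    simp only [reach, List.mem_singleton] at h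
    subst h
    exact map_one _
  | n + 1, π, h => by
    simp only [reach, List.mem_dedup, List.mem_append, List.mem_map] at h
    rcases h with (h | ⟨y, hy, rfl⟩) | ⟨y, hy, rfl⟩
    · exact reach_even n π h
    · rw [map_mul, reach_even n y hy, sign_gens.1, one_mul]
    · rw [map_mul, reach_even n y hy, sign_gens.2, one_mul]

theorem central_code : ∀ y : MC, EvenC y → (∀ l : Fin 6, cmulC y (codeC l.val) = cmulC (codeC l.val) y) →
    y = coneC ∨ y = zC := by decide +kernel

variable {G : Type*} [Group G] {z : G} {a : Fin 5 → G} {ρ : P5 → G} (K : Coord z a ρ)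
include K

/-- Six letters generate the centralizer. -/
theorem Coord.ev_gen {y : MC} (hy : EvenC y) :
    K.ev y ∈ Subgroup.closure ((fun l => K.ev (codeC l)) '' Set.Iio 6) := by
  set S := Subgroup.closure ((fun l => K.ev (codeC l)) '' Set.Iio 6) with hS
  have word : ∀ w : List ℕ, (∀ l ∈ w, l < 6) → K.ev (cprod (w.map codeC)) ∈ S := by
    intro w hw
    rw [← (K.wval_ev (f := fun l => K.ev (codeC l)) (cv := codeC) (S := List.range 6)
      (fun l hl => ⟨(codeC_ok l (List.mem_range.1 hl)).1, rfl⟩) w fun l hl => List.mem_range.2 (hw l hl)).2]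
    refine list_prod_mem fun g hg => ?_
    obtain ⟨l, hl, rfl⟩ := List.mem_map.1 hg
    exact subset_closure ⟨l, hw l hl, rfl⟩
  have hz : z ∈ S := by
    have h := word [0] (by decide)
    rwa [perm_words.2.2, K.ev_zC] at h
  have ha : ∀ j, a j ∈ S := fun j => by
    obtain ⟨h1, h2⟩ := ptWords_ok j
    have h := word _ h1
    rwa [h2, K.ev_eq, K.one, mul_one, ← K.qev_pt, Pts.qev_one, one_mul] at h
  have hρ : ∀ n, ∀ π ∈ reach tau1 p0 n, K.ev (qone, π) ∈ S := by
    intro n
    induction n with
    | zero =>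
      intro π h
      simp only [reach, List.mem_singleton] at h
      subst h
      exact K.ev_one ▸ one_mem S
    | succ n ih =>
      intro π h
      simp only [reach, List.mem_dedup, List.mem_append, List.mem_map] at h
      rcases h with (h | ⟨q, hq, rfl⟩) | ⟨q, hq, rfl⟩
      · exact ih π h
      · have e := K.ev_mul (x := (qone, q)) (y := (qone, tau1)) (reach_even n q hq) sign_gens.1
        rw [show cmulC (qone, q) (qone, tau1) = (qone, q * tau1) from Prod.ext (one_mul_code q) rfl] at e
        rw [← e]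
        exact mul_mem (ih q hq) (perm_words.1 ▸ word [1] (by decide))
      · have e := K.ev_mul (x := (qone, q)) (y := (qone, p0)) (reach_even n q hq) sign_gens.2
        rw [show cmulC (qone, q) (qone, p0) = (qone, q * p0) from Prod.ext (one_mul_code q) rfl] at e
        rw [← e]
        exact mul_mem (ih q hq) (perm_words.2.1 ▸ word [4, 1, 5, 1, 5, 1] (by decide))
  obtain ⟨q, π⟩ := y
  have hπ := hρ 12 π (reach_all π hy)
  rw [K.ev_eq, Pts.qev_one, one_mul] at hπ
  rw [K.ev_eq]
  exact mul_mem (mul_mem (mul_mem (mul_mem (mul_mem (bp_mem hz _) (bp_mem (ha 0) _)) (bp_mem (ha 1) _))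
    (bp_mem (ha 2) _)) (bp_mem (ha 3) _)) hπ

end Cfsg.Lib.J3Type
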