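import Cfsg.Agent.J3Type.Fusion

/-!
A complement of `E` in its normalizer, normalised against one further conjugation.
-/

set_option autoImplicit false
set_option linter.unusedSectionVars false
set_option synthInstance.maxSize 1000

namespace Cfsg.Lib.J3Type

open Subgroup Equiv Cfsg.Lib.HallJankoType
open Cfsg.Lib.CosetCert (wval)

/-- the conjugating element in `Q` -/
def wC : MC := ((false, false, true, true, true), 1)

/-- the four elements of the four-group of the complement -/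
def vCs : List MC := [coneC, s1C, s2C, cmulC s1C s2C]

/-- three letters -/
def three {G : Type*} (g h r : G) : ℕ → G := fun i => if i = 0 then g else if i = 1 then h else r

/-- the word of the element of order three without fixed points -/
def xWord : List ℕ := [0, 2, 2, 0, 2, 2]

/-- the word of the conjugate of `x` -/
def pWord : List ℕ := [1, 0, 2, 0, 1]

theorem xWord_act : ∀ m, actW nMat s1Mat rMat xWord m = xMat m := by decide +kernel

theorem pWord_act : ∀ m, actW nMat s1Mat rMat pWord m = pMat m := by decide +kernel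

theorem mats_period : ∀ m, xMat (xMat (xMat m)) = m ∧ nMat (nMat m) = m ∧ pMat (pMat (pMat m)) = m ∧
    (xMat m = m → m = 0) ∧ xMat (nMat m) = nMat (xMat m) ∧ xMat (s1Mat m) = s1Mat (xMat m) ∧
    xMat (s2Mat m) = s2Mat (xMat m) ∧ xMat (rMat m) = rMat (xMat m) := by decide +kernel

/-- the rotated image of the first involution of the complement under the element of order three -/
theorem r_s1 : cconj rC s1C = cmulC s1C s2C ∧ cconj rC s2C = s1C := by decide +kernel

/-- the constraints on a cocycle -/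
def cocycleOK (d₁ d₂ d : Fin 16) : Bool :=
  let c₁ := cmulC (eOf d₁) s1C
  let c₂ := cmulC (eOf d₂) s2C
  let c := cmulC (eOf d) rC
  (cmulC c₁ c₁ == coneC) && (cmulC c₂ c₂ == coneC) && (cmulC c₁ c₂ == cmulC c₂ c₁) &&
    (cmulC c (cmulC c c) == coneC) && (cconj c c₁ == cmulC c₁ c₂) && (cconj c c₂ == c₁)

theorem cocycle : ∀ d₁ d₂ d : Fin 16, cocycleOK d₁ d₂ d = true → ∃ f : Fin 16,
    xadd (xadd (xadd f (xMat f)) d₁) (s1Mat (xadd f (xMat f))) = 0 ∧
    xadd (xadd (xadd f (xMat f)) d₂) (s2Mat (xadd f (xMat f))) = 0 ∧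
    xadd (xadd (xadd f (xMat f)) d) (rMat (xadd f (xMat f))) = 0 := by decide +kernel

theorem solve_n : ∀ d : Fin 16, ∃ f : Fin 16, xadd (xadd f d) (xMat f) = 0 := by decide +kernel

theorem p_table : ∀ m : Fin 16, ∃ c : Fin 16, ∃ k ∈ vCs, cconj (cinvC wC) (eOf m) = cmulC (eOf c) k ∧
    cconj wC (cmulC (eOf (xMat c)) k) = eOf (pMat m) := by decide +kernel

theorem low_table : ∀ u : Fin 16, u.val < 4 → cmulC (eOf u) s1C = cmulC s1C (eOf u) ∧
    cmulC (eOf u) s2C = cmulC s2C (eOf u) ∧ cmulC (eOf u) rC = cmulC rC (eOf u) := by decide +kernel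

/-- conjugation by the element of `Q` on the fixed part of `E` -/
def wMat : Fin 16 → Fin 16 := lin 1 3 0 0

theorem w_table : ∀ u : Fin 16, u.val < 4 → cconj wC (eOf u) = eOf (wMat u) := by decide +kernel

theorem solve_u : ∀ e : Fin 16, xadd (xadd e (pMat e)) (pMat (pMat e)) = 0 →
    ∃ u e' : Fin 16, (e' = 2 ∨ e' = 0) ∧ u.val < 4 ∧
      xadd (wMat u) (pMat (xadd e (wMat u))) = xadd u (pMat (xadd u e')) := by
  decide +kernel

variable {G : Type*} [Group G] {z : G} {a : Fin 5 → G} {ρ : P5 → G}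

/-- an involution and an element of order three in the normalizer of `E` commuting with the complement in `C(z)` -/
structure NX (K : Coord z a ρ) (n x : G) (e : Fin 16) : Prop where
  nn : n * n = 1
  x3 : x * x * x = 1
  actn : K.Acts n nMat
  actx : K.Acts x xMat
  xn : Commute x n
  xs1 : Commute x (K.ev s1C)
  xs2 : Commute x (K.ev s2C)
  xr : Commute x (K.ev rC)
  glue : K.ev wC * x * (K.ev wC)⁻¹ = wval (three n (K.ev s1C) (K.ev rC)) pWord * K.el e

namespace Coord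

variable (K : Coord z a ρ)
include K

theorem acts_congr {h : G} {f f' : Fin 16 → Fin 16} (hf : K.Acts h f) (e : ∀ m, f m = f' m) : K.Acts h f' :=
  fun m => e m ▸ hf m

theorem acts_wval {g h r : G} {f₀ f₁ f₂ : Fin 16 → Fin 16} (h0 : K.Acts g f₀) (h1 : K.Acts h f₁) (h2 : K.Acts r f₂) :
    ∀ w, K.Acts (wval (three g h r) w) (actW f₀ f₁ f₂ w)
  | [] => K.acts_one
  | i :: w => by
    rw [show wval (three g h r) (i :: w) = three g h r i * wval (three g h r) w by simp [wval]]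
    show K.Acts _ fun m => (if i = 0 then f₀ else if i = 1 then f₁ else f₂) (actW f₀ f₁ f₂ w m)
    refine K.acts_mul ?_ (acts_wval h0 h1 h2 w)
    unfold three
    split_ifs <;> assumption

theorem move {h : G} {f : Fin 16 → Fin 16} (hf : K.Acts h f) (m : Fin 16) : h * K.el m = K.el (f m) * h :=
  mul_inv_eq_iff_eq_mul.1 (hf m)

theorem uniq {x h h' : G} {f : Fin 16 → Fin 16} (hx : K.Acts x xMat) (hh : Commute x h) (hh' : Commute x h')
    (hf : K.Acts h f) (hf' : K.Acts h' f) : h = h' := by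
  have hd : K.Acts (h'⁻¹ * h) id := fun m => by
    calc h'⁻¹ * h * K.el m * (h'⁻¹ * h)⁻¹ = h'⁻¹ * (h * K.el m * h⁻¹) * h' := by group
      _ = h'⁻¹ * (h' * K.el m * h'⁻¹) * h' := by rw [hf, hf']
      _ = K.el (id m) := by simp [mul_assoc]
  obtain ⟨m, hm⟩ := K.acts_trivial hd
  have h1 := K.move hx m
  rw [← hm, (hh'.inv_right.mul_right hh).eq, hm] at h1
  have h2 : m = 0 := (mats_period m).2.2.2.1 (K.el_inj (mul_right_cancel h1)).symm
  rw [h2, K.el_zero] at hm
  exact (inv_mul_eq_one.1 hm).symm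

theorem xadd_zero {m k : Fin 16} (h : xadd m k = 0) : m = k := by
  revert h
  revert m k
  decide +kernel

theorem el_comb {m : Fin 16} (h : m = 0) : K.el m = 1 := by rw [h, K.el_zero]

variable [Finite G] (hone : ∀ x y : G, orderOf x = 2 → orderOf y = 2 → IsConj x y)
include hone

theorem exists_nx : ∃ n x e, (e = 2 ∨ e = 0) ∧ NX K n x e := by
  classical
  obtain ⟨g, hg⟩ := K.exists_swap_elt hone
  have hs1 : K.Acts (K.ev s1C) s1Mat := K.acts_code (by decide +kernel) (by decide +kernel)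
  have hs2 : K.Acts (K.ev s2C) s2Mat := K.acts_code (by decide +kernel) (by decide +kernel)
  have hr : K.Acts (K.ev rC) rMat := K.acts_code (by decide +kernel) (by decide +kernel)
  have he1 : EvenC s1C := by decide +kernel
  have he2 : EvenC s2C := by decide +kernel
  have her : EvenC rC := by decide +kernel
  -- the element of order three
  set h := wval (three g (K.ev s1C) (K.ev rC)) xWord with hh
  have hax : K.Acts h xMat := K.acts_congr (K.acts_wval hg hs1 hr xWord) xWord_act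
  obtain ⟨d₃, hd₃⟩ := K.acts_trivial (K.acts_congr (K.acts_mul hax (K.acts_mul hax hax)) fun m => (mats_period m).1)
  set x₀ := h * h * h * h with hx₀
  have hx₀3 : x₀ * x₀ * x₀ = 1 := by
    have e : x₀ * x₀ * x₀ = (h * (h * h)) * (h * (h * h)) * ((h * (h * h)) * (h * (h * h))) := by rw [hx₀]; group
    rw [e, hd₃, K.el_sq, one_mul]
  have hax₀ : K.Acts x₀ xMat :=
    K.acts_congr (K.acts_mul (K.acts_mul (K.acts_mul hax hax) hax) hax) fun m => congrArg xMat (mats_period m).1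
  clear_value x₀
  -- its commutators with the complement
  have hd : ∀ {k : G} {f : Fin 16 → Fin 16}, K.Acts k f → (∀ m, f (f m) = m ∨ f (f (f m)) = m) →
      (∀ m, xMat (f m) = f (xMat m)) → ∃ d, x₀ * k * x₀⁻¹ = K.el d * k := by
    intro k f hk hper hc
    have hinv : K.Acts (x₀ * k * x₀⁻¹ * k⁻¹) id := by
      intro m
      have hxi : x₀⁻¹ = x₀ * x₀ := inv_eq_of_mul_eq_one_right (by rw [← mul_assoc]; exact hx₀3)
      obtain ⟨m', hm'⟩ : ∃ m', f m' = m := by
        rcases hper m with e | e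
        exacts [⟨_, e⟩, ⟨_, e⟩]
      calc x₀ * k * x₀⁻¹ * k⁻¹ * K.el m * (x₀ * k * x₀⁻¹ * k⁻¹)⁻¹
          = x₀ * k * x₀⁻¹ * (k⁻¹ * K.el m * k) * (x₀ * k * x₀⁻¹)⁻¹ := by group
        _ = x₀ * k * x₀⁻¹ * K.el m' * (x₀ * k * x₀⁻¹)⁻¹ := by
          rw [← hm', ← hk m']; group
        _ = K.el (xMat (f (xMat (xMat m')))) := by
          rw [hxi]
          exact K.acts_mul (K.acts_mul hax₀ hk) (K.acts_mul hax₀ hax₀) m'
        _ = K.el (id m) := by rw [hc, (mats_period m').1, hm']; rfl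
    obtain ⟨d, hd⟩ := K.acts_trivial hinv
    exact ⟨d, mul_inv_eq_iff_eq_mul.1 hd⟩
  obtain ⟨d₁, hd₁⟩ := hd hs1 (fun m => Or.inl (by revert m; decide +kernel)) fun m => (mats_period m).2.2.2.2.2.1
  obtain ⟨d₂, hd₂⟩ := hd hs2 (fun m => Or.inl (by revert m; decide +kernel)) fun m => (mats_period m).2.2.2.2.2.2.1
  obtain ⟨d, hd'⟩ := hd hr (fun m => Or.inr (by revert m; decide +kernel)) fun m => (mats_period m).2.2.2.2.2.2.2
  have evd : ∀ (m : Fin 16) {k : MC}, EvenC k → EvenC (cmulC (eOf m) k) ∧ K.el m * K.ev k = K.ev (cmulC (eOf m) k) :=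
    fun m {k} hk => ⟨show Perm.sign ((eOf m).2 * k.2) = 1 by rw [map_mul, eOf_even m, hk, one_mul],
      K.ev_mul (eOf_even m) hk⟩
  have hok : cocycleOK d₁ d₂ d = true := by
    obtain ⟨a1, b1⟩ := evd d₁ he1
    obtain ⟨a2, b2⟩ := evd d₂ he2
    obtain ⟨a3, b3⟩ := evd d her
    rw [b1] at hd₁; rw [b2] at hd₂; rw [b3] at hd'
    have evm : ∀ {p q : MC}, EvenC p → EvenC q → EvenC (cmulC p q) := fun {p q} hp hq =>
      show Perm.sign (p.2 * q.2) = 1 by rw [map_mul, hp, hq, one_mul]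
    have eq1 : ∀ {p q p' q' : MC}, EvenC p → EvenC q → EvenC p' → EvenC q' →
        x₀ * K.ev p * x₀⁻¹ = K.ev p' → x₀ * K.ev q * x₀⁻¹ = K.ev q' →
        x₀ * K.ev (cmulC p q) * x₀⁻¹ = K.ev (cmulC p' q') := fun {p q p' q'} hp hq hp' hq' h1 h2 => by
      rw [← K.ev_mul hp hq, ← K.ev_mul hp' hq', ← h1, ← h2]; group
    have one1 : x₀ * K.ev coneC * x₀⁻¹ = K.ev coneC := by rw [K.ev_one]; group
    have same : ∀ {p q p' q' : MC}, EvenC p' → EvenC q' → x₀ * K.ev p * x₀⁻¹ = K.ev p' →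
        x₀ * K.ev q * x₀⁻¹ = K.ev q' → p = q → p' = q' := fun {p q p' q'} hp' hq' h1 h2 e =>
      K.ev_inj hp' hq' (by rw [← h1, ← h2, e])
    have eone : EvenC coneC := map_one _
    have t1 := same (evm a1 a1) eone (eq1 he1 he1 a1 a1 hd₁ hd₁) one1 (by decide +kernel)
    have t2 := same (evm a2 a2) eone (eq1 he2 he2 a2 a2 hd₂ hd₂) one1 (by decide +kernel)
    have t3 := same (evm a1 a2) (evm a2 a1) (eq1 he1 he2 a1 a2 hd₁ hd₂) (eq1 he2 he1 a2 a1 hd₂ hd₁)
      (by decide +kernel)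
    have t4 := same (evm a3 (evm a3 a3)) eone (eq1 her (evm her her) a3 (evm a3 a3) hd' (eq1 her her a3 a3 hd' hd'))
      one1 (by decide +kernel)
    have evi : ∀ {p : MC}, EvenC p → EvenC (cinvC p) := fun {p} hp =>
      show Perm.sign p.2⁻¹ = 1 by rw [map_inv, hp, inv_one]
    have hdi : x₀ * K.ev (cinvC rC) * x₀⁻¹ = K.ev (cinvC (cmulC (eOf d) rC)) := by
      rw [← K.ev_inv her, ← K.ev_inv a3, ← hd']; group
    have hconj := eq1 (evm her he1) (evi her) (evm a3 a1) (evi a3) (eq1 her he1 a3 a1 hd' hd₁) hdi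
    have hconj₂ := eq1 (evm her he2) (evi her) (evm a3 a2) (evi a3) (eq1 her he2 a3 a2 hd' hd₂) hdi
    simp only [cocycleOK, Bool.and_eq_true, beq_iff_eq]
    exact ⟨⟨⟨⟨⟨t1, t2⟩, t3⟩, t4⟩, same (evm (evm a3 a1) (evi a3)) (evm a1 a2) hconj (eq1 he1 he2 a1 a2 hd₁ hd₂)
      r_s1.1⟩, same (evm (evm a3 a2) (evi a3)) a1 hconj₂ hd₁ r_s1.2⟩
  obtain ⟨f, hf₁, hf₂, hf⟩ := cocycle d₁ d₂ d hok
  set t := xadd f (xMat f) with ht
  set x₁ := K.el t * x₀ with hx₁
  have hx₁e : x₁ = K.el f * x₀ * (K.el f)⁻¹ := by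
    rw [hx₁, ht, K.el_inv, mul_assoc (K.el f) x₀, K.move hax₀, ← mul_assoc, K.el_mul]
  have hax₁ : K.Acts x₁ xMat := K.acts_congr (K.acts_mul (K.acts_el t) hax₀) fun _ => rfl
  have hx₁3 : x₁ * x₁ * x₁ = 1 := by
    rw [hx₁e, show K.el f * x₀ * (K.el f)⁻¹ * (K.el f * x₀ * (K.el f)⁻¹) * (K.el f * x₀ * (K.el f)⁻¹) =
      K.el f * (x₀ * x₀ * x₀) * (K.el f)⁻¹ by group, hx₀3]; group
  have hcom : ∀ {k : G} {fk : Fin 16 → Fin 16} {dk : Fin 16}, K.Acts k fk → x₀ * k * x₀⁻¹ = K.el dk * k →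
      xadd (xadd t dk) (fk t) = 0 → Commute x₁ k := by
    intro k fk dk hk hdk h0
    refine mul_inv_eq_iff_eq_mul.1 ?_
    rw [hx₁, mul_inv_rev, K.el_inv, show K.el t * x₀ * k * (x₀⁻¹ * K.el t) = K.el t * (x₀ * k * x₀⁻¹) * K.el t by group,
      hdk, show K.el t * (K.el dk * k) * K.el t = K.el t * K.el dk * (k * K.el t) by group, K.move hk,
      ← mul_assoc, K.el_mul, K.el_mul, h0, K.el_zero, one_mul]
  have hxs1 := hcom hs1 hd₁ hf₁
  have hxs2 := hcom hs2 hd₂ hf₂
  have hxr := hcom hr hd' hf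
  -- the involution
  obtain ⟨dg, hdg⟩ : ∃ dg, g * x₁ * g⁻¹ = K.el dg * x₁ := by
    have hg2 : ∀ m, nMat (nMat m) = m := fun m => (mats_period m).2.1
    have hinv : K.Acts (g * x₁ * g⁻¹ * x₁⁻¹) id := by
      intro m
      calc g * x₁ * g⁻¹ * x₁⁻¹ * K.el m * (g * x₁ * g⁻¹ * x₁⁻¹)⁻¹
          = g * x₁ * g⁻¹ * (x₁⁻¹ * K.el m * x₁) * (g * x₁ * g⁻¹)⁻¹ := by group
        _ = g * x₁ * g⁻¹ * K.el (xMat (xMat m)) * (g * x₁ * g⁻¹)⁻¹ := by
          have e : x₁ * K.el (xMat (xMat m)) * x₁⁻¹ = K.el m := by rw [hax₁, (mats_period m).1]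
          rw [show x₁⁻¹ * K.el m * x₁ = K.el (xMat (xMat m)) by rw [← e]; group]
        _ = g * x₁ * (g⁻¹ * K.el (xMat (xMat m)) * g) * (g * x₁)⁻¹ := by group
        _ = g * x₁ * K.el (nMat (xMat (xMat m))) * (g * x₁)⁻¹ := by
          have e : g * K.el (nMat (xMat (xMat m))) * g⁻¹ = K.el (xMat (xMat m)) := by rw [hg, hg2]
          rw [show g⁻¹ * K.el (xMat (xMat m)) * g = K.el (nMat (xMat (xMat m))) by rw [← e]; group]
        _ = K.el (id m) := by
          rw [K.acts_mul hg hax₁]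
          show K.el (nMat (xMat (nMat (xMat (xMat m))))) = K.el (id m)
          rw [(mats_period _).2.2.2.2.1, (mats_period m).1, hg2]; rfl
    obtain ⟨dg, hdg⟩ := K.acts_trivial hinv
    exact ⟨dg, mul_inv_eq_iff_eq_mul.1 hdg⟩
  obtain ⟨fn, hfn⟩ := solve_n dg
  set n₁ := K.el fn * g with hn₁
  have han₁ : K.Acts n₁ nMat := K.acts_congr (K.acts_mul (K.acts_el fn) hg) fun _ => rfl
  have hxn : Commute x₁ n₁ := by
    refine Commute.symm (mul_inv_eq_iff_eq_mul.1 ?_)
    rw [hn₁, mul_inv_rev, K.el_inv, show K.el fn * g * x₁ * (g⁻¹ * K.el fn) = K.el fn * (g * x₁ * g⁻¹) * K.el fn by group,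
      hdg, show K.el fn * (K.el dg * x₁) * K.el fn = K.el fn * K.el dg * (x₁ * K.el fn) by group, K.move hax₁,
      ← mul_assoc, K.el_mul, K.el_mul, hfn, K.el_zero, one_mul]
  have hnn : n₁ * n₁ = 1 := K.uniq hax₁ (hxn.mul_right hxn) (Commute.one_right _)
    (K.acts_congr (K.acts_mul han₁ han₁) fun m => (mats_period m).2.1) K.acts_one
  -- the conjugate of `x`
  set W := K.ev wC with hW
  have hwC : EvenC wC := by decide +kernel
  set κ := wval (three n₁ (K.ev s1C) (K.ev rC)) pWord with hκ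
  have haκ : K.Acts κ pMat := K.acts_congr (K.acts_wval han₁ hs1 hr pWord) pWord_act
  have hwcom : ∀ w : List ℕ, Commute x₁ (wval (three n₁ (K.ev s1C) (K.ev rC)) w) := by
    intro w
    induction w with
    | nil => exact Commute.one_right _
    | cons i w ih =>
      rw [show wval (three n₁ (K.ev s1C) (K.ev rC)) (i :: w) =
        three n₁ (K.ev s1C) (K.ev rC) i * wval (three n₁ (K.ev s1C) (K.ev rC)) w by simp [wval]]
      refine Commute.mul_right ?_ ih
      unfold three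
      split_ifs <;> assumption
  have hκ3 : κ * κ * κ = 1 := K.uniq hax₁ (((hwcom _).mul_right (hwcom _)).mul_right (hwcom _)) (Commute.one_right _)
    (K.acts_congr (K.acts_mul (K.acts_mul haκ haκ) haκ) fun m => (mats_period m).2.2.1) K.acts_one
  have hp : K.Acts (W * x₁ * W⁻¹) pMat := by
    intro m
    obtain ⟨c, k, hk, h1, h2⟩ := p_table m
    have hek : EvenC k := (show ∀ k ∈ vCs, EvenC k by decide +kernel) k hk
    have hxk : Commute x₁ (K.ev k) := by
      simp only [vCs, List.mem_cons, List.mem_nil_iff, or_false] at hk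
      rcases hk with rfl | rfl | rfl | rfl
      · rw [K.ev_one]; exact Commute.one_right _
      · exact hxs1
      · exact hxs2
      · rw [← K.ev_mul he1 he2]; exact hxs1.mul_right hxs2
    have e1 : W⁻¹ * K.el m * W = K.el c * K.ev k := by
      rw [(evd c hek).2, ← h1, ← K.ev_conj (show EvenC (cinvC wC) by decide +kernel) (eOf_even m), ← K.ev_inv hwC]
      simp [hW, el]
    calc W * x₁ * W⁻¹ * K.el m * (W * x₁ * W⁻¹)⁻¹ = W * (x₁ * (W⁻¹ * K.el m * W) * x₁⁻¹) * W⁻¹ := by group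
      _ = W * ((x₁ * K.el c) * (K.ev k * x₁⁻¹)) * W⁻¹ := by rw [e1]; group
      _ = W * (K.el (xMat c) * K.ev k) * W⁻¹ := by
        rw [K.move hax₁, (hxk.inv_left.symm).eq]; group
      _ = K.el (pMat m) := by
        rw [(evd (xMat c) hek).2, hW, K.ev_conj hwC (evd (xMat c) hek).1, h2]; rfl
  obtain ⟨e, he⟩ : ∃ e, W * x₁ * W⁻¹ = κ * K.el e := by
    obtain ⟨e, he⟩ := K.acts_trivial (h := κ⁻¹ * (W * x₁ * W⁻¹)) fun m => by
      calc κ⁻¹ * (W * x₁ * W⁻¹) * K.el m * (κ⁻¹ * (W * x₁ * W⁻¹))⁻¹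
          = κ⁻¹ * (W * x₁ * W⁻¹ * K.el m * (W * x₁ * W⁻¹)⁻¹) * κ := by group
        _ = κ⁻¹ * (κ * K.el m * κ⁻¹) * κ := by rw [hp, haκ]
        _ = K.el (id m) := by simp [mul_assoc]
    exact ⟨e, by rw [← he, mul_inv_cancel_left]⟩
  have hcond : xadd (xadd e (pMat e)) (pMat (pMat e)) = 0 := by
    have h1 : κ * K.el e * (κ * K.el e) * (κ * K.el e) = 1 := by
      rw [← he, show W * x₁ * W⁻¹ * (W * x₁ * W⁻¹) * (W * x₁ * W⁻¹) = W * (x₁ * x₁ * x₁) * W⁻¹ by group, hx₁3]; group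
    have h2 : κ * K.el e * (κ * K.el e) * (κ * K.el e) =
        K.el (xadd (xadd (pMat e) (pMat (pMat e))) (pMat (pMat (pMat e)))) := by
      calc κ * K.el e * (κ * K.el e) * (κ * K.el e) = (κ * K.el e * κ⁻¹) * (κ * κ * K.el e * (κ * κ)⁻¹) *
            (κ * κ * κ * K.el e * (κ * κ * κ)⁻¹) * (κ * κ * κ) := by group
        _ = K.el (pMat e) * K.el (pMat (pMat e)) * K.el (pMat (pMat (pMat e))) := by
          rw [haκ e, K.acts_mul haκ haκ e, K.acts_mul (K.acts_mul haκ haκ) haκ e, hκ3, mul_one]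
        _ = _ := by rw [K.el_mul, K.el_mul]
    have h3 := K.el_inj ((h2.symm.trans h1).trans K.el_zero.symm)
    revert h3
    generalize e = e'
    revert e'
    decide +kernel
  obtain ⟨u, e', he', hu4, hueq⟩ := solve_u e hcond
  obtain ⟨u1, u2, u3⟩ := low_table u hu4
  set U := MulAut.conj (K.el u) with hU
  have hfix : ∀ {k : MC}, EvenC k → cmulC (eOf u) k = cmulC k (eOf u) → U (K.ev k) = K.ev k := fun {k} hk h => by
    show K.el u * K.ev k * (K.el u)⁻¹ = K.ev k
    rw [show K.el u = K.ev (eOf u) from rfl, (K.ev_commute_iff (eOf_even u) hk).2 h |>.eq, mul_inv_cancel_right]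
  have hact : ∀ {k : G} {fk : Fin 16 → Fin 16}, K.Acts k fk → K.Acts (U k) fk := fun {k fk} hk => by
    rw [show U k = K.el u * k * K.el u by rw [hU, MulAut.conj_apply, K.el_inv]]
    exact K.acts_congr (K.acts_mul (K.acts_mul (K.acts_el u) hk) (K.acts_el u)) fun _ => rfl
  refine ⟨U n₁, U x₁, e', he', ⟨by rw [← map_mul, hnn, map_one], by rw [← map_mul, ← map_mul, hx₁3, map_one],
    hact han₁, hact hax₁, hxn.map U, hfix he1 u1 ▸ hxs1.map U, hfix he2 u2 ▸ hxs2.map U, hfix her u3 ▸ hxr.map U, ?_⟩⟩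
  have hUw : ∀ w : List ℕ, wval (three (U n₁) (K.ev s1C) (K.ev rC)) w = U (wval (three n₁ (K.ev s1C) (K.ev rC)) w) := by
    intro w
    rw [wval, wval, map_list_prod, List.map_map]
    congr 1
    refine List.map_congr_left fun i _ => ?_
    show three (U n₁) (K.ev s1C) (K.ev rC) i = U (three n₁ (K.ev s1C) (K.ev rC) i)
    unfold three
    split_ifs
    exacts [rfl, (hfix he1 u1).symm, (hfix her u3).symm]
  rw [hUw, ← hκ]
  have hWu : W * K.el u * W⁻¹ = K.el (wMat u) := by rw [el, hW, K.ev_conj hwC (eOf_even u), w_table u hu4]; rfl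
  calc W * U x₁ * W⁻¹ = (W * K.el u * W⁻¹) * (W * x₁ * W⁻¹) * (W * K.el u * W⁻¹)⁻¹ := by
        rw [hU, MulAut.conj_apply]; group
    _ = K.el (wMat u) * (κ * (K.el e * K.el (wMat u))) := by rw [hWu, he, K.el_inv]; group
    _ = K.el (xadd (wMat u) (pMat (xadd e (wMat u)))) * κ := by
      rw [K.el_mul, K.move haκ, ← mul_assoc, K.el_mul]
    _ = K.el u * (κ * (K.el u * K.el e')) := by
      rw [hueq, K.el_mul u e', K.move haκ, ← mul_assoc (K.el u), K.el_mul]
    _ = U κ * K.el e' := by rw [hU, MulAut.conj_apply, K.el_inv]; group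

end Coord

end Cfsg.Lib.J3Type
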