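/-!
Words for twelve letters in the nine dimensional model, and for its six generators in these letters.
-/

set_option autoImplicit false

namespace Cfsg.Lib.J3Type.ModelW

/-- the words of the letters -/
def words : List (List Nat) :=
  [[2,32,4,14,24,32,8,30,32,1],
   [6,31,1,13,32,3,28,32,5,27],
   [1,30,32,29,32,26,32,2,28,1,30,32,29,32,26,32,2,28,1,30,32,29,32,26,32,2,28],
   [7,14,32,25,19,32,27,32,5],
   [32,1,29,32,26,24,32,24,32,31],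
   [2,13,24,32,31,32,31,32,1,24,2,13,24,32,31,32,31,32,1,24,2,13,24,32,31,32,31,32,1,24],
   [3,10,32,25,28,32,29,32,6,3,10,32,25,28,32,29,32,6,3,10,32,25,28,32,29,32,6],
   [32,26,32,29,32],
   [7,10,32,24,19,32,27,32,5],
   [2,30,13,32,3,25,32,1,28,2,30,13,32,3,25,32,1,28,2,30,13,32,3,25,32,1,28],
   [7,10,32,24,19,32,27,32,5,32,26,32,29,32,32,1,29,32,26,24,32,24,32,31],
   [7,10,32,24,19,32,27,32,5,32,26,32,29,32,32,1,29,32,26,24,32,24,32,31,7,10,32,24,19,32,27,32,5,2,30,13,32,3,25,32,1,28,2,30,13,32,3,25,32,1,28,2,30,13,32,3,25,32,1,28]]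

/-- the generators in letters -/
def gens : List (Nat × List Nat) :=
  [(3, [5,9,0,4,6,9,5,2,4,5,1,5,2,6,7,0,1,5,2,6,7,0]),
   (1, [0,8,2,8,6,2,5,9,2,3]),
   (10, [8,0,1,2,7,5,2,8,0]),
   (18, [4,1,6,4,6,8,2,5,6,1,5,2,6,7,0,1,5,2,6,7,0]),
   (26, [2,9,4,5,8,0,6,4,7,1,5,2,6,7,0,1,5,2,6,7,0,1,5,2,6,7,0,1,5,2,6,7,0]),
   (32, [6,9,5,8,1,8,5,9,6])]

end Cfsg.Lib.J3Type.ModelW
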