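import Cfsg.Agent.J3Type.Collapse
import Cfsg.Agent.J3Type.ModelWords
import Cfsg.Agent.J3Type.Gen
import Cfsg.Agent.J3Type.Cert.MainCheck
import Cfsg.Agent.J3Type.Cert.HTopCheck
import Cfsg.Agent.J3Type.Cert.HBotCheck
import Cfsg.Agent.Spor.J3.Lower
import Cfsg.Agent.Spor.J3.Simple
import Mathlib.GroupTheory.PresentedGroup
import Mathlib.FieldTheory.Finite.GaloisField

/-!
The letters generate a copy of the third Janko group: the presented group on twelve letters has the order of the
nine dimensional model and maps onto it and into the group.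
-/

set_option autoImplicit false
set_option linter.unusedSectionVars false
set_option linter.style.haveILetI false
set_option synthInstance.maxSize 1000

namespace Cfsg.Lib.J3Type

open Subgroup Equiv Cfsg.Lib.HallJankoType
open Cfsg.Lib.CosetCert (wval)
open Cfsg.Lib.Spor.J3 (wd eqw eqw_sound wd_mem lettersOK at' gens6 threeJ3_eq first_orbit_and_order card_center
  card_J3 isSimpleGroup_J3 wd_append)

/-- the seven letters of the subgroup of the enumeration -/
def hMap : ℕ → ℕ
  | 0 => 0
  | 1 => 1
  | 2 => 2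
  | 3 => 3
  | 4 => 6
  | 5 => 10
  | 6 => 11
  | _ => 15

/-- the extra relation -/
def tntWord : List ℕ := [10, 6, 10, 3, 6, 3]

/-- all relations -/
def allRels : List (List ℕ) := Main.rels ++ HTop.rels.map (List.map hMap) ++ HBot.rels

theorem allRels_G : allRels.all (fun r => r == selWord 0 0 || r == conjWord 0 0 || r == tntWord || okRel goodVar r)
    = true := by decide +kernel

theorem allRels_small : allRels.all (fun r => r.all fun l => decide (l < 12)) = true := by decide +kernel

theorem tnt_aux : [[8, 7, 8, 4, 3], [8, 4, 8, 7, 3], [10, 4, 7, 8], [7, 4, 7, 4, 3], [3, 4, 3, 4], [3, 7, 3, 7]].all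
    (okRel goodVar) = true := by decide +kernel

/-- the word of a word in letters -/
def modelWord (r : List ℕ) : List ℕ := r.flatMap fun l => ModelW.words.getD l []

theorem model_letters : ModelW.words.all lettersOK = true ∧ ModelW.words.length = 12 := by decide +kernel

theorem model_rels : allRels.all (fun r => eqw (modelWord r) []) = true := by decide +kernel

theorem model_gens : gens6.all (fun k => ModelW.gens.any fun p =>
    p.1 == k && (p.2.all fun l => decide (l < 12)) && eqw [k] (modelWord p.2)) = true := by decide +kernel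

theorem subs_ok : ((Main.cert.subs == [0, 1, 2, 3, 6, 10, 11]) && (HTop.cert.subs == [0, 1, 2, 3]) &&
    (HBot.cert.subs == []) && (Main.cert.ng == 12) && (HTop.cert.ng == 7) && (HBot.cert.ng == 4)) = true := by
  decide +kernel

/-- relations as free group elements -/
def freeRels : Set (FreeGroup (Fin 12)) :=
  {w | ∃ r ∈ allRels, w = ((r.map fun l => FreeGroup.of (Fin.ofNat 12 l))).prod}

/-- the presented group -/
abbrev P12 : Type := PresentedGroup freeRels

/-- its letters -/
def pl (l : ℕ) : P12 := if l < 12 then PresentedGroup.of (Fin.ofNat 12 l) else 1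

theorem pl_rel {r : List ℕ} (hr : r ∈ allRels) : wval pl r = 1 := by
  have hs := List.all_eq_true.1 allRels_small r hr
  simp only [List.all_eq_true, decide_eq_true_eq] at hs
  have h : PresentedGroup.mk freeRels (r.map fun l => FreeGroup.of (Fin.ofNat 12 l)).prod = 1 :=
    PresentedGroup.one_of_mem ⟨r, hr, rfl⟩
  rw [map_list_prod, List.map_map] at h
  rw [wval, ← h]
  exact congrArg List.prod (List.map_congr_left fun l hl => by simp [pl, if_pos (hs l hl)]; rfl)

theorem sq_rels : (List.range 12).all (fun l => allRels.contains [l, l]) = true := by decide +kernel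

theorem pl_sq (l : ℕ) : pl l * pl l = 1 := by
  by_cases h : l < 12
  · have h1 := List.all_eq_true.1 sq_rels l (List.mem_range.2 h)
    simp only [List.contains_iff_mem] at h1
    simpa [wval] using pl_rel h1
  · simp [pl, h]

/-- The order bound. -/
theorem card_P12 : Finite P12 ∧ Nat.card P12 ≤ 150698880 := by
  classical
  have hs := subs_ok
  simp only [Bool.and_eq_true, beq_iff_eq] at hs
  obtain ⟨⟨⟨⟨⟨hm, ht⟩, hb⟩, nm⟩, nt⟩, nb⟩ := hs
  set B : Subgroup P12 := Subgroup.closure (pl '' Set.Iio HBot.cert.ng) with hB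
  have hsqB : ∀ l, l < HBot.cert.ng → pl l * pl l = 1 := fun l _ => pl_sq l
  obtain ⟨fB, cB⟩ := Cfsg.Lib.CosetCert.card_le HBot.cert pl (K := (⊥ : Subgroup P12)) (L := B) HBot.valid hsqB
    (fun r hr => pl_rel (List.mem_append_right _ hr)) (fun _ _ l _ => pl_sq l)
    (fun s hs => by rw [hb] at hs; simp at hs) le_rfl
  set H : Subgroup P12 := Subgroup.closure ((fun l => pl (hMap l)) '' Set.Iio HTop.cert.ng) with hH
  obtain ⟨fH, cH⟩ := Cfsg.Lib.CosetCert.card_le HTop.cert (fun l => pl (hMap l)) (K := B) (L := H) HTop.valid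
    (fun l _ => pl_sq _)
    (fun r hr => by
      have h := pl_rel (r := r.map hMap) (List.mem_append_left _ (List.mem_append_right _ (List.mem_map.2 ⟨r, hr, rfl⟩)))
      simpa [wval, List.map_map, Function.comp_def] using h)
    (fun _ _ l _ => pl_sq _)
    (fun s hs => by
      rw [ht] at hs
      simp only [List.mem_cons, List.mem_nil_iff, or_false] at hs
      rcases hs with rfl | rfl | rfl | rfl <;> refine subset_closure ⟨_, ?_, rfl⟩ <;> rw [Set.mem_Iio, nb] <;>
        simp [hMap]) le_rfl
  obtain ⟨fT, cT⟩ := Cfsg.Lib.CosetCert.card_le Main.cert pl (K := H) (L := (⊤ : Subgroup P12)) Main.valid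
    (fun l _ => pl_sq l) (fun r hr => pl_rel (List.mem_append_left _ (List.mem_append_left _ hr)))
    (fun _ _ l _ => pl_sq l)
    (fun s hs => by
      rw [hm] at hs
      simp only [List.mem_cons, List.mem_nil_iff, or_false] at hs
      rcases hs with rfl | rfl | rfl | rfl | rfl | rfl | rfl
      exacts [subset_closure ⟨0, by rw [Set.mem_Iio, nt]; norm_num, rfl⟩,
        subset_closure ⟨1, by rw [Set.mem_Iio, nt]; norm_num, rfl⟩,
        subset_closure ⟨2, by rw [Set.mem_Iio, nt]; norm_num, rfl⟩,
        subset_closure ⟨3, by rw [Set.mem_Iio, nt]; norm_num, rfl⟩,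
        subset_closure ⟨4, by rw [Set.mem_Iio, nt]; norm_num, rfl⟩,
        subset_closure ⟨5, by rw [Set.mem_Iio, nt]; norm_num, rfl⟩,
        subset_closure ⟨6, by rw [Set.mem_Iio, nt]; norm_num, rfl⟩])
    (by
      rw [← PresentedGroup.closure_range_of]
      refine closure_mono ?_
      rintro _ ⟨i, rfl⟩
      refine ⟨i.val, by rw [Set.mem_Iio, nm]; exact i.2, ?_⟩
      rw [pl, if_pos i.2]
      exact congrArg _ (Fin.ext (Nat.mod_eq_of_lt i.2)))
  haveI := fT
  refine ⟨Finite.of_equiv _ (Subgroup.topEquiv (G := P12)).toEquiv, ?_⟩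
  rw [← Nat.card_congr (Subgroup.topEquiv (G := P12)).toEquiv]
  refine cT.trans ?_
  rw [Main.fins_length, show (150698880 : ℕ) = 18468 * (255 * (32 * 1)) from rfl]
  refine Nat.mul_le_mul le_rfl (cH.trans ?_)
  rw [HTop.fins_length]
  refine Nat.mul_le_mul le_rfl (cB.trans ?_)
  rw [HBot.fins_length, Subgroup.card_bot]

variable {G : Type*} [Group G] [Finite G] {z : G} {a : Fin 5 → G} {ρ : P5 → G} {K : Coord z a ρ}

namespace NX

variable {n x : G} (X : NX K n x 2)
include X

theorem tnt_rel : wval (K.letters n goodVar) tntWord = 1 := by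
  have h := fun r hr => X.okRel_sound goodVar_ok (List.all_eq_true.1 tnt_aux r hr)
  have a1 := h [8, 7, 8, 4, 3] (by decide)
  have a2 := h [8, 4, 8, 7, 3] (by decide)
  have a3 := h [10, 4, 7, 8] (by decide)
  have a4 := h [7, 4, 7, 4, 3] (by decide)
  have a5 := h [3, 4, 3, 4] (by decide)
  have a6 := h [3, 7, 3, 7] (by decide)
  have a7 := X.good_rels.2
  set f := K.letters n goodVar with hf
  have sq := X.letters_sq goodVar_ok
  simp only [conjWord, tntWord, wval, List.map_cons, List.map_nil, List.prod_cons, List.prod_nil, mul_one,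
    ← hf] at a1 a2 a3 a4 a5 a6 a7 ⊢
  have iv : ∀ l, (f l)⁻¹ = f l := fun l => inv_eq_of_mul_eq_one_right (sq l)
  have cc : ∀ l m, f l * (f m * (f l * f m)) = 1 → f l * f m = f m * f l := fun l m e => by
    rw [← mul_assoc, ← mul_assoc, mul_assoc (f l * f m), ← eq_inv_iff_mul_eq_one, mul_inv_rev, iv, iv] at e
    exact e
  have sq' : ∀ l (g : G), f l * (f l * g) = g := fun l g => by rw [← mul_assoc, sq, one_mul]
  have t : f 10 = f 8 * (f 7 * f 4) := by
    have := eq_inv_of_mul_eq_one_left a3
    rw [this, mul_inv_rev, mul_inv_rev, iv, iv, iv, mul_assoc]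
  have jv : f 8 * f 7 * f 8 = f 3 * f 4 := by
    have e : f 8 * f 7 * f 8 * (f 4 * f 3) = 1 := by simpa only [mul_assoc] using a1
    rw [eq_inv_of_mul_eq_one_left e, mul_inv_rev, iv, iv]
  have jb : f 8 * f 4 * f 8 = f 3 * f 7 := by
    have e : f 8 * f 4 * f 8 * (f 7 * f 3) = 1 := by simpa only [mul_assoc] using a2
    rw [eq_inv_of_mul_eq_one_left e, mul_inv_rev, iv, iv]
  have jn : f 8 * f 6 * f 8 = f 4 * (f 7 * (f 6 * (f 7 * f 4))) := by
    have e : f 8 * f 6 * f 8 * (f 4 * (f 7 * (f 6 * (f 7 * f 4)))) = 1 := by simpa only [mul_assoc] using a7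
    rw [eq_inv_of_mul_eq_one_left e]
    simp only [mul_inv_rev, iv, mul_assoc]
  have e74 : f 7 * f 4 * (f 7 * f 4) = f 3 := by
    have e : f 7 * f 4 * (f 7 * f 4) * f 3 = 1 := by simpa only [mul_assoc] using a4
    rw [eq_inv_of_mul_eq_one_left e, iv]
  have e47 : f 4 * f 7 * (f 4 * f 7) = f 3 := by
    rw [← iv 3, ← e74]
    simp only [mul_inv_rev, iv]
  have c34 := cc 3 4 a5
  have c37 := cc 3 7 a6
  have h10 : f 10 * f 6 * f 10 = f 3 * f 6 * f 3 := by
    have i10 : f 10 = f 4 * (f 7 * f 8) := by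
      rw [← iv 10, t]
      simp only [mul_inv_rev, iv, mul_assoc]
    nth_rewrite 2 [i10]
    rw [t]
    calc f 8 * (f 7 * f 4) * f 6 * (f 4 * (f 7 * f 8)) =
        (f 8 * f 7 * f 8) * (f 8 * f 4 * f 8) * (f 8 * f 6 * f 8) * (f 8 * f 4 * f 8) * (f 8 * f 7 * f 8) := by
          simp only [mul_assoc, sq']
      _ = (f 3 * f 4 * f 3) * f 7 * (f 4 * (f 7 * (f 6 * (f 7 * f 4)))) * (f 3 * f 7 * f 3) * f 4 := by
          rw [jv, jb, jn]; simp only [mul_assoc]
      _ = f 4 * f 7 * (f 4 * (f 7 * (f 6 * (f 7 * f 4)))) * f 7 * f 4 := by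
          rw [c34, c37, mul_assoc (f 4) (f 3), sq, mul_one, mul_assoc (f 7) (f 3), sq, mul_one]
      _ = (f 4 * f 7 * (f 4 * f 7)) * f 6 * (f 7 * f 4 * (f 7 * f 4)) := by simp only [mul_assoc]
      _ = f 3 * f 6 * f 3 := by rw [e47, e74]
  calc f 10 * (f 6 * (f 10 * (f 3 * (f 6 * f 3)))) = (f 10 * f 6 * f 10) * (f 3 * f 6 * f 3) := by
        simp only [mul_assoc]
    _ = 1 := by
        rw [h10]
        simp only [mul_assoc, sq']
        exact sq 3

theorem all_rels : ∀ r ∈ allRels, wval (K.letters n goodVar) r = 1 := by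
  intro r hr
  have h := List.all_eq_true.1 allRels_G r hr
  simp only [Bool.or_eq_true, beq_iff_eq] at h
  rcases h with ((rfl | rfl) | rfl) | h
  exacts [X.good_rels.1, X.good_rels.2, X.tnt_rel, X.okRel_sound goodVar_ok h]

/-- The letters generate a copy of the third Janko group. -/
theorem exists_subgroup : ∃ M : Subgroup G, Cfsg.Spor.IsoJ3 M ∧ Nat.card M = 50232960 ∧
    (∀ l, K.letters n goodVar l ∈ M) := by
  classical
  -- the field
  let F := GaloisField 2 2
  letI : Fintype F := Fintype.ofFinite F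
  have hF : Fintype.card F = 4 := by
    rw [← Nat.card_eq_fintype_card, GaloisField.card 2 2 two_ne_zero]; norm_num
  obtain ⟨ω, hω⟩ : ∃ ω : F, ω ^ 2 + ω + 1 = 0 := by
    obtain ⟨w, hw⟩ : ∃ w : F, w ∉ ({0, 1} : Finset F) := by
      by_contra h
      push Not at h
      have h1 := Finset.card_le_card (s := (Finset.univ : Finset F)) (t := {0, 1}) fun w _ => h w
      rw [Finset.card_univ, hF] at h1
      have h2 : ({0, 1} : Finset F).card ≤ 2 := Finset.card_le_two
      omega
    simp only [Finset.mem_insert, Finset.mem_singleton, not_or] at hw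
    refine ⟨w, ?_⟩
    have h4 : w ^ 4 = w := hF ▸ FiniteField.pow_card w
    have h0 : w * (w - 1) * (w ^ 2 + w + 1) = 0 := by linear_combination h4
    rcases mul_eq_zero.1 h0 with h | h
    · rcases mul_eq_zero.1 h with h | h
      exacts [absurd h hw.1, absurd (sub_eq_zero.1 h) hw.2]
    · exact h
  haveI : CharP F 2 := Cfsg.Lib.Spor.J3.charP_two_of_card_four hF
  obtain ⟨hfin, hle⟩ := card_P12
  -- onto the model
  let wm : Fin 12 → Cfsg.Spor.threeJ3 F ω := fun i => ⟨wd hω (ModelW.words.getD i.val []), wd_mem hω (by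
    have h := List.all_eq_true.1 model_letters.1
    rw [List.getD_eq_getElem _ _ (by rw [model_letters.2]; exact i.2)]
    exact h _ (List.getElem_mem _))⟩
  have hwm : ∀ r : List ℕ, (∀ l ∈ r, l < 12) →
      (((r.map fun l => wm (Fin.ofNat 12 l)).prod : Cfsg.Spor.threeJ3 F ω) : GL Cfsg.Spor.F9 F) = wd hω (modelWord r) := by
    intro r hr
    induction r with
    | nil => simp [modelWord]
    | cons l r ih =>
      rw [List.map_cons, List.prod_cons, Subgroup.coe_mul, ih fun i hi => hr i (List.mem_cons_of_mem _ hi),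
        show modelWord (l :: r) = ModelW.words.getD l [] ++ modelWord r by simp [modelWord], wd_append]
      congr 1
      show wd hω _ = _
      rw [show (Fin.ofNat 12 l).val = l from Nat.mod_eq_of_lt (hr l List.mem_cons_self)]
  have small : ∀ r ∈ allRels, ∀ l ∈ r, l < 12 := fun r hr l hl => by
    have h := List.all_eq_true.1 allRels_small r hr
    simp only [List.all_eq_true, decide_eq_true_eq] at h
    exact h l hl
  have hψ : ∀ w ∈ freeRels, FreeGroup.lift wm w = 1 := by
    rintro _ ⟨r, hr, rfl⟩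
    refine Subtype.ext ?_
    rw [map_list_prod, List.map_map]
    simp only [Function.comp_def, FreeGroup.lift_apply_of]
    rw [hwm r (small r hr), eqw_sound hω (List.all_eq_true.1 model_rels r hr)]
    simp
  let ψ : P12 →* Cfsg.Spor.threeJ3 F ω := PresentedGroup.toGroup hψ
  have hψs : Function.Surjective ψ := by
    rintro ⟨g, hg⟩
    have hg' := hg
    rw [threeJ3_eq hω] at hg'
    have key : Subgroup.closure ((fun k => at' hω k) '' {k | k ∈ gens6}) ≤
        ψ.range.map (Cfsg.Spor.threeJ3 F ω).subtype := by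
      rw [closure_le]
      rintro _ ⟨k, hk, rfl⟩
      have h := List.all_eq_true.1 model_gens k hk
      simp only [List.any_eq_true, Bool.and_eq_true, beq_iff_eq, List.all_eq_true, decide_eq_true_eq] at h
      obtain ⟨p, -, ⟨hpk, hp⟩, he⟩ := h
      refine ⟨ψ ((p.2.map fun l => PresentedGroup.of (Fin.ofNat 12 l)).prod), ⟨_, rfl⟩, ?_⟩
      rw [map_list_prod, List.map_map]
      show (((p.2.map _).prod : Cfsg.Spor.threeJ3 F ω) : GL Cfsg.Spor.F9 F) = at' hω k
      rw [show ((fun x => ψ x) ∘ fun l => PresentedGroup.of (Fin.ofNat 12 l)) = fun l => wm (Fin.ofNat 12 l) from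
        funext fun l => PresentedGroup.toGroup.of hψ, hwm _ hp, ← eqw_sound hω he]
      simp [wd]
    obtain ⟨y, ⟨q, hq⟩, hy⟩ := key hg'
    exact ⟨q, hq.trans (Subtype.ext hy)⟩
  have hcard := (first_orbit_and_order hω hF).1
  haveI := hfin
  have hψb : Function.Bijective ψ := (Nat.bijective_iff_surjective_and_card ψ).2
    ⟨hψs, le_antisymm (hcard ▸ hle) (Nat.card_le_card_of_surjective ψ hψs)⟩
  let e := MulEquiv.ofBijective ψ hψb
  -- into the group
  have hθ : ∀ w ∈ freeRels, FreeGroup.lift (fun i : Fin 12 => K.letters n goodVar i.val) w = 1 := by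
    rintro _ ⟨r, hr, rfl⟩
    rw [map_list_prod, List.map_map, ← X.all_rels r hr, wval]
    refine congrArg List.prod (List.map_congr_left fun l hl => ?_)
    simp only [Function.comp_apply, FreeGroup.lift_apply_of]
    exact congrArg _ (Nat.mod_eq_of_lt (small r hr l hl))
  let θ : P12 →* G := PresentedGroup.toGroup hθ
  let χ : Cfsg.Spor.threeJ3 F ω →* G := θ.comp e.symm.toMonoidHom
  -- the centre is killed
  have memlet : ∀ i : Fin 12, K.letters n goodVar i.val ∈ χ.range :=
    fun i => ⟨e (PresentedGroup.of i), by simp [χ, θ]⟩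
  have hker : Subgroup.center (Cfsg.Spor.threeJ3 F ω) ≤ χ.ker := by
    intro c hc
    have hcom : ∀ g ∈ χ.range, Commute (χ c) g := by
      rintro _ ⟨d, rfl⟩
      exact (show Commute c d from (Subgroup.mem_center_iff.1 hc d).symm).map χ
    have hcl : ∀ l, l < 12 → Commute (χ c) (K.letters n goodVar l) := fun l hl =>
      hcom _ (memlet ⟨l, hl⟩)
    have hz : χ c ∈ Cz z := by
      refine mem_Cz.2 ?_
      have h := hcl 0 (by norm_num)
      rwa [Coord.letters, if_pos (by norm_num), show codeC 0 = eOf 1 from rfl,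
        show K.ev (eOf 1) = z from K.el_one] at h
    obtain ⟨y, hy, hyc⟩ := K.exists_ev hz
    have hy2 : y = coneC ∨ y = zC := central_code y hy (fun l => by
      have h := hcl l.val (by omega)
      rw [Coord.letters, if_pos l.2, hyc] at h
      exact (K.ev_commute_iff hy (codeC_ok l.val l.2).1).1 h)
    have h3 : c ^ 3 = 1 := by
      have h := congrArg Subtype.val (pow_card_eq_one' (x := (⟨c, hc⟩ : Subgroup.center _)))
      rwa [SubgroupClass.coe_pow, card_center hω hF] at h
    rw [MonoidHom.mem_ker]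
    rcases hy2 with rfl | rfl
    · rw [hyc, K.ev_one]
    · exfalso
      have h := congrArg χ h3
      rw [map_pow, map_one, hyc, K.ev_zC, pow_succ, pow_two, K.zz, one_mul] at h
      exact K.ne h
  let χ' : Cfsg.Spor.J3 F ω →* G := QuotientGroup.lift _ χ hker
  haveI := isSimpleGroup_J3 hω hF
  have hinj : Function.Injective χ' := by
    rw [← MonoidHom.ker_eq_bot_iff]
    rcases IsSimpleGroup.eq_bot_or_eq_top_of_normal χ'.ker inferInstance with h | h
    · exact h
    · exfalso
      obtain ⟨d, hd⟩ := memlet 0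
      have h1 : χ' (d : Cfsg.Spor.J3 F ω) = 1 := by
        rw [← MonoidHom.mem_ker, h]; exact Subgroup.mem_top _
      rw [show χ' (d : Cfsg.Spor.J3 F ω) = χ d from rfl, hd] at h1
      have h0 : K.el 1 = 1 := by simpa [Coord.letters, codeC, Coord.el] using h1
      exact K.ne (K.el_one ▸ h0)
  let em : Cfsg.Spor.J3 F ω ≃* χ'.range := MonoidHom.ofInjective hinj
  refine ⟨χ'.range, ⟨F, inferInstance, inferInstance, ω, hF, hω, ⟨em.symm⟩⟩, ?_, fun l => ?_⟩
  · rw [← Nat.card_congr em.toEquiv, card_J3 hω hF]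
  · by_cases hl : l < 12
    · obtain ⟨d, hd⟩ := memlet ⟨l, hl⟩
      exact ⟨(d : Cfsg.Spor.J3 F ω), hd⟩
    · rw [Coord.letters, if_neg (by omega), if_neg (by omega), if_neg]
      · exact one_mem _
      · intro h
        simp only [lettersG, List.mem_cons, List.mem_nil_iff, or_false] at h
        omega

end NX

end Cfsg.Lib.J3Type
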