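import Cfsg.Agent.J3Type.Embedded
import Cfsg.Agent.J3Type.Coords
import Cfsg.Agent.LocalThree.HallJankoType.Glue

/-!
Uniqueness of the third Janko group from the centralizer of an involution.
-/

set_option autoImplicit false
set_option linter.unusedSectionVars false
set_option synthInstance.maxSize 1000

namespace Cfsg.Lib.J3Type

open Subgroup Equiv Cfsg.Lib.HallJankoType

universe u

variable {G : Type u} [Group G] [Finite G]

/-- Data and one class of involutions give the good gluing. -/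
theorem exists_setup {z : G} {Q : Subgroup G} {a : Fin 5 → G} {σ : Cz z →* Perm (Fin 5)} (D : Data z Q a σ)
    (hone : ∀ x y : G, orderOf x = 2 → orderOf y = 2 → IsConj x y) :
    ∃ (a' : Fin 5 → G) (ρ : P5 → G) (K : Coord z a' ρ) (n x : G), NX K n x 2 := by
  obtain ⟨a', ρ, K⟩ := exists_coord D hone
  obtain ⟨n, x, X⟩ := K.exists_good hone
  exact ⟨a', ρ, K, n, x, X⟩

/-- The centralizer determines the group. -/
theorem iso_of_centralizer {t : G} (ht : orderOf t = 2) (Q : Subgroup (Cz t)) [Q.Normal]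
    (hQ : Cfsg.IsExtraspecial 2 Q) (hcard : Nat.card Q = 32) (h2c : centralizer (Q : Set (Cz t)) ≤ Q)
    (e : (Cz t) ⧸ Q ≃* alternatingGroup (Fin 5))
    (hone : ∀ x y : G, orderOf x = 2 → orderOf y = 2 → IsConj x y) : Cfsg.Spor.IsoJ3 G := by
  obtain ⟨a, σ, D⟩ := exists_data_of_cen ht Q h2c hQ (by rw [hcard]; norm_num)
    (e.toMonoidHom.comp (QuotientGroup.mk' Q)) (e.surjective.comp (QuotientGroup.mk'_surjective Q)) (by
      ext c
      rw [MonoidHom.mem_ker]
      show e (c : (Cz t) ⧸ Q) = 1 ↔ _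
      rw [MulEquiv.map_eq_one_iff, QuotientGroup.eq_one_iff])
  obtain ⟨a', ρ, K, n, x, X⟩ := exists_setup D hone
  exact X.iso_j3 hone

/-- The order of a group isomorphic to the model. -/
theorem card_of_iso (h : Cfsg.Spor.IsoJ3 G) : Nat.card G = 50232960 := by
  obtain ⟨F, _, _, ω, hF, hω, ⟨e⟩⟩ := h
  haveI : CharP F 2 := Cfsg.Lib.Spor.J3.charP_two_of_card_four hF
  rw [Nat.card_congr e.toEquiv, Cfsg.Lib.Spor.J3.card_J3 hω hF]

end Cfsg.Lib.J3Type
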