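import Cfsg.Agent.LocalThree.HallJankoType.Involutions
import Cfsg.Agent.CosetCert.Basic

/-!
Coordinates on the centralizer of an involution in a group of third Janko type: five points generating an
extraspecial group of order 32 and even permutations of them.
-/

set_option autoImplicit false

namespace Cfsg.Lib.J3Type

open Equiv Cfsg.Lib.HallJankoType

/-- the permutations of the five points -/
abbrev P5 := Perm (Fin 5)

/-- coordinates on `Q`: the central bit and the bits of the first four points -/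
abbrev QC := Bool × Bool × Bool × Bool × Bool

/-- multiply by a point -/
def qpt : QC → Fin 5 → QC
  | (e, b0, b1, b2, b3), 0 => (e ^^ b1 ^^ b2 ^^ b3, !b0, b1, b2, b3)
  | (e, b0, b1, b2, b3), 1 => (e ^^ b2 ^^ b3, b0, !b1, b2, b3)
  | (e, b0, b1, b2, b3), 2 => (e ^^ b3, b0, b1, !b2, b3)
  | (e, b0, b1, b2, b3), 3 => (e, b0, b1, b2, !b3)
  | (e, b0, b1, b2, b3), 4 => (e ^^ b1 ^^ b3, !b0, !b1, !b2, !b3)

/-- multiply by a power of a point -/
def qbp (q : QC) (i : Fin 5) (b : Bool) : QC := if b then qpt q i else q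

/-- multiply by the central bit -/
def qz (q : QC) (e : Bool) : QC := (q.1 ^^ e, q.2)

/-- the product in `Q` -/
def qmul (q q' : QC) : QC :=
  qbp (qbp (qbp (qbp (qz q q'.1) 0 q'.2.1) 1 q'.2.2.1) 2 q'.2.2.2.1) 3 q'.2.2.2.2

/-- the trivial coordinates -/
def qone : QC := (false, false, false, false, false)

/-- the action of a permutation -/
def qact (π : P5) (q : QC) : QC :=
  qbp (qbp (qbp (qbp (qz qone q.1) (π 0) q.2.1) (π 1) q.2.2.1) (π 2) q.2.2.2.1) (π 3) q.2.2.2.2

/-- coordinates on the centralizer -/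
abbrev MC := QC × P5

/-- the product -/
def cmulC (x y : MC) : MC := (qmul x.1 (qact x.2 y.1), x.2 * y.2)

/-- the unit -/
def coneC : MC := (qone, 1)

/-- the inverse on `Q` -/
def qinv (q : QC) : QC := qz q (qmul q q).1

/-- the inverse -/
def cinvC (x : MC) : MC := (qact x.2⁻¹ (qinv x.1), x.2⁻¹)

/-- the value of a list -/
def cprod : List MC → MC
  | [] => coneC
  | x :: l => cmulC x (cprod l)

/-- conjugation -/
def cconj (x y : MC) : MC := cmulC (cmulC x y) (cinvC x)

theorem qmul_qinv : ∀ q : QC, qmul q (qinv q) = qone ∧ qmul (qinv q) q = qone := by decide +kernel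

theorem qact_inv : ∀ π : P5, Perm.sign π = 1 → ∀ q : QC, qact π (qact π⁻¹ q) = q := by decide +kernel

theorem qsep : ∀ q : QC, q = qone ∨ q = qz qone true ∨
    ∃ j : Fin 5, qmul q (qpt qone j) = qz (qmul (qpt qone j) q) true := by decide +kernel

/-- a point as coordinates -/
theorem qpt_one : ∀ j : Fin 5, qpt qone j = qbp qone j true := by decide +kernel

variable {G : Type*} [Group G]

/-- the value of coordinates in `Q` -/
def qev (z : G) (a : Fin 5 → G) (q : QC) : G :=
  bp z q.1 * bp (a 0) q.2.1 * bp (a 1) q.2.2.1 * bp (a 2) q.2.2.2.1 * bp (a 3) q.2.2.2.2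

/-- five involutions generating an extraspecial group -/
structure Pts (z : G) (a : Fin 5 → G) : Prop where
  zz : z * z = 1
  ne : z ≠ 1
  sq : ∀ i, a i * a i = 1
  zc : ∀ i, Commute z (a i)
  anti : ∀ i j, i ≠ j → a j * a i = z * (a i * a j)
  prod : a 4 = a 0 * a 1 * a 2 * a 3

/-- the coordinates describe the centralizer of `z` -/
structure Coord (z : G) (a : Fin 5 → G) (ρ : P5 → G) : Prop extends Pts z a where
  mul : ∀ π π' : P5, Perm.sign π = 1 → Perm.sign π' = 1 → ρ (π * π') = ρ π * ρ π'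
  conj : ∀ π : P5, Perm.sign π = 1 → ∀ i, ρ π * a i * (ρ π)⁻¹ = a (π i)
  rz : ∀ π : P5, Perm.sign π = 1 → Commute (ρ π) z
  surj : ∀ c ∈ Cz z, ∃ q π, Perm.sign π = 1 ∧ c = qev z a q * ρ π
  perm : ∀ π : P5, Perm.sign π = 1 → ∀ q : QC, ρ π = qev z a q → π = 1

namespace Pts

variable {z : G} {a : Fin 5 → G} (K : Pts z a)
include K

omit K in
theorem qev_one : qev z a qone = 1 := by simp [qev, qone, bp]

theorem bz (q : QC) : Commute z (qev z a q) := by
  have h : ∀ (x : G) (b : Bool), Commute z x → Commute z (bp x b) := fun x b hx => by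
    cases b
    · exact Commute.one_right _
    · exact hx
  exact ((((h z q.1 (Commute.refl z)).mul_right (h _ _ (K.zc 0))).mul_right (h _ _ (K.zc 1))).mul_right
    (h _ _ (K.zc 2))).mul_right (h _ _ (K.zc 3))

theorem qev_z (q : QC) (e : Bool) : qev z a q * bp z e = qev z a (qz q e) := by
  cases e
  · simp [bp, qz]
  · rw [show bp z true = z from rfl, ← (K.bz q).eq]
    obtain ⟨e', b0, b1, b2, b3⟩ := q
    cases e' <;> simp [qev, qz, bp, ← mul_assoc, K.zz]

theorem step {i j : Fin 5} (h : i ≠ j) (b : Bool) : bp (a i) b * a j = bp z b * (a j * bp (a i) b) := by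
  cases b
  · simp [bp]
  · exact K.anti j i h.symm

theorem last (i : Fin 5) (b : Bool) : bp (a i) b * a i = bp (a i) (!b) := by
  cases b <;> simp [bp, K.sq]

theorem zb (i : Fin 5) (b c : Bool) : bp (a i) b * bp z c = bp z c * bp (a i) b := by
  cases b <;> cases c <;> simp [bp, (K.zc i).eq]

theorem zmerge (x y : Bool) : bp z x * bp z y = bp z (x ^^ y) := by cases x <;> cases y <;> simp [bp, K.zz]

theorem shift {i j : Fin 5} (h : i ≠ j) (b c : Bool) (P : G) :
    bp (a i) b * (bp z c * (a j * P)) = bp z (b ^^ c) * (a j * (bp (a i) b * P)) := by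
  rw [← mul_assoc (bp (a i) b), K.zb, mul_assoc, ← mul_assoc (bp (a i) b), K.step h, mul_assoc, ← mul_assoc,
    K.zmerge, mul_assoc, Bool.xor_comm c b]

theorem land (i : Fin 5) (b c : Bool) (P : G) :
    bp (a i) b * (bp z c * (a i * P)) = bp z c * (bp (a i) (!b) * P) := by
  rw [← mul_assoc (bp (a i) b), K.zb, mul_assoc, ← mul_assoc (bp (a i) b), K.last]

theorem pass (i : Fin 5) (b c : Bool) (P : G) : bp (a i) b * (bp z c * P) = bp z c * (bp (a i) b * P) := by
  rw [← mul_assoc, K.zb, mul_assoc]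

theorem qev_low (q : QC) {j : Fin 5} (hj : j ≠ 4) : qev z a q * a j = qev z a (qpt q j) := by
  obtain ⟨e, b0, b1, b2, b3⟩ := q
  have hstart : qev z a (e, b0, b1, b2, b3) * a j = bp z e * (bp (a 0) b0 * (bp (a 1) b1 *
      (bp (a 2) b2 * (bp (a 3) b3 * (bp z false * (a j * 1)))))) := by
    simp [qev, mul_assoc, show bp z false = 1 from rfl]
  rw [hstart]
  have hc : ∀ (c : Bool) (P : G), bp z e * (bp z c * P) = bp z (e ^^ c) * P := fun c P => by
    rw [← mul_assoc, K.zmerge]
  fin_cases j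
  · simp only [Fin.zero_eta, Fin.isValue]
    rw [K.shift (i := 3) (by decide), K.shift (i := 2) (by decide), K.shift (i := 1) (by decide), K.land 0, hc]
    simp [qev, qpt, mul_assoc]
  · simp only [Fin.mk_one, Fin.isValue]
    rw [K.shift (i := 3) (by decide), K.shift (i := 2) (by decide), K.land 1, K.pass 0, hc]
    simp [qev, qpt, mul_assoc]
  · simp only [Fin.reduceFinMk, Fin.isValue]
    rw [K.shift (i := 3) (by decide), K.land 2, K.pass 1, K.pass 0, hc]
    simp [qev, qpt, mul_assoc]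
  · simp only [Fin.reduceFinMk, Fin.isValue]
    rw [K.land 3, K.pass 2, K.pass 1, K.pass 0, hc]
    simp [qev, qpt, mul_assoc]
  · exact absurd rfl hj

theorem qev_pt (q : QC) (j : Fin 5) : qev z a q * a j = qev z a (qpt q j) := by
  by_cases hj : j = 4
  · subst hj
    rw [K.prod, ← mul_assoc, ← mul_assoc, ← mul_assoc, K.qev_low q (by decide), K.qev_low _ (by decide),
      K.qev_low _ (by decide), K.qev_low _ (by decide)]
    congr 1
    revert q
    decide +kernel
  · exact K.qev_low q hj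

theorem qev_bp (q : QC) (j : Fin 5) (b : Bool) : qev z a q * bp (a j) b = qev z a (qbp q j b) := by
  cases b
  · simp [bp, qbp]
  · exact K.qev_pt q j

theorem qev_mul (q q' : QC) : qev z a q * qev z a q' = qev z a (qmul q q') := by
  conv_lhs => arg 2; rw [qev]
  simp only [← mul_assoc, K.qev_z, K.qev_bp]
  rfl

theorem qev_inj {q : QC} (h : qev z a q = 1) : q = qone := by
  rcases qsep q with e | e | ⟨j, hj⟩
  · exact e
  · subst e
    exact absurd (by simpa [qev, qz, qone, bp] using h) K.ne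
  · have h1 := congrArg (qev z a) hj
    rw [← K.qev_mul, ← K.qev_z, ← K.qev_mul, h, one_mul, mul_one] at h1
    exact absurd (mul_eq_left.1 h1.symm) K.ne

end Pts

namespace Coord

variable {z : G} {a : Fin 5 → G} {ρ : P5 → G} (K : Coord z a ρ)
include K

/-- the value of coordinates -/
def ev (x : MC) : G :=
  let _ := K
  qev z a x.1 * ρ x.2

theorem ev_eq (x : MC) : K.ev x = qev z a x.1 * ρ x.2 := rfl

theorem one : ρ 1 = 1 := by
  have := K.mul 1 1 (map_one _) (map_one _)
  rw [one_mul] at this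
  exact mul_eq_left.1 this.symm

theorem qev_act {π : P5} (h : Perm.sign π = 1) (q : QC) :
    ρ π * qev z a q * (ρ π)⁻¹ = qev z a (qact π q) := by
  have hb : ∀ i b, MulAut.conj (ρ π) (bp (a i) b) = bp (a (π i)) b := fun i b => by
    cases b
    · simp [bp]
    · exact K.conj π h i
  have hz : MulAut.conj (ρ π) (bp z q.1) = qev z a qone * bp z q.1 := by
    rw [Pts.qev_one, one_mul]
    cases q.1
    · simp [bp]
    · show ρ π * z * (ρ π)⁻¹ = z
      rw [(K.rz π h).eq, mul_inv_cancel_right]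
  show MulAut.conj (ρ π) (qev z a q) = _
  conv_lhs => rw [qev]
  simp only [map_mul, hb, hz, K.qev_z, K.qev_bp]
  rfl

theorem ev_mul {x y : MC} (hx : Perm.sign x.2 = 1) (hy : Perm.sign y.2 = 1) :
    K.ev x * K.ev y = K.ev (cmulC x y) := by
  show qev z a x.1 * ρ x.2 * (qev z a y.1 * ρ y.2) = qev z a (qmul x.1 (qact x.2 y.1)) * ρ (x.2 * y.2)
  rw [← K.qev_mul, ← K.qev_act hx, K.mul _ _ hx hy]
  group

theorem ev_one : K.ev coneC = 1 := by rw [ev_eq, show coneC.1 = qone from rfl,  Pts.qev_one, one_mul]; exact K.one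

theorem ev_inv {x : MC} (hx : Perm.sign x.2 = 1) : (K.ev x)⁻¹ = K.ev (cinvC x) := by
  refine inv_eq_of_mul_eq_one_right ?_
  rw [K.ev_mul hx (by show Perm.sign x.2⁻¹ = 1; rw [map_inv, hx, inv_one])]
  show K.ev (qmul x.1 (qact x.2 (qact x.2⁻¹ (qinv x.1))), x.2 * x.2⁻¹) = 1
  rw [qact_inv _ hx, (qmul_qinv _).1, mul_inv_cancel]
  exact K.ev_one

theorem ev_mem {x : MC} (hx : Perm.sign x.2 = 1) : K.ev x ∈ Cz z :=
  mem_Cz.2 ((K.bz x.1).symm.mul_left (K.rz _ hx))

theorem ev_inj {x y : MC} (hx : Perm.sign x.2 = 1) (hy : Perm.sign y.2 = 1) (h : K.ev x = K.ev y) : x = y := by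
  have hi : Perm.sign y.2⁻¹ = 1 := by rw [map_inv, hy, inv_one]
  have h1 : K.ev (cmulC x (cinvC y)) = 1 := by
    rw [← K.ev_mul hx hi, ← K.ev_inv hy, h, mul_inv_cancel]
  have hs : Perm.sign (x.2 * y.2⁻¹) = 1 := by rw [map_mul, hx, hi, one_mul]
  rw [ev_eq, show (cmulC x (cinvC y)).2 = x.2 * y.2⁻¹ from rfl,
    show (cmulC x (cinvC y)).1 = qmul x.1 (qact x.2 (qact y.2⁻¹ (qinv y.1))) from rfl] at h1
  have h2 := K.perm _ hs (qinv (qmul x.1 (qact x.2 (qact y.2⁻¹ (qinv y.1))))) (by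
    rw [eq_inv_of_mul_eq_one_right h1]
    exact inv_eq_of_mul_eq_one_right (by rw [K.qev_mul, (qmul_qinv _).1,  Pts.qev_one]))
  rw [h2, K.one, mul_one] at h1
  have hxy : x.2 = y.2 := mul_inv_eq_one.1 h2
  have h3 := K.qev_inj h1
  rw [hxy, qact_inv _ hy] at h3
  refine Prod.ext ?_ hxy
  have h4 := congrArg (qev z a) h3
  rw [← K.qev_mul,  Pts.qev_one, ← inv_eq_of_mul_eq_one_right (show qev z a y.1 * qev z a (qinv y.1) = 1 by
    rw [K.qev_mul, (qmul_qinv _).1,  Pts.qev_one]), mul_inv_eq_one] at h4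
  have h5 : qev z a (qmul x.1 (qinv y.1)) = 1 := by
    rw [← K.qev_mul, h4, K.qev_mul, (qmul_qinv _).1,  Pts.qev_one]
  exact qinv_cancel (K.qev_inj h5)
where
  qinv_cancel {p q : QC} (h : qmul p (qinv q) = qone) : p = q := by
    revert h
    revert p q
    decide +kernel

theorem exists_ev {c : G} (hc : c ∈ Cz z) : ∃ x : MC, Perm.sign x.2 = 1 ∧ c = K.ev x := by
  obtain ⟨q, π, hπ, e⟩ := K.surj c hc
  exact ⟨(q, π), hπ, e⟩

theorem ev_conj {x y : MC} (hx : Perm.sign x.2 = 1) (hy : Perm.sign y.2 = 1) :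
    K.ev x * K.ev y * (K.ev x)⁻¹ = K.ev (cconj x y) := by
  rw [K.ev_inv hx, K.ev_mul hx hy, K.ev_mul (show Perm.sign (x.2 * y.2) = 1 by rw [map_mul, hx, hy, one_mul])
    (show Perm.sign x.2⁻¹ = 1 by rw [map_inv, hx, inv_one])]
  rfl

theorem ev_commute_iff {x y : MC} (hx : Perm.sign x.2 = 1) (hy : Perm.sign y.2 = 1) :
    Commute (K.ev x) (K.ev y) ↔ cmulC x y = cmulC y x := by
  constructor
  · intro h
    refine K.ev_inj (show Perm.sign (x.2 * y.2) = 1 by rw [map_mul, hx, hy, one_mul])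
      (show Perm.sign (y.2 * x.2) = 1 by rw [map_mul, hy, hx, one_mul]) ?_
    rw [← K.ev_mul hx hy, ← K.ev_mul hy hx]
    exact h
  · intro h
    show K.ev x * K.ev y = K.ev y * K.ev x
    rw [K.ev_mul hx hy, K.ev_mul hy hx, h]

open Cfsg.Lib.CosetCert in
/-- a word in letters with known coordinates -/
theorem wval_ev {f : ℕ → G} {cv : ℕ → MC} {S : List ℕ}
    (hf : ∀ l ∈ S, Perm.sign (cv l).2 = 1 ∧ f l = K.ev (cv l)) :
    ∀ w : List ℕ, (∀ l ∈ w, l ∈ S) → Perm.sign (cprod (w.map cv)).2 = 1 ∧ wval f w = K.ev (cprod (w.map cv))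
  | [], _ => ⟨by simp [cprod, coneC], by simp [wval, cprod, K.ev_one]⟩
  | l :: w, h => by
    obtain ⟨h1, h2⟩ := wval_ev hf w fun x hx => h x (List.mem_cons_of_mem _ hx)
    obtain ⟨h3, h4⟩ := hf l (h l List.mem_cons_self)
    refine ⟨?_, ?_⟩
    · show Perm.sign ((cv l).2 * (cprod (w.map cv)).2) = 1
      rw [map_mul, h3, h1, one_mul]
    · show ((l :: w).map f).prod = _
      rw [List.map_cons, List.prod_cons, show (w.map f).prod = wval f w from rfl, h2, h4, K.ev_mul h3 h1]
      rfl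

end Coord

end Cfsg.Lib.J3Type
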