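import Cfsg.Agent.J3Type.Main
import Cfsg.Agent.J3Type.Derived
import Cfsg.Agent.LocalThree.HallJankoType.Iso.Simple
import Cfsg.Agent.LocalThree.HallJankoType.Exclude
import Cfsg.Prelude.Def_Sporadic

/-!
The orders of the simple groups with the centralizer of Janko type.
-/

set_option autoImplicit false
set_option linter.unusedSectionVars false
set_option linter.style.haveILetI false

namespace Cfsg.Lib.J3Type

open Subgroup Equiv Cfsg.Lib.HallJankoType

universe u

variable {G : Type u} [Group G] [Finite G]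

/-- One class of involutions makes every involution central in a Sylow subgroup. -/
theorem twoCentral_of_one_class {t : G} (ht : orderOf t = 2)
    (hone : ∀ x y : G, orderOf x = 2 → orderOf y = 2 → IsConj x y) : Cfsg.IsTwoCentralInvolution t := by
  classical
  haveI : Fact (Nat.Prime 2) := ⟨Nat.prime_two⟩
  have hI : IsPGroup 2 (zpowers t) := IsPGroup.of_card (n := 1) (by rw [Nat.card_zpowers, ht, pow_one])
  obtain ⟨P, hP⟩ := hI.exists_le_sylow
  haveI : Nontrivial (P : Subgroup G) :=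
    ⟨⟨⟨t, hP (mem_zpowers t)⟩, 1, fun e => by
      have e' : t = 1 := congrArg Subtype.val e
      rw [e', orderOf_one] at ht
      omega⟩⟩
  haveI hnt := P.isPGroup'.center_nontrivial
  have h2 : 2 ∣ Nat.card (center (P : Subgroup G)) := by
    obtain ⟨m, hm⟩ := IsPGroup.iff_card.1 (P.isPGroup'.to_subgroup (center (P : Subgroup G)))
    rw [hm]
    refine dvd_pow_self 2 fun h0 => ?_
    rw [h0, pow_zero] at hm
    exact absurd hm (Finite.one_lt_card).ne'
  obtain ⟨c, hc⟩ := exists_prime_orderOf_dvd_card' 2 h2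
  have hco : orderOf ((c : (P : Subgroup G)) : G) = 2 := by rw [Subgroup.orderOf_coe, Subgroup.orderOf_coe, hc]
  obtain ⟨g, hg⟩ := isConj_iff.1 (hone _ t hco ht)
  refine ⟨ht, g • P, ?_, fun x hx => ?_⟩
  · show t ∈ ((g • P : Sylow 2 G) : Subgroup G)
    rw [Sylow.coe_subgroup_smul]
    exact ⟨_, (c : (P : Subgroup G)).2, hg⟩
  · replace hx : x ∈ ((g • P : Sylow 2 G) : Subgroup G) := hx
    rw [Sylow.coe_subgroup_smul] at hx
    obtain ⟨y, hy, rfl⟩ := hx
    have hcy : Commute y ((c : (P : Subgroup G)) : G) := congrArg Subtype.val (mem_center_iff.1 c.2 ⟨y, hy⟩)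
    rw [← hg]
    exact (hcy.map (MulAut.conj g)).eq

/-- One class: the order of the third Janko group. -/
theorem card_j3 [IsSimpleGroup G] {t : G} (ht : orderOf t = 2) (Q : Subgroup (Cz t)) [Q.Normal]
    (hQ : Cfsg.IsExtraspecial 2 Q) (hcard : Nat.card Q = 32) (e : (Cz t) ⧸ Q ≃* alternatingGroup (Fin 5))
    (hone : ∀ x y : G, orderOf x = 2 → orderOf y = 2 → IsConj x y) : Cfsg.IsJ3 G :=
  ⟨inferInstance, card_of_iso (iso_of_centralizer ht Q hQ hcard
    (centralizer_le (twoCentral_of_one_class ht hone) Q hQ hcard e) e hone)⟩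

/-- The dichotomy of orders. -/
theorem j2_or_j3 [IsSimpleGroup G] {t : G} (ht : Cfsg.IsTwoCentralInvolution t) (Q : Subgroup (Cz t)) [Q.Normal]
    (hQ : Cfsg.IsExtraspecial 2 Q) (hcard : Nat.card Q = 32) (e : (Cz t) ⧸ Q ≃* alternatingGroup (Fin 5)) :
    Cfsg.IsJ2 G ∨ Cfsg.IsJ3 G := by
  by_cases hone : ∀ x y : G, orderOf x = 2 → orderOf y = 2 → IsConj x y
  · exact Or.inr (card_j3 ht.1 Q hQ hcard e hone)
  push Not at hone
  obtain ⟨x, y, hx, hy, hxy⟩ := hone
  obtain ⟨a, σ, H⟩ := exists_hyp_of_simple ht.1 Q hQ hcard (centralizer_le ht Q hQ hcard e) e ⟨x, y, hx, hy, hxy⟩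
  obtain ⟨u, hu⟩ := H.exists_outer
  exact Or.inl ⟨inferInstance, (H.card_eq hu).1⟩

end Cfsg.Lib.J3Type
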