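import Cfsg.Agent.LocalThree.DihedralEightGeneral
import Cfsg.Agent.Components.Cores

/-!
Five involutions of a group with dihedral centralizer of order eight, two of which are exchanged by an automorphism:
the group is `A₆` and one of two relations holds.
-/

set_option autoImplicit false
set_option linter.unusedSectionVars false
set_option synthInstance.maxSize 1000

namespace Cfsg.Lib.J3Type

open Subgroup Equiv

/-- the relations of an icosahedral triple -/
def icos {M : Type*} [Monoid M] (a b n : M) : Prop :=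
  (a * n) ^ 5 = 1 ∧ (b * n) ^ 5 = 1 ∧ (a * b * n) ^ 3 = 1 ∧ a * n ≠ n * a ∧ b * n ≠ n * b

/-- the relation selecting a letter -/
def sixRel {M : Type*} [Monoid M] (a b n v : M) : M := a * n * b * n * v * n * a * n * b * n * v * n

/-- the two outcomes -/
def sixGoal {M : Type*} [Monoid M] (a b n v p : M) : Prop :=
  (sixRel a b n v = 1 ∧ (p = b * v * n * v * b ∨ p = a * (b * v * n * v * b) * a)) ∨
    (sixRel a b n (v * a) = 1 ∧ (p = n ∨ p = a * n * a))

/-- the fifteen pairs of points -/
def pairs6 : List (Fin 6 × Fin 6) :=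
  (List.finRange 6).flatMap fun i => ((List.finRange 6).filter fun j => decide (i < j)).map fun j => (i, j)

/-- double transpositions -/
def invs6 : List (Perm (Fin 6)) :=
  pairs6.flatMap fun p => (pairs6.filter fun q =>
    decide (p.1 < q.1 ∧ p.2 ≠ q.1 ∧ p.2 ≠ q.2)).map fun q => swap p.1 p.2 * swap q.1 q.2

/-- the fixed double transposition -/
def t06 : Perm (Fin 6) := swap 0 1 * swap 2 3

theorem mem_invs6 : ∀ π : Perm (Fin 6), Perm.sign π = 1 → π * π = 1 → π ≠ 1 → π ∈ invs6 := by decide +kernel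

theorem invs6_conj : ∀ π ∈ invs6, ∃ g : Perm (Fin 6), g * π * g⁻¹ = t06 := by decide +kernel

/-- the icosahedral test -/
def icosB (a b n : Perm (Fin 6)) : Bool :=
  decide ((a * n) ^ 5 = 1) && decide ((b * n) ^ 5 = 1) && decide ((a * b * n) ^ 3 = 1) &&
    decide (a * n ≠ n * a) && decide (b * n ≠ n * b)

/-- the search -/
def searchB : Bool :=
  let a := t06
  (invs6.filter fun b => decide (a * b = b * a) && decide (b ≠ a)).all fun b =>
    (invs6.filter fun n => icosB a b n).all fun n =>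
      (invs6.filter fun v => decide (a * v = v * a) && decide (v * b * (v * b) = a)).all fun v =>
        (invs6.filter fun p => icosB a (a * v) p &&
          [2, 3, 4, 5].all fun k => decide ((n * v * p) ^ k = 1) == decide ((p * (a * b) * n) ^ k = 1)).all fun p =>
            (decide (sixRel a b n v = 1) &&
              (decide (p = b * v * n * v * b) || decide (p = a * (b * v * n * v * b) * a))) ||
            (decide (sixRel a b n (v * a) = 1) && (decide (p = n) || decide (p = a * n * a)))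

theorem searchB_ok : searchB = true := by decide +kernel

theorem five_even : ∀ b v : Perm (Fin 5), Perm.sign b = 1 → Perm.sign v = 1 → v * b * (v * b) ≠ 1 →
    (v * b * (v * b)) * (v * b * (v * b)) = 1 → False := by decide +kernel

theorem prime_order {M : Type*} [Group M] {x : M} {p : ℕ} (hp : p.Prime) (h : x ^ p = 1) (h1 : x ≠ 1) :
    orderOf x = p := by
  haveI := Fact.mk hp
  exact orderOf_eq_prime h h1

variable {H : Type*} [Group H] [Finite H]

/-- The group is `A₆`. -/
theorem iso_alt_six {A B N V P : H} (hA : A * A = 1) (hB : B * B = 1) (hV : V * V = 1)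
    (hA1 : A ≠ 1) (hB1 : B ≠ 1) (hAB : A * B = B * A) (hAV : A * V = V * A) (hVB : V * B * (V * B) = A)
    (hN : icos A B N) (hP : icos A (A * V) P) (hC : Nat.card (centralizer ({A} : Set H)) = 8)
    (hmem : ∀ c ∈ centralizer ({A} : Set H), c = 1 ∨ c = V * B ∨ c = A ∨ c = (V * B)⁻¹ ∨ c = B ∨ c = B * (V * B) ∨
      c = B * A ∨ c = B * (V * B)⁻¹) :
    Nonempty (H ≃* alternatingGroup (Fin 6)) := by
  classical
  obtain ⟨h1, h2, h3, h4, h5⟩ := hN
  obtain ⟨k1, k2, k3, -, -⟩ := hP
  have hcentral : Commute A B := hAB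
  have hne5 : A * N ≠ 1 := fun e => h4 (by
    rw [eq_inv_of_mul_eq_one_right e]; simp)
  have hD : Cfsg.Lib.DihedralEight.Data A (V * B) B := by
    refine ⟨orderOf_eq_prime (by rw [pow_two, hA]) hA1, hVB, orderOf_eq_prime (by rw [pow_two, hB]) hB1,
      hAB.symm, ?_, hC, hmem⟩
    rw [mul_inv_rev, inv_eq_of_mul_eq_one_left hV, inv_eq_of_mul_eq_one_left hB]
    rw [show B * (V * B) * B = B * V * (B * B) by group, hB, mul_one]
  rcases Cfsg.Lib.DihedralEight.main hD with h | ⟨⟨e⟩⟩ | ⟨⟨e⟩⟩ | ⟨⟨e⟩⟩ | h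
  · exfalso
    set O := Cfsg.oddCore H with hO
    haveI hOn : O.Normal := Cfsg.Lib.Components.pPrimeCore_normal' 2
    set π := QuotientGroup.mk' O with hπ
    set C := centralizer ({A} : Set H) with hCd
    have hsurj : Function.Surjective (π.comp C.subtype) := by
      intro q
      obtain ⟨g, rfl⟩ := QuotientGroup.mk'_surjective O q
      have hg : g ∈ C ⊔ O := h ▸ Subgroup.mem_top g
      obtain ⟨c, hc, o, ho, rfl⟩ := Subgroup.mem_sup_of_normal_right.1 hg
      exact ⟨⟨c, hc⟩, by simp [hπ, ho]⟩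
    have hdvd : ∀ q : H ⧸ O, q ^ 8 = 1 := fun q => by
      obtain ⟨c, rfl⟩ := hsurj q
      rw [← map_pow, ← hC, pow_card_eq_one', map_one]
    have odd1 : ∀ {x : H} {k : ℕ}, Nat.Coprime 8 k → x ^ k = 1 → π x = 1 := fun {x k} hk hx => by
      have h8 : orderOf (π x) ∣ 8 := orderOf_dvd_of_pow_eq_one (hdvd _)
      have hk' : orderOf (π x) ∣ k := orderOf_dvd_of_pow_eq_one (by rw [← map_pow, hx, map_one])
      exact orderOf_eq_one_iff.1 (Nat.eq_one_of_dvd_coprimes hk h8 hk')
    have e1 := odd1 (k := 5) (by norm_num) h1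
    have e2 := odd1 (k := 5) (by norm_num) h2
    have e3 := odd1 (k := 3) (by norm_num) h3
    rw [map_mul] at e1 e2
    rw [map_mul, map_mul, mul_assoc, e2, mul_one] at e3
    have hAO : A ∈ O := (QuotientGroup.eq_one_iff A).1 e3
    have hodd : Nat.Coprime 2 (Nat.card O) := (Cfsg.Lib.Components.coprime_card_pPrimeCore 2).symm
    exact hA1 (orderOf_eq_one_iff.1 (Nat.eq_one_of_dvd_coprimes hodd
      (orderOf_dvd_of_pow_eq_one (by rw [pow_two, hA])) (by
        have := orderOf_dvd_natCard (⟨A, hAO⟩ : O)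
        rwa [← Subgroup.orderOf_coe] at this)))
  · exfalso
    have := prime_order Nat.prime_five h1 hne5 ▸ orderOf_dvd_natCard (A * N)
    rw [Nat.card_congr e.toEquiv, Nat.card_eq_fintype_card, Fintype.card_perm, Fintype.card_fin] at this
    norm_num [Nat.factorial] at this
  · exfalso
    let s : H →* ℤˣ := Perm.sign.comp e.toMonoidHom
    have odd1 : ∀ {x : H} {k : ℕ}, Odd k → x ^ k = 1 → s x = 1 := fun {x k} hk hx => by
      have : s x ^ k = 1 := by rw [← map_pow, hx, map_one]
      rcases Int.units_eq_one_or (s x) with h | h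
      · exact h
      · rw [h, hk.neg_one_pow] at this; exact absurd this (by decide)
    have e1 := odd1 (k := 5) (by decide) h1
    have e2 := odd1 (k := 5) (by decide) h2
    have e3 := odd1 (k := 3) (by decide) h3
    have f1 := odd1 (k := 5) (by decide) k1
    have f2 := odd1 (k := 5) (by decide) k2
    have f3 := odd1 (k := 3) (by decide) k3
    simp only [map_mul] at e1 e2 e3 f1 f2 f3
    have key : ∀ a b n v p : ℤˣ, a * n = 1 → b * n = 1 → a * b * n = 1 → a * p = 1 → a * v * p = 1 →
        b = 1 ∧ v = 1 := by decide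
    obtain ⟨hb, hv⟩ := key _ _ _ _ _ e1 e2 e3 f1 f2
    refine five_even (e B) (e V) hb hv ?_ ?_
    · rw [← map_mul, ← map_mul, hVB]
      simpa using hA1
    · rw [← map_mul, ← map_mul, hVB, ← map_mul, hA, map_one]
  · exfalso
    have := prime_order Nat.prime_five h1 hne5 ▸ orderOf_dvd_natCard (A * N)
    rw [Nat.card_congr e.toEquiv, Nat.card_eq_fintype_card] at this
    revert this
    decide +kernel
  · exact h

/-- The dichotomy. -/
theorem six_dichotomy (φ : H ≃* H) {A B N V P : H} (hA : A * A = 1) (hB : B * B = 1) (hN2 : N * N = 1)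
    (hV : V * V = 1) (hA1 : A ≠ 1) (hB1 : B ≠ 1) (hBA : B ≠ A) (hV1 : V ≠ 1) (hAB : A * B = B * A)
    (hAV : A * V = V * A) (hVB : V * B * (V * B) = A) (hN : icos A B N)
    (hφA : φ A = A) (hφB : φ B = A * V) (hφV : φ V = A * B) (hφN : φ N = P) (hφP : φ P = N)
    (hC : Nat.card (centralizer ({A} : Set H)) = 8)
    (hmem : ∀ c ∈ centralizer ({A} : Set H), c = 1 ∨ c = V * B ∨ c = A ∨ c = (V * B)⁻¹ ∨ c = B ∨ c = B * (V * B) ∨
      c = B * A ∨ c = B * (V * B)⁻¹) :
    sixGoal A B N V P := by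
  classical
  have hP : icos A (A * V) P := by
    obtain ⟨h1, h2, h3, h4, h5⟩ := hN
    rw [← hφA, ← hφN]
    rw [show φ A * V = φ B by rw [hφA, hφB]]
    refine ⟨?_, ?_, ?_, fun e => h4 (φ.injective (by simpa only [map_mul] using e)),
      fun e => h5 (φ.injective (by simpa only [map_mul] using e))⟩
    · rw [← map_mul, ← map_pow, h1, map_one]
    · rw [← map_mul, ← map_pow, h2, map_one]
    · rw [← map_mul, ← map_mul, ← map_pow, h3, map_one]
  have hsym : ∀ k : ℕ, (N * V * P) ^ k = 1 ↔ (P * (A * B) * N) ^ k = 1 := fun k => by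
    rw [← hφV]
    nth_rewrite 2 [← hφP]
    rw [← hφN, ← map_mul, ← map_mul, ← map_pow, MulEquiv.map_eq_one_iff, hφN]
  obtain ⟨e⟩ := iso_alt_six hA hB hV hA1 hB1 hAB hAV hVB hN hP hC hmem
  let i : H →* Perm (Fin 6) := (alternatingGroup (Fin 6)).subtype.comp e.toMonoidHom
  have hi : Function.Injective i := Subtype.val_injective.comp e.injective
  have hsign : ∀ x, Perm.sign (i x) = 1 := fun x => Perm.mem_alternatingGroup.1 (e x).2
  have inv_mem : ∀ {x : H}, x * x = 1 → x ≠ 1 → i x ∈ invs6 := fun {x} h1 h2 =>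
    mem_invs6 _ (hsign x) (by rw [← map_mul, h1, map_one]) fun e' => h2 (hi (e'.trans (map_one i).symm))
  obtain ⟨g, hg⟩ := invs6_conj _ (inv_mem hA hA1)
  let f : H →* Perm (Fin 6) := (MulAut.conj g).toMonoidHom.comp i
  have hf : Function.Injective f := (MulAut.conj g).injective.comp hi
  have fA : f A = t06 := hg
  have mem : ∀ {x : H}, x * x = 1 → x ≠ 1 → f x ∈ invs6 := fun {x} h1 h2 => by
    refine mem_invs6 _ ?_ (by rw [← map_mul, h1, map_one]) fun e' => h2 (hf (e'.trans (map_one f).symm))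
    show Perm.sign (g * i x * g⁻¹) = 1
    rw [map_mul, map_mul, hsign, mul_one, ← map_mul, mul_inv_cancel, map_one]
  have hN1 : N ≠ 1 := fun e' => hN.2.2.2.1 (by rw [e']; simp)
  have hP1 : P ≠ 1 := fun e' => hP.2.2.2.1 (by rw [e']; simp)
  have hP2 : P * P = 1 := by rw [← hφN, ← map_mul, hN2, map_one]
  have hicos : ∀ {b n : H}, icos A b n → icosB t06 (f b) (f n) = true := fun {b n} h => by
    obtain ⟨h1, h2, h3, h4, h5⟩ := h
    simp only [icosB, Bool.and_eq_true, decide_eq_true_eq, ← fA, ← map_mul, ← map_pow, ← map_one f, ne_eq,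
      hf.eq_iff]
    exact ⟨⟨⟨⟨h1, h2⟩, h3⟩, h4⟩, h5⟩
  have hs := searchB_ok
  simp only [searchB, List.all_eq_true, List.mem_filter, Bool.and_eq_true, decide_eq_true_eq, beq_iff_eq,
    Bool.or_eq_true, decide_eq_decide] at hs
  have hic := hicos hP
  rw [map_mul, fA] at hic
  have h := hs (f B) ⟨mem hB hB1, by rw [← fA, ← map_mul, ← map_mul, hAB], by rw [← fA]; exact hf.ne hBA⟩
    (f N) ⟨mem hN2 hN1, hicos hN⟩
    (f V) ⟨mem hV hV1, by rw [← fA, ← map_mul, ← map_mul, hAV],
      by rw [← fA, ← map_mul, ← map_mul, hVB]⟩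
    (f P) ⟨mem hP2 hP1, hic, fun k _ => by
      rw [← fA]
      simp only [← map_mul, ← map_pow, ← map_one f, hf.eq_iff]
      exact hsym k⟩
  rw [← fA] at h
  simp only [sixRel, ← map_mul, ← map_one f, hf.eq_iff] at h
  exact h

end Cfsg.Lib.J3Type
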