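import Cfsg.Agent.J3Type.Bad
import Cfsg.Agent.J3Type.Six

/-!
The centralizer of the element of order three modulo itself, and the relations it gives.
-/

set_option autoImplicit false
set_option linter.unusedSectionVars false
set_option synthInstance.maxSize 1000

namespace Cfsg.Lib.J3Type

open Subgroup Equiv Cfsg.Lib.HallJankoType
open Cfsg.Lib.CosetCert (wval)

/-- the word of the relation selecting `v` or `v s₁` -/
def selWord (sv j : ℕ) : List ℕ :=
  (if sv = 0 then [3, 6, 4, 6, 7, 6, 3, 6, 4, 6, 7, 6] else [3, 6, 4, 6, 7, 3, 6, 3, 6, 4, 6, 7, 3, 6]) ++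
    (List.replicate j [8, 9]).flatten

/-- the word of the relation for the conjugate of `n` -/
def conjWord : ℕ → ℕ → List ℕ
  | 0, 0 => [8, 6, 8, 4, 7, 6, 7, 4]
  | 0, _ => [8, 6, 8, 3, 4, 7, 6, 7, 4, 3]
  | _, 0 => [8, 6, 8, 6]
  | _, _ => [8, 6, 8, 3, 6, 3]

/-- relations used below -/
def smallRels : List (List ℕ) :=
  [[8, 9, 7, 9, 8, 7], [3, 4, 3, 4], [3, 7, 3, 7], [7, 4, 7, 4, 3], [8, 4, 8, 7, 3], [8, 7, 8, 4, 3], [8, 3, 8, 3],
   [3, 6, 3, 6, 3, 6, 3, 6, 3, 6], [4, 6, 4, 6, 4, 6, 4, 6, 4, 6], [3, 4, 6, 3, 4, 6, 3, 4, 6]]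

theorem smallRels_ok : smallRels.all (okRel goodVar) = true := by decide +kernel

/-- the eight elements centralising the first involution -/
def eightWords : List (List ℕ) := [[], [7, 4], [3], [4, 7], [4], [4, 7, 4], [4, 3], [7]]

theorem eight_cover : ∀ y : MC, EvenC y →
    cmulC y (cmulC goodVar.j goodVar.k) = cmulC (cmulC goodVar.j goodVar.k) y →
    ∃ w ∈ eightWords, ∃ w' ∈ [[], [8, 9], [8, 9, 8, 9]], cprod ((w ++ w').map (codeG goodVar)) = y := by
  decide +kernel

/-- the three tails -/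
def tails : List (List ℕ) := [[], [8, 9], [8, 9, 8, 9]]

theorem eight_sep_ok : ((List.range 8).all fun i => (List.range 8).all fun j => (i == j) || tails.all fun w' =>
    decide (cprod ((eightWords.getD i []).map (codeG goodVar)) ≠
      cprod (((eightWords.getD j []) ++ w').map (codeG goodVar)))) = true := by decide +kernel

theorem eight_letters_ok : (eightWords.all fun w => tails.all fun w' => (w ++ w').all fun l => lettersG.contains l) =
    true := by decide +kernel

theorem eight_sep (i j : Fin 8) (h : i ≠ j) (w' : List ℕ) (hw : w' ∈ [[], [8, 9], [8, 9, 8, 9]]) :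
    cprod ((eightWords.getD i.val []).map (codeG goodVar)) ≠
      cprod (((eightWords.getD j.val []) ++ w').map (codeG goodVar)) := by
  have h1 := eight_sep_ok
  simp only [List.all_eq_true, Bool.or_eq_true, beq_iff_eq, decide_eq_true_eq, List.mem_range] at h1
  exact ((h1 i.val i.2 j.val j.2).resolve_left fun e => h (Fin.ext e)) w' hw

theorem eight_letters (w : List ℕ) (hw : w ∈ eightWords) (w' : List ℕ) (hw' : w' ∈ [[], [8, 9], [8, 9, 8, 9]])
    (l : ℕ) (hl : l ∈ w ++ w') : l ∈ lettersG := by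
  have h1 := eight_letters_ok
  simp only [List.all_eq_true, List.contains_iff_mem] at h1
  exact h1 w hw w' hw' l hl

theorem letters_ne : cprod ([4, 3].map (codeG goodVar)) ≠ coneC ∧ codeG goodVar 3 ≠ coneC ∧
    codeG goodVar 4 ≠ coneC ∧ codeG goodVar 7 ≠ coneC := by decide +kernel

theorem an_move_ok : (∃ m, s1Mat (nMat (s1Mat (nMat m))) ≠ m) ∧ (∃ m, s1Mat (nMat (s1Mat (nMat m))) ≠ xMat m) ∧
    ∃ m, s1Mat (nMat (s1Mat (nMat m))) ≠ xMat (xMat m) := by decide +kernel

theorem an_move (g : Fin 16 → Fin 16) (hg : g ∈ [id, xMat, fun m => xMat (xMat m)]) :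
    ∃ m, s1Mat (nMat (s1Mat (nMat m))) ≠ g m := by
  simp only [List.mem_cons, List.mem_nil_iff, or_false] at hg
  rcases hg with rfl | rfl | rfl
  exacts [an_move_ok.1, an_move_ok.2.1, an_move_ok.2.2]

theorem bn_move_ok : (∃ m, s2Mat (nMat (s2Mat (nMat m))) ≠ m) ∧ (∃ m, s2Mat (nMat (s2Mat (nMat m))) ≠ xMat m) ∧
    ∃ m, s2Mat (nMat (s2Mat (nMat m))) ≠ xMat (xMat m) := by decide +kernel

theorem bn_move (g : Fin 16 → Fin 16) (hg : g ∈ [id, xMat, fun m => xMat (xMat m)]) :
    ∃ m, s2Mat (nMat (s2Mat (nMat m))) ≠ g m := by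
  simp only [List.mem_cons, List.mem_nil_iff, or_false] at hg
  rcases hg with rfl | rfl | rfl
  exacts [bn_move_ok.1, bn_move_ok.2.1, bn_move_ok.2.2]

variable {G : Type*} [Group G] [Finite G] {z : G} {a : Fin 5 → G} {ρ : P5 → G} {K : Coord z a ρ}

namespace NX

variable {n x : G} (X : NX K n x 2)
include X

/-- the letters of the good gluing -/
local notation "L" => K.letters n goodVar

/-- The relations of the good gluing. -/
theorem six_cases : ∃ sv j k : ℕ, sv < 2 ∧ j < 3 ∧ k < 2 ∧
    wval L (selWord sv j) = 1 ∧ wval L (conjWord sv k) = 1 := by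
  classical
  have hok := goodVar_ok
  have sq := X.letters_sq hok
  have hJK : L 8 * L 9 = x := X.jk_x hok
  have rel : ∀ r ∈ smallRels, wval L r = 1 := fun r hr => X.okRel_sound hok (List.all_eq_true.1 smallRels_ok r hr)
  have e6 : L 6 = n := by simp [Coord.letters]
  have e3 : L 3 = K.ev s1C := by simp [Coord.letters, codeC]
  have e4 : L 4 = K.ev s2C := by simp [Coord.letters, codeC]
  have hinv : ∀ l, (L l)⁻¹ = L l := fun l => inv_eq_of_mul_eq_one_right (sq l)
  have x3 : x ^ 3 = 1 := by rw [pow_succ, pow_two, X.x3]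
  have hx3 : ∀ y ∈ zpowers x, y = 1 ∨ y = x ∨ y = x * x := by
    intro y hy
    obtain ⟨i, rfl⟩ := mem_zpowers_iff.1 hy
    rw [zpow_eq_zpow_emod' i x3]
    have h1 := Int.emod_nonneg i (show (3 : ℤ) ≠ 0 by norm_num)
    have h2 := Int.emod_lt_of_pos i (show (0 : ℤ) < 3 by norm_num)
    obtain h | h | h : i % ((3 : ℕ) : ℤ) = 0 ∨ i % ((3 : ℕ) : ℤ) = 1 ∨ i % ((3 : ℕ) : ℤ) = 2 := by push_cast; omega
    · exact Or.inl (by rw [h, zpow_zero])
    · exact Or.inr (Or.inl (by rw [h, zpow_one]))
    · exact Or.inr (Or.inr (by rw [h, zpow_two]))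
  have small : ∀ {y : G}, y * y = 1 → y ∈ zpowers x → y = 1 := by
    intro y hy hm
    rcases hx3 y hm with rfl | rfl | rfl
    · rfl
    · calc y = y * y * y := by rw [hy, one_mul]
        _ = 1 := X.x3
    · calc x * x = x * x * (x * x) * (x * x) := by rw [hy, one_mul]
        _ = (x * x * x) * (x * x * x) := by group
        _ = 1 := by rw [X.x3, one_mul]
  set CX := centralizer ({x} : Set G) with hCX
  have hv7 : Commute x (L 7) := by
    have h := rel _ (by decide : [8, 9, 7, 9, 8, 7] ∈ smallRels)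
    simp only [wval, List.map_cons, List.map_nil, List.prod_cons, List.prod_nil, mul_one] at h
    have e : x⁻¹ = L 9 * L 8 := by rw [← hJK, mul_inv_rev, hinv, hinv]
    have h' : x * L 7 * x⁻¹ * L 7 = 1 := by rw [e, ← hJK, ← h]; group
    rw [mul_eq_one_iff_eq_inv, hinv, mul_inv_eq_iff_eq_mul] at h'
    exact h'
  have hJx : L 8 * x * (L 8)⁻¹ = x⁻¹ := by
    rw [← hJK, mul_inv_rev, hinv, hinv, ← mul_assoc (L 8) (L 8), sq, one_mul]
  let σ : MulAut G := MulAut.conj (L 8)
  have hσ : ∀ g, g ∈ CX → σ g ∈ CX := by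
    intro g hg
    rw [hCX, mem_centralizer_singleton_iff] at hg ⊢
    have h1 : Commute (σ g) (σ x) := (show Commute g x from hg).map σ
    rw [show σ x = x⁻¹ from hJx] at h1
    simpa using h1.inv_right.eq
  have hσσ : ∀ g, σ (σ g) = g := fun g => by
    show L 8 * (L 8 * g * (L 8)⁻¹) * (L 8)⁻¹ = g
    rw [hinv, ← mul_assoc, ← mul_assoc, sq, one_mul, mul_assoc, sq, mul_one]
  let Z : Subgroup CX := (zpowers x).subgroupOf CX
  haveI : Z.Normal := by
    constructor
    rintro ⟨y, hy⟩ hyZ ⟨g, hg⟩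
    rw [mem_subgroupOf] at hyZ ⊢
    rw [hCX, mem_centralizer_singleton_iff] at hg
    obtain ⟨i, rfl⟩ := mem_zpowers_iff.1 hyZ
    show g * x ^ i * g⁻¹ ∈ zpowers x
    rw [((show Commute g x from hg).zpow_right i).eq, mul_inv_cancel_right]
    exact zpow_mem (mem_zpowers x) i
  let σC : CX →* CX := {
    toFun := fun g => ⟨σ g, hσ g g.2⟩
    map_one' := Subtype.ext (map_one σ)
    map_mul' := fun g h => Subtype.ext (map_mul σ (g : G) (h : G)) }
  have hZ : Z ≤ Z.comap σC := by
    intro g hg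
    rw [mem_comap, mem_subgroupOf]
    obtain ⟨i, hi⟩ := mem_zpowers_iff.1 (mem_subgroupOf.1 hg)
    show σ (g : G) ∈ zpowers x
    rw [← hi, map_zpow, show σ x = x⁻¹ from hJx]
    exact zpow_mem (inv_mem (mem_zpowers x)) i
  let φ₀ : CX ⧸ Z →* CX ⧸ Z := QuotientGroup.map Z Z σC hZ
  have hφφ : φ₀.comp φ₀ = MonoidHom.id _ := by
    refine QuotientGroup.monoidHom_ext _ (MonoidHom.ext fun g => ?_)
    show φ₀ (φ₀ (g : CX ⧸ Z)) = (g : CX ⧸ Z)
    rw [QuotientGroup.map_mk, QuotientGroup.map_mk]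
    exact congrArg _ (Subtype.ext (hσσ g))
  let φ : CX ⧸ Z ≃* CX ⧸ Z := MonoidHom.toMulEquiv φ₀ φ₀ hφφ hφφ
  -- the elements
  have hm : ∀ {g : G}, Commute x g → g ∈ CX := fun {g} h => by
    rw [hCX, mem_centralizer_singleton_iff]; exact h.symm.eq
  let π : CX →* CX ⧸ Z := QuotientGroup.mk' Z
  set a' : CX := ⟨L 3, hm (e3 ▸ X.xs1)⟩ with ha'
  set b' : CX := ⟨L 4, hm (e4 ▸ X.xs2)⟩ with hb'
  set n' : CX := ⟨L 6, hm (e6 ▸ X.xn)⟩ with hn'
  set v' : CX := ⟨L 7, hm hv7⟩ with hv'
  set p' : CX := σC n' with hp'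
  have hπ : ∀ {g h : CX}, π g = π h ↔ (g : G)⁻¹ * (h : G) ∈ zpowers x := fun {g h} => by
    rw [show π g = π h ↔ g⁻¹ * h ∈ Z from QuotientGroup.eq]
    exact mem_subgroupOf
  have hone : ∀ {g : CX}, π g = 1 ↔ (g : G) ∈ zpowers x := fun {g} => by
    rw [show π g = 1 ↔ g ∈ Z from QuotientGroup.eq_one_iff g]
    exact mem_subgroupOf
  have rel1 : ∀ {g : CX}, (g : G) = 1 → π g = 1 := fun {g} h => by rw [show g = 1 from Subtype.ext h, map_one]
  have code1 : ∀ {w : List ℕ}, (∀ l ∈ w, l ∈ lettersG) → wval L w = 1 → cprod (w.map (codeG goodVar)) = coneC := by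
    intro w hw h
    have e := X.wval_G hok hw
    rw [h, mul_one, mul_inv_cancel] at e
    refine K.ev_inj ?_ (map_one _) (e.symm.trans K.ev_one.symm)
    exact (K.wval_ev (f := fun l => K.ev (codeG goodVar l)) (cv := codeG goodVar) (S := lettersG)
      (fun l hl => ⟨(var_even goodVar_ok hl).1, rfl⟩) w hw).1
  -- simple facts
  set A := π a'
  set B := π b'
  set N := π n'
  set V := π v'
  set P := π p'
  have sqH : ∀ {g : CX}, (g : G) * g = 1 → π g * π g = 1 := fun {g} h => by rw [← map_mul]; exact rel1 h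
  have neH : ∀ {g : CX}, (g : G) * g = 1 → (g : G) ≠ 1 → π g ≠ 1 := fun {g} h h1 e => h1 (small h (hone.1 e))
  have r34 := rel _ (by decide : [3, 4, 3, 4] ∈ smallRels)
  have r37 := rel _ (by decide : [3, 7, 3, 7] ∈ smallRels)
  have r74 := rel _ (by decide : [7, 4, 7, 4, 3] ∈ smallRels)
  have r84 := rel _ (by decide : [8, 4, 8, 7, 3] ∈ smallRels)
  have r87 := rel _ (by decide : [8, 7, 8, 4, 3] ∈ smallRels)
  have r83 := rel _ (by decide : [8, 3, 8, 3] ∈ smallRels)
  have r36 := rel _ (by decide : [3, 6, 3, 6, 3, 6, 3, 6, 3, 6] ∈ smallRels)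
  have r46 := rel _ (by decide : [4, 6, 4, 6, 4, 6, 4, 6, 4, 6] ∈ smallRels)
  have r346 := rel _ (by decide : [3, 4, 6, 3, 4, 6, 3, 4, 6] ∈ smallRels)
  simp only [wval, List.map_cons, List.map_nil, List.prod_cons, List.prod_nil, mul_one] at r34 r37 r74 r84 r87 r83 r36 r46 r346
  have comm : ∀ {g h : G}, g * g = 1 → h * h = 1 → g * (h * (g * h)) = 1 → g * h = h * g := fun {g h} hg hh e => by
    calc g * h = (g * h)⁻¹ := (inv_eq_of_mul_eq_one_right (by rw [← e]; group)).symm
      _ = h * g := by rw [mul_inv_rev, inv_eq_of_mul_eq_one_right hg, inv_eq_of_mul_eq_one_right hh]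
  have hAB : A * B = B * A := by
    rw [← map_mul, ← map_mul]
    exact congrArg π (Subtype.ext (comm (sq 3) (sq 4) r34))
  have hAV : A * V = V * A := by
    rw [← map_mul, ← map_mul]
    exact congrArg π (Subtype.ext (comm (sq 3) (sq 7) r37))
  have hVBg : L 7 * L 4 * (L 7 * L 4) = L 3 := by
    calc L 7 * L 4 * (L 7 * L 4) = L 7 * (L 4 * (L 7 * (L 4 * L 3))) * L 3 := by
          simp only [mul_assoc, sq, mul_one]
      _ = L 3 := by rw [r74, one_mul]
  have hVB : V * B * (V * B) = A := by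
    rw [← map_mul, ← map_mul]; exact congrArg π (Subtype.ext hVBg)
  have nc : ∀ (t : CX) (f : Fin 16 → Fin 16), K.Acts (t : G) f →
      (∀ g ∈ [id, xMat, fun m => xMat (xMat m)], ∃ m, f (nMat (f (nMat m))) ≠ g m) → (t : G) * t = 1 →
      π t * N ≠ N * π t := by
    intro t f hf hmove ht e
    rw [← map_mul, ← map_mul, hπ] at e
    have e' : (t : G) * n * t * n ∈ zpowers x := by
      have h := inv_mem e
      simp only [coe_mul, mul_inv_rev, inv_inv] at h
      rw [show (n' : G) = n from e6, inv_eq_of_mul_eq_one_right X.nn, inv_eq_of_mul_eq_one_right ht] at h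
      have h2 : (t : G) * n * t * n = ((t : G) * n * t * n) := rfl
      simpa [mul_assoc] using h
    have hact : K.Acts ((t : G) * n * t * n) fun m => f (nMat (f (nMat m))) :=
      K.acts_congr (K.acts_mul (K.acts_mul (K.acts_mul hf X.actn) hf) X.actn) fun _ => rfl
    rcases hx3 _ e' with h | h | h <;> rw [h] at hact
    · obtain ⟨m, hm⟩ := hmove id (by simp); exact hm (K.acts_unique hact K.acts_one m)
    · obtain ⟨m, hm⟩ := hmove xMat (by simp); exact hm (K.acts_unique hact X.actx m)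
    · obtain ⟨m, hm⟩ := hmove (fun m => xMat (xMat m)) (by simp)
      exact hm (K.acts_unique hact (K.acts_mul X.actx X.actx) m)
  have hacts1 : K.Acts (a' : G) s1Mat := by
    show K.Acts (L 3) s1Mat
    rw [e3]; exact K.acts_code (by decide +kernel) (by decide +kernel)
  have hacts2 : K.Acts (b' : G) s2Mat := by
    show K.Acts (L 4) s2Mat
    rw [e4]; exact K.acts_code (by decide +kernel) (by decide +kernel)
  have hicos : icos A B N := by
    refine ⟨?_, ?_, ?_, nc a' _ hacts1 an_move (sq 3), nc b' _ hacts2 bn_move (sq 4)⟩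
    · rw [← map_mul, ← map_pow]; exact rel1 (by simpa [pow_succ, mul_assoc] using r36)
    · rw [← map_mul, ← map_pow]; exact rel1 (by simpa [pow_succ, mul_assoc] using r46)
    · rw [← map_mul, ← map_mul, ← map_pow]; exact rel1 (by simpa [pow_succ, mul_assoc] using r346)
  -- the automorphism
  have hσA : φ A = A := by
    show φ₀ (π a') = π a'
    refine congrArg π (Subtype.ext ?_)
    show L 8 * L 3 * (L 8)⁻¹ = L 3
    rw [comm (sq 8) (sq 3) r83, mul_inv_cancel_right]
  have hJb : L 8 * L 4 * (L 8)⁻¹ = L 3 * L 7 := by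
    rw [hinv]
    calc L 8 * L 4 * L 8 = L 8 * (L 4 * (L 8 * (L 7 * L 3))) * (L 3 * L 7) := by
          simp only [mul_assoc]
          rw [← mul_assoc (L 3) (L 3), sq, one_mul, sq, mul_one]
      _ = L 3 * L 7 := by rw [r84, one_mul]
  have hJv : L 8 * L 7 * (L 8)⁻¹ = L 3 * L 4 := by
    rw [hinv]
    calc L 8 * L 7 * L 8 = L 8 * (L 7 * (L 8 * (L 4 * L 3))) * (L 3 * L 4) := by
          simp only [mul_assoc]
          rw [← mul_assoc (L 3) (L 3), sq, one_mul, sq, mul_one]
      _ = L 3 * L 4 := by rw [r87, one_mul]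
  have hφB : φ B = A * V := by
    rw [← map_mul]; exact congrArg π (Subtype.ext hJb)
  have hφV : φ V = A * B := by
    rw [← map_mul]; exact congrArg π (Subtype.ext hJv)
  have hφN : φ N = P := rfl
  have hφP : φ P = N := congrArg π (Subtype.ext (hσσ _))
  -- the centralizer
  have wC : ∀ {w : List ℕ}, (∀ l ∈ w, l ∈ [3, 4, 7]) → ∃ g : CX, (g : G) = wval L w ∧
      π g = wval (fun l => if l = 3 then A else if l = 4 then B else V) w := by
    intro w
    induction w with
    | nil => exact fun _ => ⟨1, rfl, map_one π⟩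
    | cons l w ih =>
      intro hw
      obtain ⟨g, hg, hg'⟩ := ih fun i hi => hw i (List.mem_cons_of_mem _ hi)
      have hl := hw l List.mem_cons_self
      simp only [List.mem_cons, List.mem_nil_iff, or_false] at hl
      rcases hl with rfl | rfl | rfl
      · exact ⟨a' * g, by show L 3 * (g : G) = _; rw [hg]; simp [wval], by simp [wval, map_mul, hg', A]⟩
      · exact ⟨b' * g, by show L 4 * (g : G) = _; rw [hg]; simp [wval], by simp [wval, map_mul, hg', B]⟩
      · exact ⟨v' * g, by show L 7 * (g : G) = _; rw [hg]; simp [wval], by simp [wval, map_mul, hg', V]⟩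
  have hw8 : ∀ w ∈ eightWords, ∀ l ∈ w, l ∈ [3, 4, 7] := by decide
  set im : ℕ → CX ⧸ Z := fun l => if l = 3 then A else if l = 4 then B else V with him
  have hgC : ∀ {g : CX}, π g * A = A * π g → (g : G) * L 3 = L 3 * g := by
    intro g hg
    have h1 : (L 3)⁻¹ * ((g : G) * L 3 * (g : G)⁻¹) ∈ zpowers x := by
      have h : π a' = π (g * a' * g⁻¹) := by rw [map_mul, map_mul, map_inv, hg, mul_inv_cancel_right]
      exact hπ.1 h
    have hcomm : Commute x (L 3) := e3 ▸ X.xs1
    have hg' : Commute x (g : G) := (show Commute (g : G) x from mem_centralizer_singleton_iff.1 g.2).symm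
    rcases hx3 _ h1 with h | h | h
    · rw [inv_mul_eq_one] at h
      exact (mul_inv_eq_iff_eq_mul.1 h.symm)
    all_goals
      exfalso
      rw [inv_mul_eq_iff_eq_mul] at h
      have h2 : (g : G) * L 3 * (g : G)⁻¹ * ((g : G) * L 3 * (g : G)⁻¹) = 1 := by
        rw [show (g : G) * L 3 * (g : G)⁻¹ * ((g : G) * L 3 * (g : G)⁻¹) = (g : G) * (L 3 * L 3) * (g : G)⁻¹ by group, sq]
        group
      rw [h] at h2
    · rw [hcomm.mul_mul_mul_comm, sq, one_mul] at h2
      have hx1 := small h2 (mem_zpowers x)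
      rw [hx1] at X
      exact absurd ((K.acts_unique X.actx K.acts_one) 1) (by decide +kernel)
    · rw [(hcomm.mul_left hcomm).mul_mul_mul_comm, sq, one_mul] at h2
      have hx1 := small h2 (mul_mem (mem_zpowers x) (mem_zpowers x))
      exact absurd ((K.acts_unique (K.acts_mul X.actx X.actx) (hx1.symm ▸ K.acts_one)) 1) (by decide +kernel)
  have hxv : wval L [8, 9] = x ∧ wval L [8, 9, 8, 9] = x * x := by
    rw [← hJK]; constructor <;> simp [wval, mul_assoc]
  have tail_mem : ∀ w' ∈ ([[], [8, 9], [8, 9, 8, 9]] : List (List ℕ)), wval L w' ∈ zpowers x := by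
    intro w' hw'
    simp only [List.mem_cons, List.mem_nil_iff, or_false] at hw'
    rcases hw' with rfl | rfl | rfl
    · exact one_mem _
    · rw [hxv.1]; exact mem_zpowers x
    · rw [hxv.2]; exact mul_mem (mem_zpowers x) (mem_zpowers x)
  have wapp : ∀ u w, wval L (u ++ w) = wval L u * wval L w := fun u w => by simp [wval]
  have cover : ∀ c ∈ centralizer ({A} : Set (CX ⧸ Z)), ∃ w ∈ eightWords, c = wval im w := by
    intro c hc
    rw [mem_centralizer_singleton_iff] at hc
    obtain ⟨g, rfl⟩ := QuotientGroup.mk'_surjective Z c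
    have hg3 := hgC hc
    have hgx : Commute x (g : G) := (show Commute (g : G) x from mem_centralizer_singleton_iff.1 g.2).symm
    set y := K.gEl n * (g : G) * (K.gEl n)⁻¹ with hy
    have h3 := X.conj_letter goodVar (l := 3) (by decide)
    rw [show codeG goodVar 3 = zC from rfl, K.ev_zC] at h3
    have hyz : y ∈ Cz z := by
      have h := (show Commute (g : G) (L 3) from hg3).map (MulAut.conj (K.gEl n))
      rw [MulAut.conj_apply, MulAut.conj_apply, h3] at h
      exact mem_Cz.2 h
    obtain ⟨q, hq, hqy⟩ := K.exists_ev hyz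
    have hxx : K.gEl n * x * (K.gEl n)⁻¹ = K.ev (cmulC goodVar.j goodVar.k) := by
      have h := X.wval_G hok (w := [8, 9]) (by decide)
      rw [hxv.1] at h
      rw [h]
      exact congrArg K.ev (by decide +kernel)
    have hcm : cmulC q (cmulC goodVar.j goodVar.k) = cmulC (cmulC goodVar.j goodVar.k) q := by
      refine (K.ev_commute_iff hq (by decide +kernel)).1 ?_
      rw [← hqy, ← hxx]
      exact (hgx.symm.map (MulAut.conj (K.gEl n)))
    obtain ⟨w, hw, w', hw', hcode⟩ := eight_cover q hq hcm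
    refine ⟨w, hw, ?_⟩
    obtain ⟨gw, hgw, hgw'⟩ := wC (hw8 w hw)
    rw [← hgw']
    have hg_eq : (g : G) = wval L w * wval L w' := by
      have h := X.wval_G hok (eight_letters w hw w' hw')
      rw [hcode, ← hqy, hy, wapp] at h
      exact (mul_left_cancel (mul_right_cancel h)).symm
    refine (hπ.2 ?_).symm
    rw [hgw, hg_eq, inv_mul_cancel_left]
    exact tail_mem w' hw'
  have hmemA : ∀ w ∈ eightWords, wval im w ∈ centralizer ({A} : Set (CX ⧸ Z)) := by
    intro w hw
    have hl := hw8 w hw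
    clear hw
    induction w with
    | nil => exact one_mem _
    | cons l w ih =>
      refine mul_mem ?_ (ih fun i hi => hl i (List.mem_cons_of_mem _ hi))
      rw [mem_centralizer_singleton_iff]
      show (if l = 3 then A else if l = 4 then B else V) * A = A * (if l = 3 then A else if l = 4 then B else V)
      split_ifs
      exacts [rfl, hAB.symm, hAV.symm]
  have hcard : Nat.card (centralizer ({A} : Set (CX ⧸ Z))) = 8 := by
    let f : Fin 8 → centralizer ({A} : Set (CX ⧸ Z)) := fun i =>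
      ⟨wval im (eightWords.getD i.val []), hmemA _ ((by decide : ∀ i : Fin 8, eightWords.getD i.val [] ∈ eightWords) i)⟩
    have hf : Function.Bijective f := by
      refine ⟨fun i j hij => ?_, fun c => ?_⟩
      · by_contra hne
        have h := congrArg Subtype.val hij
        obtain ⟨gi, hgi, hgi'⟩ := wC (hw8 _ ((by decide : ∀ i : Fin 8, eightWords.getD i.val [] ∈ eightWords) i))
        obtain ⟨gj, hgj, hgj'⟩ := wC (hw8 _ ((by decide : ∀ i : Fin 8, eightWords.getD i.val [] ∈ eightWords) j))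
        have h' : π gj = π gi := (hgj'.trans h.symm).trans hgi'.symm
        have hd := hπ.1 h'
        obtain ⟨w', hw', hd'⟩ : ∃ w' ∈ ([[], [8, 9], [8, 9, 8, 9]] : List (List ℕ)), (gj : G)⁻¹ * gi = wval L w' := by
          rcases hx3 _ hd with e | e | e
          · exact ⟨[], by simp, e⟩
          · exact ⟨[8, 9], by simp, e.trans hxv.1.symm⟩
          · exact ⟨[8, 9, 8, 9], by simp, e.trans hxv.2.symm⟩
        refine eight_sep i j hne w' hw' ?_
        have hwl := eight_letters _ ((by decide : ∀ i : Fin 8, eightWords.getD i.val [] ∈ eightWords) j) w' hw'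
        have hwi : ∀ l ∈ eightWords.getD i.val [], l ∈ lettersG := fun l hl =>
          eight_letters _ ((by decide : ∀ i : Fin 8, eightWords.getD i.val [] ∈ eightWords) i) [] (by simp) l (by simpa using hl)
        refine K.ev_inj ((K.wval_ev (f := fun l => K.ev (codeG goodVar l)) (cv := codeG goodVar) (S := lettersG)
          (fun l hl => ⟨(var_even goodVar_ok hl).1, rfl⟩) _ hwi).1)
          ((K.wval_ev (f := fun l => K.ev (codeG goodVar l)) (cv := codeG goodVar) (S := lettersG)
          (fun l hl => ⟨(var_even goodVar_ok hl).1, rfl⟩) _ hwl).1) ?_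
        rw [← X.wval_G hok hwi, ← X.wval_G hok hwl, wapp, ← hgi, ← hgj, ← hd', mul_inv_cancel_left]
      · obtain ⟨w, hw, hc⟩ := cover c c.2
        obtain ⟨i, hi⟩ := (by decide : ∀ w ∈ eightWords, ∃ i : Fin 8, eightWords.getD i.val [] = w) w hw
        exact ⟨i, Subtype.ext (by rw [hc, ← hi])⟩
    rw [← Nat.card_eq_of_bijective f hf, Nat.card_eq_fintype_card, Fintype.card_fin]
  have hcases : ∀ c ∈ centralizer ({A} : Set (CX ⧸ Z)), c = 1 ∨ c = V * B ∨ c = A ∨ c = (V * B)⁻¹ ∨ c = B ∨
      c = B * (V * B) ∨ c = B * A ∨ c = B * (V * B)⁻¹ := by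
    intro c hc
    obtain ⟨w, hw, rfl⟩ := cover c hc
    have iB : B⁻¹ = B := inv_eq_of_mul_eq_one_right (sqH (sq 4))
    have iV : V⁻¹ = V := inv_eq_of_mul_eq_one_right (sqH (sq 7))
    simp only [eightWords, List.mem_cons, List.mem_nil_iff, or_false] at hw
    rw [mul_inv_rev, iB, iV]
    rcases hw with rfl | rfl | rfl | rfl | rfl | rfl | rfl | rfl <;>
      simp only [im, wval, List.map_cons, List.map_nil, List.prod_cons, List.prod_nil, mul_one] <;> norm_num
    right; right; right; right; right; right; right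
    rw [← mul_assoc, sqH (sq 4), one_mul]
  have hne : ∀ {w : List ℕ}, (∀ l ∈ w, l ∈ lettersG) → cprod (w.map (codeG goodVar)) ≠ coneC → wval L w ≠ 1 :=
    fun {w} hw h e => h (code1 hw e)
  have ne3 : (a' : G) ≠ 1 := by
    show L 3 ≠ 1
    simpa [wval] using hne (w := [3]) (by decide) (by decide +kernel)
  have ne4 : (b' : G) ≠ 1 := by
    show L 4 ≠ 1
    simpa [wval] using hne (w := [4]) (by decide) (by decide +kernel)
  have ne7 : (v' : G) ≠ 1 := by
    show L 7 ≠ 1
    simpa [wval] using hne (w := [7]) (by decide) (by decide +kernel)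
  have hBA : B ≠ A := fun e => by
    have h := hπ.1 e
    have hinv2 : ((b' : G)⁻¹ * a') * ((b' : G)⁻¹ * a') = 1 := by
      show (L 4)⁻¹ * L 3 * ((L 4)⁻¹ * L 3) = 1
      rw [hinv, mul_assoc, ← mul_assoc (L 3), comm (sq 3) (sq 4) r34, mul_assoc (L 4) (L 3), sq, mul_one, sq]
    have h1 := small hinv2 h
    refine hne (w := [4, 3]) (by decide) letters_ne.1 ?_
    have h2 : (L 4)⁻¹ * L 3 = 1 := h1
    rw [hinv] at h2
    simpa [wval] using h2
  have main := six_dichotomy φ (A := A) (B := B) (N := N) (V := V) (P := P) (sqH (sq 3)) (sqH (sq 4)) (sqH (sq 6))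
    (sqH (sq 7)) (neH (sq 3) ne3) (neH (sq 4) ne4) hBA (neH (sq 7) ne7) hAB hAV hVB hicos hσA hφB hφV hφN hφP hcard hcases
  -- back to the group
  have pick : ∀ (g : G) (hg : g ∈ CX), π ⟨g, hg⟩ = 1 → ∃ j, j < 3 ∧ g * x ^ j = 1 := by
    intro g hg h
    rcases hx3 _ (hone.1 h) with e | e | e <;> simp only at e <;> subst e
    · exact ⟨0, by norm_num, by simp⟩
    · exact ⟨2, by norm_num, by rw [pow_two, ← mul_assoc, X.x3]⟩
    · exact ⟨1, by norm_num, by rw [pow_one, X.x3]⟩
  have eqInv : ∀ {g h : CX}, (g : G) * g = 1 → (h : G) * h = 1 → π g = π h → (g : G) = h := by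
    intro g h hg hh e
    obtain hd | hd | hd := hx3 _ (hπ.1 e)
    · exact inv_mul_eq_one.1 hd
    all_goals
      rw [inv_mul_eq_iff_eq_mul] at hd
      have hgx : Commute x (g : G) := (show Commute (g : G) x from mem_centralizer_singleton_iff.1 g.2).symm
      rw [hd] at hh
    · rw [hgx.mul_mul_mul_comm, hg, one_mul] at hh
      rw [hd, small hh (mem_zpowers x), mul_one]
    · rw [(hgx.mul_left hgx).mul_mul_mul_comm, hg, one_mul] at hh
      rw [hd, small hh (mul_mem (mem_zpowers x) (mem_zpowers x)), mul_one]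
  have repx : ∀ j, wval L (List.replicate j [8, 9]).flatten = x ^ j := by
    intro j
    induction j with
    | zero => simp [wval]
    | succ j ih => rw [List.replicate_succ, List.flatten_cons, wapp, hxv.1, ih, pow_succ']
  have hpp : (p' : G) * p' = 1 := by
    show σ (L 6) * σ (L 6) = 1
    rw [← map_mul, sq, map_one]
  have hp_val : (p' : G) = L 8 * L 6 * L 8 := by
    show L 8 * L 6 * (L 8)⁻¹ = _
    rw [hinv]
  have conjsq : ∀ {g h : G}, g * g = 1 → h * h = 1 → g * h * g * (g * h * g) = 1 := fun {g h} hg hh => by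
    rw [show g * h * g * (g * h * g) = g * h * (g * g) * h * g by group, hg, mul_one, mul_assoc g h h, hh, mul_one, hg]
  rcases main with ⟨hsel, hp⟩ | ⟨hsel, hp⟩
  · obtain ⟨j, hj, hje⟩ := pick _ (a' * n' * b' * n' * v' * n' * a' * n' * b' * n' * v' * n').2
      ((map_mul π _ _).trans (by simp only [map_mul]; exact hsel))
    have hsel' : wval L (selWord 0 j) = 1 := by
      rw [selWord, if_pos rfl, wapp, repx, ← hje]
      simp [wval, a', b', n', v', mul_assoc]
    rcases hp with hp | hp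
    · refine ⟨0, j, 0, by norm_num, hj, by norm_num, hsel', ?_⟩
      have e := eqInv (g := p') (h := b' * v' * n' * v' * b') hpp (by
        show L 4 * L 7 * L 6 * L 7 * L 4 * (L 4 * L 7 * L 6 * L 7 * L 4) = 1
        rw [show L 4 * L 7 * L 6 * L 7 * L 4 = L 4 * (L 7 * L 6 * L 7) * L 4 by group]
        exact conjsq (sq 4) (conjsq (sq 7) (sq 6))) (by simpa [P, B, N, V] using hp)
      rw [hp_val] at e
      simp only [coe_mul] at e
      calc wval L (conjWord 0 0) = L 8 * L 6 * L 8 * (L 4 * L 7 * L 6 * L 7 * L 4) := by simp [conjWord, wval, mul_assoc]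
        _ = 1 := by
          rw [e]
          rw [show L 4 * L 7 * L 6 * L 7 * L 4 = L 4 * (L 7 * L 6 * L 7) * L 4 by group]
          exact conjsq (sq 4) (conjsq (sq 7) (sq 6))
    · refine ⟨0, j, 1, by norm_num, hj, by norm_num, hsel', ?_⟩
      have hsq : L 3 * (L 4 * L 7 * L 6 * L 7 * L 4) * L 3 * (L 3 * (L 4 * L 7 * L 6 * L 7 * L 4) * L 3) = 1 := by
        rw [show L 4 * L 7 * L 6 * L 7 * L 4 = L 4 * (L 7 * L 6 * L 7) * L 4 by group]
        exact conjsq (sq 3) (conjsq (sq 4) (conjsq (sq 7) (sq 6)))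
      have e := eqInv (g := p') (h := a' * (b' * v' * n' * v' * b') * a') hpp hsq (by simpa [P, A, B, N, V] using hp)
      rw [hp_val] at e
      simp only [coe_mul] at e
      calc wval L (conjWord 0 1) = L 8 * L 6 * L 8 * (L 3 * (L 4 * L 7 * L 6 * L 7 * L 4) * L 3) := by
            simp [conjWord, wval, mul_assoc]
        _ = 1 := by rw [e]; exact hsq
  · obtain ⟨j, hj, hje⟩ := pick _ (a' * n' * b' * n' * (v' * a') * n' * a' * n' * b' * n' * (v' * a') * n').2
      ((map_mul π _ _).trans (by simp only [map_mul]; exact hsel))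
    have hsel' : wval L (selWord 1 j) = 1 := by
      rw [selWord, if_neg one_ne_zero, wapp, repx, ← hje]
      simp [wval, a', b', n', v', mul_assoc]
    rcases hp with hp | hp
    · refine ⟨1, j, 0, by norm_num, hj, by norm_num, hsel', ?_⟩
      have e := eqInv (g := p') (h := n') hpp (sq 6) (by simpa [P, N] using hp)
      rw [hp_val] at e
      calc wval L (conjWord 1 0) = L 8 * L 6 * L 8 * L 6 := by simp [conjWord, wval, mul_assoc]
        _ = 1 := by rw [e]; exact sq 6
    · refine ⟨1, j, 1, by norm_num, hj, by norm_num, hsel', ?_⟩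
      have hsq : L 3 * L 6 * L 3 * (L 3 * L 6 * L 3) = 1 := conjsq (sq 3) (sq 6)
      have e := eqInv (g := p') (h := a' * n' * a') hpp hsq (by simpa [P, A, N] using hp)
      rw [hp_val] at e
      simp only [coe_mul] at e
      calc wval L (conjWord 1 1) = L 8 * L 6 * L 8 * (L 3 * L 6 * L 3) := by simp [conjWord, wval, mul_assoc]
        _ = 1 := by rw [e]; exact hsq

end NX

end Cfsg.Lib.J3Type
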