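import Mathlib.Algebra.Field.Defs
import Mathlib.Data.Fintype.Card
import Mathlib.Algebra.CharP.Two
import Mathlib.LinearAlgebra.Matrix.SpecialLinearGroup
import Mathlib.GroupTheory.SemidirectProduct
import Mathlib.Data.ZMod.Basic

/-!
The field with sixteen elements by tables and the semidirect product of its two-dimensional special linear group with
an automorphism of order two.
-/

set_option autoImplicit false

namespace Cfsg.Lib.J3Type.SL16

/-- the field with sixteen elements -/
structure K16 where
  /-- the packed coordinates -/
  val : Fin 16
deriving DecidableEq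

instance : Fintype K16 := Fintype.ofEquiv (Fin 16) ⟨K16.mk, K16.val, fun _ => rfl, fun _ => rfl⟩

/-- from a number -/
def mk16 (n : ℕ) : K16 := ⟨Fin.ofNat 16 n⟩

instance : Zero K16 := ⟨mk16 0⟩
instance : One K16 := ⟨mk16 1⟩
instance : Add K16 := ⟨fun a b => mk16 (a.val.val ^^^ b.val.val)⟩
instance : Neg K16 := ⟨fun a => a⟩
instance : Mul K16 := ⟨fun a b => mk16 (0xa5783ce1b4692df05ba48679c23d1fe07ae36bf258c149d0843fd16a2e957bc0386d92c74f1ae5b0c6b1285f394ed7a0e7f6c5d4a3b28190192a7f4cd5e6b380bc5243ad618f9e70428ef93517dbac6063c914be8d27fa509d15ae26fb73c8402147ed8b9afc5630df9b5713eca86420fedcba98765432100000000000000000 >>> (4 * (16 * a.val.val + b.val.val)))⟩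
instance : Inv K16 := ⟨fun a => mk16 (0x834a5c2f67bde910 >>> (4 * a.val.val))⟩

instance instField : Field K16 where
  add_assoc := by decide +kernel
  zero_add := by decide +kernel
  add_zero := by decide +kernel
  nsmul := nsmulRec
  zsmul := zsmulRec
  neg_add_cancel := by decide +kernel
  add_comm := by decide +kernel
  left_distrib := by decide +kernel
  right_distrib := by decide +kernel
  zero_mul := by decide +kernel
  mul_zero := by decide +kernel
  mul_assoc := by decide +kernel
  one_mul := by decide +kernel
  mul_one := by decide +kernel
  mul_comm := by decide +kernel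
  exists_pair_ne := ⟨0, 1, by decide +kernel⟩
  mul_inv_cancel := by decide +kernel
  inv_zero := by decide +kernel
  nnqsmul := _
  nnqsmul_def := fun _ _ => rfl
  qsmul := _
  qsmul_def := fun _ _ => rfl

theorem card_K16 : Fintype.card K16 = 16 := by decide +kernel

/-- the field automorphism of order two -/
def frob : K16 →+* K16 where
  toFun := fun a => mk16 (0x89badcef76452310 >>> (4 * a.val.val))
  map_one' := by decide +kernel
  map_mul' := by decide +kernel
  map_zero' := by decide +kernel
  map_add' := by decide +kernel

theorem frob_frob : ∀ a : K16, frob (frob a) = a := by decide +kernel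

/-- the special linear group -/
abbrev SL16 : Type := Matrix.SpecialLinearGroup (Fin 2) K16

/-- the automorphism of the group -/
def frobAut : MulAut SL16 where
  toFun := Matrix.SpecialLinearGroup.map frob
  invFun := Matrix.SpecialLinearGroup.map frob
  left_inv := fun A => by ext i j; exact frob_frob _
  right_inv := fun A => by ext i j; exact frob_frob _
  map_mul' := map_mul _

/-- the action of the group of order two -/
def act : Multiplicative (ZMod 2) →* MulAut SL16 where
  toFun := fun b => if Multiplicative.toAdd b = 0 then 1 else frobAut
  map_one' := if_pos rfl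
  map_mul' := fun a b => by
    have h : ∀ c : ZMod 2, c = 0 ∨ c = 1 := by decide
    have hff : frobAut * frobAut = 1 := MulEquiv.ext fun A => by
      ext i j; exact frob_frob _
    rcases h (Multiplicative.toAdd a) with ha | ha <;> rcases h (Multiplicative.toAdd b) with hb | hb <;>
      simp [toAdd_mul, ha, hb, hff, show (1 : ZMod 2) + 1 = 0 from rfl]

/-- the extension -/
abbrev L16 : Type := SL16 ⋊[act] Multiplicative (ZMod 2)

instance : DecidableEq L16 := fun p q =>
  decidable_of_iff (p.left = q.left ∧ p.right = q.right)
    ⟨fun h => SemidirectProduct.ext h.1 h.2, fun h => ⟨congrArg _ h, congrArg _ h⟩⟩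

end Cfsg.Lib.J3Type.SL16
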