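import Cfsg.Agent.J3Type.Main
import Cfsg.Agent.J3Type.SL16
import Cfsg.Agent.Classical.SL
import Cfsg.Agent.Classical.Misc.SLTwoTori

/-!
Seven letters generate `SL(2,16)` extended by the automorphism of order two.
-/

set_option autoImplicit false
set_option linter.unusedSectionVars false
set_option linter.style.haveILetI false
set_option synthInstance.maxSize 1000

namespace Cfsg.Lib.J3Type

open Subgroup Equiv Cfsg.Lib.HallJankoType Matrix
open Cfsg.Lib.CosetCert (wval)
open SL16

/-- a two by two matrix of determinant one from numbers -/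
def mat16 (a b c d : ℕ) (h : Matrix.det !![mk16 a, mk16 b; mk16 c, mk16 d] = 1) : SL16 := ⟨_, h⟩

/-- the images of the seven letters -/
def imgs : List L16 :=
  [⟨mat16 1 1 0 1 (by decide +kernel), 1⟩, ⟨mat16 1 8 0 1 (by decide +kernel), 1⟩,
   ⟨mat16 1 12 0 1 (by decide +kernel), 1⟩, ⟨mat16 1 0 0 1 (by decide +kernel), Multiplicative.ofAdd 1⟩,
   ⟨mat16 10 0 0 12 (by decide +kernel), Multiplicative.ofAdd 1⟩, ⟨mat16 0 1 1 0 (by decide +kernel), 1⟩,
   ⟨mat16 0 6 7 0 (by decide +kernel), 1⟩]

/-- the relations of the seven letters -/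
def rels7 : List (List ℕ) := HTop.rels ++ HBot.rels

theorem rels7_small : rels7.all (fun r => r.all fun l => decide (l < 7)) = true := by decide +kernel

theorem rels7_sq : (List.range 7).all (fun l => rels7.contains [l, l]) = true := by decide +kernel

theorem rels7_model : rels7.all (fun r => decide ((r.map fun l => imgs.getD l 1).prod = 1)) = true := by decide +kernel

theorem rels7_all : rels7.all (fun r => allRels.contains (r.map hMap)) = true := by decide +kernel

/-- an upper unipotent -/
def uT (x : K16) : SL16 := ⟨!![1, x; 0, 1], by rw [Matrix.det_fin_two]; simp⟩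

theorem uT_add (x y : K16) : uT x * uT y = uT (x + y) := by
  refine Subtype.ext ?_
  show !![1, x; 0, 1] * !![1, y; 0, 1] = !![1, x + y; 0, 1]
  ext i j; fin_cases i <;> fin_cases j <;> simp [Matrix.mul_apply, Fin.sum_univ_two, add_comm]

/-- the Weyl element -/
def wT : SL16 := mat16 0 1 1 0 (by decide +kernel)

theorem uT_basis : ∀ x : K16, x = (if x.val.val.testBit 0 then mk16 1 else 0) + (if x.val.val.testBit 1 then mk16 2 else 0) +
    (if x.val.val.testBit 2 then mk16 4 else 0) + (if x.val.val.testBit 3 then mk16 8 else 0) := by decide +kernel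

theorem two_eq_zero : (1 : K16) + 1 = 0 := by decide +kernel

theorem add_self' (x : K16) : x + x = 0 := by
  calc x + x = x * (1 + 1) := by ring
    _ = 0 := by rw [two_eq_zero, mul_zero]

theorem sl2_gen (P : Subgroup SL16) (hu : ∀ x, uT x ∈ P) (hw : wT ∈ P) (A : SL16) : A ∈ P := by
  have hc : ∀ B : SL16, B.1 1 0 ≠ 0 → B ∈ P := by
    intro B hB
    set a := B.1 0 0
    set b := B.1 0 1
    set c := B.1 1 0
    set d := B.1 1 1
    have hdet : a * d - b * c = 1 := (Matrix.det_fin_two B.1).symm.trans B.2
    have he : B = uT ((a - 1) / c) * (wT * uT c * wT) * uT ((d - 1) / c) := by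
      refine Subtype.ext ?_
      show B.1 = !![1, (a - 1) / c; 0, 1] * (!![mk16 0, mk16 1; mk16 1, mk16 0] * !![1, c; 0, 1] * !![mk16 0, mk16 1; mk16 1, mk16 0]) *
        !![1, (d - 1) / c; 0, 1]
      rw [show mk16 0 = 0 from rfl, show mk16 1 = 1 from rfl]
      ext i j
      fin_cases i <;> fin_cases j <;> simp [Matrix.mul_apply, Fin.sum_univ_two]
      · show a = _
        field_simp
        ring
      · show b = _
        field_simp
        linear_combination (-1 : K16) * hdet
      · rfl
      · show d = _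
        field_simp
        ring
    rw [he]
    exact mul_mem (mul_mem (hu _) (mul_mem (mul_mem hw (hu _)) hw)) (hu _)
  by_cases h : A.1 1 0 = 0
  · have hd : A.1 1 1 ≠ 0 := fun h' => by
      have := (Matrix.det_fin_two A.1).symm.trans A.2
      rw [h, h'] at this
      simp at this
    have h1 : (A * (wT * uT 1 * wT)).1 1 0 = A.1 1 1 := by
      rw [Matrix.SpecialLinearGroup.coe_mul, Matrix.SpecialLinearGroup.coe_mul, Matrix.SpecialLinearGroup.coe_mul]
      simp [wT, uT, mat16, show mk16 0 = 0 from rfl, show mk16 1 = 1 from rfl, Matrix.mul_apply, Fin.sum_univ_two, h]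
    have hm : wT * uT 1 * wT ∈ P := mul_mem (mul_mem hw (hu _)) hw
    exact (mul_mem_cancel_right hm).1 (hc _ (h1 ▸ hd))
  · exact hc A h

variable {G : Type*} [Group G] [Finite G] {z : G} {a : Fin 5 → G} {ρ : P5 → G} {K : Coord z a ρ} {n x : G}

/-- relations as free group elements -/
def freeRels7 : Set (FreeGroup (Fin 7)) :=
  {w | ∃ r ∈ rels7, w = ((r.map fun l => FreeGroup.of (Fin.ofNat 7 l))).prod}

/-- the presented group -/
abbrev P7 : Type := PresentedGroup freeRels7

/-- its letters -/
def pl7 (l : ℕ) : P7 := if l < 7 then PresentedGroup.of (Fin.ofNat 7 l) else 1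

theorem pl7_rel {r : List ℕ} (hr : r ∈ rels7) : wval pl7 r = 1 := by
  have hs := List.all_eq_true.1 rels7_small r hr
  simp only [List.all_eq_true, decide_eq_true_eq] at hs
  have h : PresentedGroup.mk freeRels7 (r.map fun l => FreeGroup.of (Fin.ofNat 7 l)).prod = 1 :=
    PresentedGroup.one_of_mem ⟨r, hr, rfl⟩
  rw [map_list_prod, List.map_map] at h
  rw [wval, ← h]
  exact congrArg List.prod (List.map_congr_left fun l hl => by simp [pl7, if_pos (hs l hl)]; rfl)

theorem pl7_sq (l : ℕ) : pl7 l * pl7 l = 1 := by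
  by_cases h : l < 7
  · have h1 := List.all_eq_true.1 rels7_sq l (List.mem_range.2 h)
    simp only [List.contains_iff_mem] at h1
    simpa [wval] using pl7_rel h1
  · simp [pl7, h]

theorem card_P7 : Finite P7 ∧ Nat.card P7 ≤ 8160 := by
  classical
  have hs := subs_ok
  simp only [Bool.and_eq_true, beq_iff_eq] at hs
  obtain ⟨⟨⟨⟨⟨-, ht⟩, hb⟩, -⟩, nt⟩, nb⟩ := hs
  set B : Subgroup P7 := Subgroup.closure (pl7 '' Set.Iio HBot.cert.ng) with hB
  obtain ⟨fB, cB⟩ := Cfsg.Lib.CosetCert.card_le HBot.cert pl7 (K := (⊥ : Subgroup P7)) (L := B) HBot.valid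
    (fun l _ => pl7_sq l) (fun r hr => pl7_rel (List.mem_append_right _ hr)) (fun _ _ l _ => pl7_sq l)
    (fun s hs => by rw [hb] at hs; simp at hs) le_rfl
  obtain ⟨fT, cT⟩ := Cfsg.Lib.CosetCert.card_le HTop.cert pl7 (K := B) (L := (⊤ : Subgroup P7)) HTop.valid
    (fun l _ => pl7_sq l) (fun r hr => pl7_rel (List.mem_append_left _ hr)) (fun _ _ l _ => pl7_sq l)
    (fun s hs => by
      rw [ht] at hs
      simp only [List.mem_cons, List.mem_nil_iff, or_false] at hs
      rcases hs with rfl | rfl | rfl | rfl <;> refine subset_closure ⟨_, ?_, rfl⟩ <;> rw [Set.mem_Iio, nb] <;> norm_num)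
    (by
      rw [← PresentedGroup.closure_range_of]
      refine closure_mono ?_
      rintro _ ⟨i, rfl⟩
      refine ⟨i.val, by rw [Set.mem_Iio, nt]; exact i.2, ?_⟩
      rw [pl7, if_pos i.2]
      exact congrArg _ (Fin.ext (Nat.mod_eq_of_lt i.2)))
  haveI := fT
  refine ⟨Finite.of_equiv _ (Subgroup.topEquiv (G := P7)).toEquiv, ?_⟩
  rw [← Nat.card_congr (Subgroup.topEquiv (G := P7)).toEquiv]
  refine cT.trans ?_
  rw [HTop.fins_length, show (8160 : ℕ) = 255 * (32 * 1) from rfl]
  refine Nat.mul_le_mul le_rfl (cB.trans ?_)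
  rw [HBot.fins_length, Subgroup.card_bot]

theorem lift7_val {H : Type*} [Group H] (im : ℕ → H) (r : List ℕ) (hr : r ∈ rels7) :
    FreeGroup.lift (fun i : Fin 7 => im i.val) (r.map fun l => FreeGroup.of (Fin.ofNat 7 l)).prod = wval im r := by
  rw [map_list_prod, List.map_map, wval]
  refine congrArg List.prod (List.map_congr_left fun l hl => ?_)
  simp only [Function.comp_apply, FreeGroup.lift_apply_of]
  have h := List.all_eq_true.1 rels7_small r hr
  simp only [List.all_eq_true, decide_eq_true_eq] at h
  exact congrArg im (Nat.mod_eq_of_lt (h l hl))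

namespace NX

variable (X : NX K n x 2)
include X

/-- The subgroup. -/
theorem exists_sl16 : ∃ (H : Subgroup G) (N : Subgroup H) (F : Type) (_ : Field F) (_ : Fintype F),
    N.Normal ∧ N.index = 2 ∧ Fintype.card F = 16 ∧ Nonempty (N ≃* Matrix.SpecialLinearGroup (Fin 2) F) := by
  classical
  let f : Fin 7 → G := fun i => K.letters n goodVar (hMap i.val)
  let g : Fin 7 → L16 := fun i => imgs.getD i.val 1
  have hf : ∀ w ∈ freeRels7, FreeGroup.lift f w = 1 := by
    rintro _ ⟨r, hr, rfl⟩
    rw [show f = fun i : Fin 7 => (fun l => K.letters n goodVar (hMap l)) i.val from rfl,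
      lift7_val (fun l => K.letters n goodVar (hMap l)) r hr]
    have h := List.all_eq_true.1 rels7_all r hr
    simp only [List.contains_iff_mem] at h
    have h' := X.all_rels _ h
    simpa [wval, List.map_map, Function.comp_def] using h'
  have hg : ∀ w ∈ freeRels7, FreeGroup.lift g w = 1 := by
    rintro _ ⟨r, hr, rfl⟩
    rw [show g = fun i : Fin 7 => (fun l => imgs.getD l 1) i.val from rfl, lift7_val (fun l => imgs.getD l 1) r hr]
    have h := List.all_eq_true.1 rels7_model r hr
    simpa [wval] using h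
  let θ : P7 →* G := PresentedGroup.toGroup hf
  let ψ : P7 →* L16 := PresentedGroup.toGroup hg
  have hsurj : Function.Surjective ψ := by
    have hmem : ∀ l : Fin 7, imgs.getD l.val 1 ∈ ψ.range := fun l => ⟨PresentedGroup.of l, PresentedGroup.toGroup.of hg⟩
    have hword : ∀ w : List (Fin 7), (w.map fun l => imgs.getD l.val 1).prod ∈ ψ.range := fun w =>
      list_prod_mem fun y hy => by obtain ⟨l, -, rfl⟩ := List.mem_map.1 hy; exact hmem l
    set P : Subgroup SL16 := ψ.range.comap SemidirectProduct.inl with hP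
    have hb : ∀ k ∈ [(mk16 1, ([0] : List (Fin 7))), (mk16 2, [1, 3, 2, 3]), (mk16 4, [1, 2]), (mk16 8, [1])],
        uT k.1 ∈ P := by
      intro k hk
      have e : (SemidirectProduct.inl (uT k.1) : L16) = (k.2.map fun l => imgs.getD l.val 1).prod := by
        have := (by decide +kernel : [(mk16 1, ([0] : List (Fin 7))), (mk16 2, [1, 3, 2, 3]), (mk16 4, [1, 2]), (mk16 8, [1])].all
          (fun k => decide ((SemidirectProduct.inl (uT k.1) : L16) = (k.2.map fun l => imgs.getD l.val 1).prod)) = true)
        simpa using List.all_eq_true.1 this k hk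
      rw [hP, Subgroup.mem_comap, e]
      exact hword _
    have h0 : uT 0 ∈ P := by
      have : uT 0 = 1 := Subtype.ext (by show !![(1 : K16), 0; 0, 1] = 1; ext i j; fin_cases i <;> fin_cases j <;> simp)
      rw [this]; exact one_mem _
    have hu : ∀ x, uT x ∈ P := fun x => by
      rw [uT_basis x, ← uT_add, ← uT_add, ← uT_add]
      refine mul_mem (mul_mem (mul_mem ?_ ?_) ?_) ?_ <;> split_ifs <;> first
        | exact h0
        | exact hb (mk16 1, [0]) (by simp)
        | exact hb (mk16 2, [1, 3, 2, 3]) (by simp)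
        | exact hb (mk16 4, [1, 2]) (by simp)
        | exact hb (mk16 8, [1]) (by simp)
    have hw : wT ∈ P := by
      rw [hP, Subgroup.mem_comap]
      exact (by decide +kernel : (SemidirectProduct.inl wT : L16) = imgs.getD 5 1) ▸ hmem 5
    intro y
    have hs : (SemidirectProduct.inr (Multiplicative.ofAdd 1) : L16) ∈ ψ.range :=
      (by decide +kernel : (SemidirectProduct.inr (Multiplicative.ofAdd 1) : L16) = imgs.getD 3 1) ▸ hmem 3
    rw [← SemidirectProduct.inl_left_mul_inr_right y]
    refine MonoidHom.mem_range.1 (mul_mem (sl2_gen P hu hw y.left) ?_)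
    rcases (by decide : ∀ c : Multiplicative (ZMod 2), c = 1 ∨ c = Multiplicative.ofAdd 1) y.right with h | h <;> rw [h]
    · rw [map_one]; exact one_mem _
    · exact hs
  obtain ⟨hfin, hle⟩ := card_P7
  haveI := hfin
  have hcardS : Nat.card SL16 = 4080 := by
    rw [Cfsg.Lib.Classical.SLTwoTori.card_SL2, card_K16]
    norm_num
  have hcard : Nat.card L16 = 8160 := by
    rw [Nat.card_congr SemidirectProduct.equivProd, Nat.card_prod, hcardS,
      show Nat.card (Multiplicative (ZMod 2)) = 2 by rw [Nat.card_eq_fintype_card]; rfl]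
  haveI : Finite L16 := Nat.finite_of_card_ne_zero (by rw [hcard]; norm_num)
  have hψb : Function.Bijective ψ := (Nat.bijective_iff_surjective_and_card ψ).2
    ⟨hsurj, le_antisymm (hcard.symm ▸ hle) (Nat.card_le_card_of_surjective ψ hsurj)⟩
  let e := MulEquiv.ofBijective ψ hψb
  let χ : L16 →* G := θ.comp e.symm.toMonoidHom
  have hχl : ∀ i : Fin 7, χ (imgs.getD i.val 1) = f i := fun i => by
    have h : e (PresentedGroup.of i) = imgs.getD i.val 1 := PresentedGroup.toGroup.of hg
    rw [← h]
    show θ (e.symm (e _)) = f i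
    rw [MulEquiv.symm_apply_apply]
    exact PresentedGroup.toGroup.of hf
  let χs : SL16 →* G := χ.comp SemidirectProduct.inl
  haveI hps : IsSimpleGroup (Matrix.ProjectiveSpecialLinearGroup (Fin 2) K16) :=
    Cfsg.Lib.Classical.isSimpleGroup_PSL_fin le_rfl fun _ => by rw [Nat.card_eq_fintype_card, card_K16]; norm_num
  have hcen : Subgroup.center SL16 = ⊥ := by
    refine (eq_bot_iff_forall _).2 fun A hA => ?_
    obtain ⟨r, hr, hA'⟩ := Matrix.SpecialLinearGroup.mem_center_iff.1 hA
    rw [Fintype.card_fin] at hr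
    have hr1 : r = 1 := (by decide +kernel : ∀ r : K16, r ^ 2 = 1 → r = 1) r hr
    exact Subtype.ext (by rw [← hA', hr1, map_one]; rfl)
  have hinjS : Function.Injective χs := by
    rw [← MonoidHom.ker_eq_bot_iff]
    haveI hm : (χs.ker.map (QuotientGroup.mk' (Subgroup.center SL16))).Normal :=
      (inferInstance : χs.ker.Normal).map _ (QuotientGroup.mk'_surjective _)
    rcases IsSimpleGroup.eq_bot_or_eq_top_of_normal
      (χs.ker.map (QuotientGroup.mk' (Subgroup.center SL16)) : Subgroup (Matrix.ProjectiveSpecialLinearGroup (Fin 2) K16)) hm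
      with h | h
    · refine (eq_bot_iff_forall _).2 fun A hA => ?_
      have h1 := Subgroup.mem_map_of_mem (QuotientGroup.mk' (Subgroup.center SL16)) hA
      have h2 : QuotientGroup.mk' (Subgroup.center SL16) A = 1 := mem_bot.1 (h ▸ h1)
      have h3 := (QuotientGroup.eq_one_iff A).1 h2
      rw [hcen] at h3
      exact mem_bot.1 h3
    · exfalso
      have hu1 : (QuotientGroup.mk' (Subgroup.center SL16) (uT 1)) ∈ χs.ker.map (QuotientGroup.mk' (Subgroup.center SL16)) :=
        h.symm ▸ mem_top _
      obtain ⟨A, hA, hA'⟩ := mem_map.1 hu1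
      have h3 : A⁻¹ * uT 1 ∈ Subgroup.center SL16 := QuotientGroup.eq.1 hA'
      rw [hcen, mem_bot, inv_mul_eq_one] at h3
      subst h3
      have h4 : χ (imgs.getD 0 1) = 1 := by
        rw [show imgs.getD 0 1 = (SemidirectProduct.inl (uT 1) : L16) by decide +kernel]
        exact hA
      have h5 := (hχl 0).symm.trans h4
      exact K.ne (K.el_one ▸ h5)
  have hinj : Function.Injective χ := by
    rw [← MonoidHom.ker_eq_bot_iff]
    refine (eq_bot_iff_forall _).2 fun k hk => ?_
    have hcom : ∀ A : SL16, k * SemidirectProduct.inl A = SemidirectProduct.inl A * k := by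
      intro A
      have hm : k * SemidirectProduct.inl A * k⁻¹ * (SemidirectProduct.inl A)⁻¹ ∈ χ.ker := by
        rw [MonoidHom.mem_ker, map_mul, map_mul, map_mul, map_inv, map_inv, MonoidHom.mem_ker.1 hk]
        group
      set c := k * SemidirectProduct.inl A * k⁻¹ * (SemidirectProduct.inl A)⁻¹ with hc
      have hright : c.right = 1 := by
        have h2 : ∀ p q : Multiplicative (ZMod 2), p * 1 * p⁻¹ * 1⁻¹ = 1 := fun p q => by group
        simpa [hc] using h2 k.right 1
      have hce : c = SemidirectProduct.inl c.left := SemidirectProduct.ext rfl hright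
      have h1 : χs c.left = 1 := by
        show χ (SemidirectProduct.inl c.left) = 1
        rw [← hce]; exact hm
      have h3 : c.left = 1 := hinjS (h1.trans (map_one χs).symm)
      rw [h3, map_one, hc, mul_inv_eq_one, mul_inv_eq_iff_eq_mul] at hce
      exact hce
    have hr : k.right = 1 := by
      by_contra hr
      have hr' : k.right = Multiplicative.ofAdd 1 :=
        ((by decide : ∀ c : Multiplicative (ZMod 2), c = 1 ∨ c = Multiplicative.ofAdd 1) k.right).resolve_left hr
      have hA : ∀ B : SL16, k.left * frobAut B = B * k.left := fun B => by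
        have h := congrArg SemidirectProduct.left (hcom B)
        rw [SemidirectProduct.mul_left, SemidirectProduct.mul_left, SemidirectProduct.left_inl,
          SemidirectProduct.right_inl, hr', show act (Multiplicative.ofAdd 1) = frobAut from rfl] at h
        simpa using h
      have key : ∀ {A : SL16}, A * uT 1 = uT 1 * A → A * wT = wT * A → A = 1 := by
        intro A h1 h2
        have hdet := (Matrix.det_fin_two A.1).symm.trans A.2
        have e00 : (A.1 * !![(1 : K16), 1; 0, 1]) 0 0 = (!![(1 : K16), 1; 0, 1] * A.1) 0 0 :=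
          congrArg (fun M : SL16 => M.1 0 0) h1
        have e01 : (A.1 * !![(1 : K16), 1; 0, 1]) 0 1 = (!![(1 : K16), 1; 0, 1] * A.1) 0 1 :=
          congrArg (fun M : SL16 => M.1 0 1) h1
        have e10 : (A.1 * !![(0 : K16), 1; 1, 0]) 0 0 = (!![(0 : K16), 1; 1, 0] * A.1) 0 0 :=
          congrArg (fun M : SL16 => M.1 0 0) h2
        simp [Matrix.mul_apply, Fin.sum_univ_two] at e00 e01 e10
        have hc0 : A.1 1 0 = 0 := e00
        have hb0 : A.1 0 1 = 0 := e10.trans hc0
        have had : A.1 1 1 = A.1 0 0 := by linear_combination (-1 : K16) * e01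
        rw [hc0, had, hb0, mul_zero, sub_zero] at hdet
        have ha : A.1 0 0 = 1 := (by decide +kernel : ∀ r : K16, r * r = 1 → r = 1) _ hdet
        refine Subtype.ext ?_
        ext i j
        fin_cases i <;> fin_cases j <;> simp [hc0, hb0, ha, had]
      have hk1 : k.left = 1 := key
        (by
          have := hA (uT 1)
          rwa [show frobAut (uT 1) = uT 1 by decide +kernel] at this)
        (by
          have := hA wT
          rwa [show frobAut wT = wT by decide +kernel] at this)
      have := hA (uT (mk16 2))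
      rw [hk1, one_mul, mul_one] at this
      exact absurd this (by decide +kernel)
    have hl : χs k.left = 1 := by
      show χ (SemidirectProduct.inl k.left) = 1
      rw [show SemidirectProduct.inl k.left = k from SemidirectProduct.ext rfl hr.symm]
      exact hk
    exact SemidirectProduct.ext (hinjS (hl.trans (map_one χs).symm)) hr
  have hle' : χs.range ≤ χ.range := fun y ⟨A, hA⟩ => ⟨SemidirectProduct.inl A, hA⟩
  refine ⟨χ.range, χs.range.subgroupOf χ.range, K16, inferInstance, inferInstance, ?_, ?_, card_K16, ?_⟩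
  · constructor
    rintro ⟨_, p, rfl⟩ hy ⟨_, d, rfl⟩
    rw [mem_subgroupOf] at hy ⊢
    obtain ⟨A, hA⟩ := hy
    have hp : p = SemidirectProduct.inl A := hinj hA.symm
    subst hp
    set q := d * SemidirectProduct.inl A * d⁻¹ with hq
    refine ⟨q.left, ?_⟩
    have hqr : q.right = 1 := by simp [hq]
    show χ (SemidirectProduct.inl q.left) = χ d * χ (SemidirectProduct.inl A) * (χ d)⁻¹
    rw [show SemidirectProduct.inl q.left = q from SemidirectProduct.ext rfl hqr.symm, hq, map_mul, map_mul, map_inv]
  · have h1 : Nat.card (χs.range.subgroupOf χ.range) = 4080 := by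
      rw [Nat.card_congr (Subgroup.subgroupOfEquivOfLe (hle' : χs.range ≤ χ.range)).toEquiv,
        ← Nat.card_congr (MonoidHom.ofInjective hinjS).toEquiv, hcardS]
    have h2 := Subgroup.card_mul_index (χs.range.subgroupOf χ.range)
    rw [h1, ← Nat.card_congr (MonoidHom.ofInjective hinj).toEquiv, hcard] at h2
    omega
  · exact ⟨(Subgroup.subgroupOfEquivOfLe (hle' : χs.range ≤ χ.range)).trans (MonoidHom.ofInjective hinjS).symm⟩

end NX

/-- The centralizer gives the subgroup. -/
theorem sl16_of_centralizer {G : Type*} [Group G] [Finite G] [IsSimpleGroup G] {t : G} (ht : orderOf t = 2)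
    (Q : Subgroup (Cz t)) [Q.Normal]
    (hQ : Cfsg.IsExtraspecial 2 Q) (hcard : Nat.card Q = 32) (h2c : centralizer (Q : Set (Cz t)) ≤ Q)
    (e : (Cz t) ⧸ Q ≃* alternatingGroup (Fin 5))
    (hone : ∀ x y : G, orderOf x = 2 → orderOf y = 2 → IsConj x y) :
    ∃ (H : Subgroup G) (N : Subgroup H) (F : Type) (_ : Field F) (_ : Fintype F),
      N.Normal ∧ N.index = 2 ∧ Fintype.card F = 16 ∧ Nonempty (N ≃* Matrix.SpecialLinearGroup (Fin 2) F) := by
  obtain ⟨a, σ, D⟩ := exists_data_of_cen ht Q h2c hQ (by rw [hcard]; norm_num)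
    (e.toMonoidHom.comp (QuotientGroup.mk' Q)) (e.surjective.comp (QuotientGroup.mk'_surjective Q)) (by
      ext c
      rw [MonoidHom.mem_ker]
      show e (c : (Cz t) ⧸ Q) = 1 ↔ _
      rw [MulEquiv.map_eq_one_iff, QuotientGroup.eq_one_iff])
  obtain ⟨a', ρ, K, n, x, X⟩ := exists_setup D hone
  exact X.exists_sl16

end Cfsg.Lib.J3Type
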